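import Cfsg.Agent.Lib.CIT.GenModelsThree
import Cfsg.Agent.Lib.L34Mult.OddBound
import Cfsg.Agent.S2476

/-!
# `PSL₃(4)`: what the local analysis in the Suzuki sporadic group uses

The order, the class of involutions, the centralizers of elements of order five and seven, and
the number of involutions whose product with a given one has odd order.
-/

set_option autoImplicit false
set_option linter.unusedSectionVars false

namespace Cfsg.Agent.SuzukiLocal.PlaneModel

open Matrix

universe u v

variable {F : Type u} [Field F] [Fintype F]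

local notation "M3" => Matrix (Fin 3) (Fin 3) F
local notation "SL3" => Matrix.SpecialLinearGroup (Fin 3) F
local notation "P3" => Matrix.ProjectiveSpecialLinearGroup (Fin 3) F

theorem psl_order_mem (h4 : Fintype.card F = 4) (x : P3) : orderOf x ∈ [1, 2, 3, 4, 5, 7] := by
  haveI : Fact (Nat.Prime 2) := ⟨Nat.prime_two⟩
  haveI : CharP F 2 :=
    CharTwo.of_one_ne_zero_of_two_eq_zero one_ne_zero (CIT.Gen.two_eq_zero_four h4)
  have h := (S2476.result (F := F) 2).le ⟨x, rfl⟩
  simp only [Set.mem_setOf_eq, h4] at h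
  norm_num at h
  have key : ∀ n d : ℕ, 0 < d → d ≤ 7 → n ∣ d → n ≤ 7 := fun n d hd hd7 hn =>
    (Nat.le_of_dvd hd hn).trans hd7
  have hle : orderOf x ≤ 7 := by
    rcases h with h | h | h | h | h <;> exact key _ _ (by norm_num) (by norm_num) h
  generalize orderOf x = n at h hle
  interval_cases n <;> simp_all

/-- A centralizer of an element of order five or seven is the group it generates. -/
theorem psl_card_centralizer (h4 : Fintype.card F = 4) (b : P3)
    (hb : orderOf b = 5 ∨ orderOf b = 7) :
    Nat.card (Subgroup.centralizer ({b} : Set P3)) = orderOf b := by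
  classical
  have hp : (orderOf b).Prime := by rcases hb with h | h <;> rw [h] <;> norm_num
  haveI := Fact.mk hp
  set p := orderOf b with hpb
  set C := Subgroup.centralizer ({b} : Set P3)
  have hC : IsPGroup p C := by
    refine IsPGroup.of_card (n := (Nat.card C).primeFactorsList.length)
      (Nat.eq_prime_pow_of_unique_prime_dvd Nat.card_pos.ne' ?_)
    intro q hq hqC
    haveI := Fact.mk hq
    obtain ⟨g, hg⟩ := exists_prime_orderOf_dvd_card' q hqC
    by_contra hne
    have hcomm : Commute (g : P3) b := Subgroup.mem_centralizer_singleton_iff.1 g.2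
    have hgq : orderOf (g : P3) = q := (Subgroup.orderOf_coe g).trans hg
    have ho : orderOf ((g : P3) * b) = q * p := by
      rw [hcomm.orderOf_mul_eq_mul_orderOf_of_coprime, hgq, ← hpb]
      rw [hgq, ← hpb]
      exact (Nat.coprime_primes hq hp).2 hne
    have hmem := psl_order_mem h4 ((g : P3) * b)
    rw [ho] at hmem
    have h2q := hq.two_le
    rcases hb with h | h <;> rw [h] at hmem <;>
      simp only [List.mem_cons, List.not_mem_nil, or_false] at hmem <;> omega
  have hmem : b ∈ C := Subgroup.mem_centralizer_singleton_iff.2 rfl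
  obtain ⟨n, hn⟩ := (IsPGroup.iff_card).1 hC
  have hdvd : Nat.card C ∣ 20160 := L34Mult.card_psl h4 ▸ Subgroup.card_subgroup_dvd_card C
  have hpdvd : p ∣ Nat.card C := Subgroup.orderOf_dvd_natCard C hmem
  have hsq : ¬ p ^ 2 ∣ 20160 := by rcases hb with h | h <;> rw [h] <;> norm_num
  have hn1 : n = 1 := by
    rcases n with _ | _ | n
    · rw [hn, pow_zero] at hpdvd
      exact absurd (Nat.le_of_dvd one_pos hpdvd) (not_le.2 hp.one_lt)
    · rfl
    · exact absurd ((pow_dvd_pow p (by omega)).trans (hn ▸ hdvd)) hsq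
  rw [hn, hn1, pow_one]

/-- A matrix of square zero, not zero, is a column times a row. -/
theorem exists_vecMulVec {N : M3} (h0 : N ≠ 0) (h : N * N = 0) :
    ∃ y ψ : Fin 3 → F, N = vecMulVec y ψ := by
  classical
  have hr : Module.finrank F (LinearMap.range N.mulVecLin) = 1 :=
    CIT.Gen.rank_eq_one_of_sq_zero h0 h
  obtain ⟨y, -, hy⟩ := finrank_eq_one_iff'.1 hr
  choose ψ hψ using fun j => hy ⟨N *ᵥ Pi.single j 1, Pi.single j 1, rfl⟩
  refine ⟨(y : Fin 3 → F), ψ, ?_⟩
  ext i j
  have e : ψ j • (y : Fin 3 → F) = N *ᵥ Pi.single j 1 := congrArg Subtype.val (hψ j)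
  have := congrFun e i
  rw [mulVec_single_one] at this
  simp only [Pi.smul_apply, smul_eq_mul] at this
  rw [vecMulVec_apply, mul_comm, this]
  rfl

/-- The standard involution is `1 + e`. -/
def eMat : M3 := !![0, 1, 0; 0, 0, 0; 0, 0, 0]

/-- The square-zero matrix with parameters `(a, s, t, r)`. -/
def nMat (q : {a : F // a ≠ 0} × F × F × F) : M3 :=
  vecMulVec ![q.2.1, (q.1 : F), q.2.2.1]
    ![1, (q.1 : F)⁻¹ * (q.2.1 + q.2.2.1 * q.2.2.2), q.2.2.2]

theorem eMat_sq : (eMat : M3) * eMat = 0 := by
  ext i j; fin_cases i <;> fin_cases j <;> simp [eMat, Matrix.mul_apply, Fin.sum_univ_three]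

theorem eMat_mul_mul (N : M3) : (eMat : M3) * (N * eMat) = N 1 0 • eMat := by
  ext i j; fin_cases i <;> fin_cases j <;> simp [eMat, Matrix.mul_apply, Fin.sum_univ_three]

theorem mul_eMat_mul {N : M3} {y ψ : Fin 3 → F} (hN : N = vecMulVec y ψ) :
    N * (eMat * N) = N 1 0 • N := by
  subst hN
  ext i j
  fin_cases i <;> fin_cases j <;>
    simp [eMat, Matrix.mul_apply, Fin.sum_univ_three, vecMulVec_apply, Matrix.vecMul, dotProduct] <;>
      ring

theorem nMat_sq (h4 : Fintype.card F = 4) (q : {a : F // a ≠ 0} × F × F × F) :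
    (nMat q : M3) * nMat q = 0 := by
  obtain ⟨⟨a, ha⟩, s, t, r⟩ := q
  have h2 := CIT.Gen.two_eq_zero_four h4
  have h0 : (![1, a⁻¹ * (s + t * r), r] : Fin 3 → F) ⬝ᵥ ![s, a, t] = 0 := by
    simp [dotProduct, Fin.sum_univ_three]
    field_simp
    linear_combination (s + t * r) * h2
  rw [nMat, vecMulVec_mul_vecMulVec, h0, zero_smul]
  ext i j
  simp [vecMulVec_apply]

theorem det_one_add_nMat (h4 : Fintype.card F = 4) (q : {a : F // a ≠ 0} × F × F × F) :
    (1 + nMat q : M3).det = 1 := by
  obtain ⟨⟨a, ha⟩, s, t, r⟩ := q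
  have h2 := CIT.Gen.two_eq_zero_four h4
  rw [det_fin_three]
  simp [nMat, vecMulVec_apply, Matrix.one_apply]
  field_simp
  linear_combination (s + t * r) * h2

/-- The product of `1 + e` and `1 + N` has order dividing four if `e N e = 0`. -/
theorem pow_four_eq_one {e N : M3} (h2 : (2 : F) = 0)
    (he00 : e * e = 0) (hN : N * N = 0) (he : e * (N * e) = 0)
    (hn : N * (e * N) = 0) : ((1 + e) * (1 + N)) ^ 4 = (1 : M3) := by
  have hdd : ∀ x : M3, x + x = 0 := fun x => by rw [← two_smul F x, h2, zero_smul]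
  have hdd' : ∀ x y : M3, x + (x + y) = y := fun x y => by rw [← add_assoc, hdd, zero_add]
  have hN' : ∀ x : M3, N * (N * x) = 0 := fun x => by rw [← mul_assoc, hN, zero_mul]
  have he0' : ∀ x : M3, e * (e * x) = 0 := fun x => by
    rw [← mul_assoc, he00, zero_mul]
  have he' : ∀ x : M3, e * (N * (e * x)) = 0 := fun x => by
    rw [← mul_assoc, ← mul_assoc, mul_assoc e N, he, zero_mul]
  have hn' : ∀ x : M3, N * (e * (N * x)) = 0 := fun x => by
    rw [← mul_assoc, ← mul_assoc, mul_assoc N e, hn, zero_mul]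
  have hsq : ((1 + e) * (1 + N)) ^ 2 = (1 : M3) + (e * N + N * e) := by
    rw [sq]
    simp only [mul_add, add_mul, one_mul, mul_one, mul_assoc, he00, he0', hN, hN', he, he',
      hn, hn', add_zero, zero_add, mul_zero]
    simp [add_assoc, add_comm, add_left_comm, hdd, hdd']
  rw [show (4 : ℕ) = 2 * 2 from rfl, pow_mul, hsq, sq]
  simp only [mul_add, add_mul, one_mul, mul_one, mul_assoc, he00, he0', hN, hN', he, he',
    hn, hn', add_zero, zero_add, mul_zero]
  simp [add_assoc, add_comm, add_left_comm, hdd, hdd']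

/-- The product of `1 + e` and `1 + N` has order dividing fifteen otherwise. -/
theorem pow_fifteen_eq_one {e N : M3} {a : F} (h4 : Fintype.card F = 4) (ha : a ≠ 0)
    (he00 : e * e = 0) (hN : N * N = 0)
    (he : e * (N * e) = a • e)
    (hn : N * (e * N) = a • N) :
    ((1 + e) * (1 + N)) ^ 15 = (1 : M3) := by
  have h2 := CIT.Gen.two_eq_zero_four h4
  have hdd : ∀ x : M3, x + x = 0 := fun x => by rw [← two_smul F x, h2, zero_smul]
  have hN' : ∀ x : M3, N * (N * x) = 0 := fun x => by rw [← mul_assoc, hN, zero_mul]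
  have he0' : ∀ x : M3, e * (e * x) = 0 := fun x => by
    rw [← mul_assoc, he00, zero_mul]
  have he' : ∀ x : M3, e * (N * (e * x)) = a • (e * x) := fun x => by
    rw [← mul_assoc, ← mul_assoc, mul_assoc e N, he, smul_mul_assoc]
  have hn' : ∀ x : M3, N * (e * (N * x)) = a • (N * x) := fun x => by
    rw [← mul_assoc, ← mul_assoc, mul_assoc N e, hn, smul_mul_assoc]
  set W : M3 := (1 + e) * (1 + N) with hW
  have hkey : W ^ 3 = (a + 1) • W ^ 2 + (a + 1) • W + 1 := by
    rw [pow_succ, sq, hW]
    simp only [mul_add, add_mul, one_mul, mul_one, mul_assoc, he00, he0', hN, hN', he, he',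
      hn, hn', add_zero, zero_add, mul_zero, mul_smul_comm, smul_mul_assoc, smul_smul, smul_add,
      smul_zero]
    match_scalars <;> grind
  have h3 : a ^ 3 = 1 := CIT.Gen.pow_three_eq_one h4 ha
  rcases eq_or_ne a 1 with rfl | ha1
  · have : W ^ 3 = 1 := by
      rw [hkey, show (1 + 1 : F) = 0 by linear_combination h2]
      simp
    rw [show (15 : ℕ) = 3 * 5 from rfl, pow_mul, this, one_pow]
  · have hq : a ^ 2 + a + 1 = 0 := by
      have : (a - 1) * (a ^ 2 + a + 1) = 0 := by linear_combination h3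
      exact (mul_eq_zero.1 this).resolve_left (sub_ne_zero.2 ha1)
    have h4' : W ^ 4 = W ^ 2 + (a + 1) • W + (a + 1) • (1 : M3) := by
      rw [pow_succ, hkey, add_mul, add_mul, smul_mul_assoc, smul_mul_assoc, one_mul, ← pow_succ,
        ← sq, hkey]
      match_scalars <;> grind
    have h5 : W ^ 5 = 1 := by
      rw [pow_succ, h4', add_mul, add_mul, smul_mul_assoc, smul_mul_assoc, one_mul, ← pow_succ,
        ← sq, hkey]
      match_scalars <;> grind
    rw [show (15 : ℕ) = 5 * 3 from rfl, pow_mul, h5, one_pow]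

/-- In `PSL₃(4)`: the involutions whose product with a given one has odd order. -/
theorem psl_card_odd (h4 : Fintype.card F = 4) (u : P3) (hu : orderOf u = 2) :
    Nat.card {v : P3 // orderOf v = 2 ∧ Odd (orderOf (u * v))} = 193 := by
  classical
  have h2 := CIT.Gen.two_eq_zero_four h4
  set E : SL3 := ⟨1 + eMat, by rw [det_fin_three]; simp [eMat, Matrix.one_apply]⟩ with hEdef
  have hE' : (E : M3) = 1 + eMat := rfl
  have hdd : ∀ x : M3, x + x = 0 := fun x => by rw [← two_smul F x, h2, zero_smul]
  have hEE : (E : M3) * (E : M3) = 1 := by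
    rw [hE', mul_add, add_mul, add_mul, one_mul, one_mul, mul_one, eMat_sq, add_zero, add_assoc,
      hdd, add_zero]
  have heq : ∀ A B : SL3, (A : M3) * (A : M3) = 1 → (B : M3) * (B : M3) = 1 →
      (QuotientGroup.mk A : P3) = QuotientGroup.mk B → A = B := by
    intro A B hA hB e
    obtain ⟨c, -, hc⟩ := Matrix.SpecialLinearGroup.mem_center_iff.1
      (QuotientGroup.eq.1 e : A⁻¹ * B ∈ Subgroup.center SL3)
    have hB' : (B : M3) = c • (A : M3) := by
      rw [show B = A * (A⁻¹ * B) by group, Matrix.SpecialLinearGroup.coe_mul, ← hc,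
        Matrix.scalar_apply, ← Matrix.smul_one_eq_diagonal, mul_smul_comm, mul_one]
    rw [hB', smul_mul_smul_comm, hA] at hB
    have hc2 : c * c = 1 := by simpa using congrFun (congrFun hB 0) 0
    have hc1 : c = 1 := by
      have : (c - 1) * (c - 1) = 0 := by linear_combination hc2 - (c - 1) * h2
      exact sub_eq_zero.1 (mul_self_eq_zero.1 this)
    exact (Subtype.ext (by rw [hB', hc1, one_smul])).symm
  have h1sq : ((1 : SL3) : M3) * ((1 : SL3) : M3) = 1 := by simp
  have hord : orderOf (QuotientGroup.mk E : P3) = 2 := by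
    haveI : Fact (Nat.Prime 2) := ⟨Nat.prime_two⟩
    refine orderOf_eq_prime ?_ fun e => ?_
    · rw [← QuotientGroup.mk_pow, show E ^ 2 = 1 from Subtype.ext (by
        rw [Matrix.SpecialLinearGroup.coe_pow, sq, hEE, Matrix.SpecialLinearGroup.coe_one])]
      rfl
    · have := congrArg (fun A : SL3 => (A : M3) 0 1) (heq E 1 hEE h1sq e)
      simp [hE', eMat] at this
  obtain ⟨g, hg⟩ := isConj_iff.1 (CIT.Gen.oneClass_three_four h4 _ _ hu hord)
  have hswap : Nat.card {v : P3 // orderOf v = 2 ∧ Odd (orderOf (u * v))} =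
      Nat.card {v : P3 // orderOf v = 2 ∧ Odd (orderOf ((QuotientGroup.mk E : P3) * v))} := by
    refine Nat.card_congr (Equiv.subtypeEquiv (MulAut.conj g).toEquiv fun v => ?_)
    have e1 : MulAut.conj g u = QuotientGroup.mk E := hg
    show _ ↔ orderOf (MulAut.conj g v) = 2 ∧
      Odd (orderOf ((QuotientGroup.mk E : P3) * MulAut.conj g v))
    rw [← e1, ← map_mul, MulEquiv.orderOf_eq, MulEquiv.orderOf_eq]
  rw [hswap]
  -- the parametrization
  let T : {a : F // a ≠ 0} × F × F × F → SL3 := fun q => ⟨1 + nMat q, det_one_add_nMat h4 q⟩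
  have hT' : ∀ q, (T q : M3) = 1 + nMat q := fun q => rfl
  have hTT : ∀ q, (T q : M3) * (T q : M3) = 1 := fun q => by
    rw [hT', mul_add, add_mul, add_mul, one_mul, one_mul, mul_one, nMat_sq h4, add_zero, add_assoc,
      hdd, add_zero]
  let f : Option ({a : F // a ≠ 0} × F × F × F) →
      {v : P3 // orderOf v = 2 ∧ Odd (orderOf ((QuotientGroup.mk E : P3) * v))} := fun o =>
    match o with
    | none => ⟨QuotientGroup.mk E, hord, by
        rw [← sq, ← hord, pow_orderOf_eq_one, orderOf_one]; exact odd_one⟩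
    | some q => ⟨QuotientGroup.mk (T q), by
        haveI : Fact (Nat.Prime 2) := ⟨Nat.prime_two⟩
        refine orderOf_eq_prime ?_ fun e => ?_
        · rw [← QuotientGroup.mk_pow, show T q ^ 2 = 1 from Subtype.ext (by
            rw [Matrix.SpecialLinearGroup.coe_pow, sq, hTT, Matrix.SpecialLinearGroup.coe_one])]
          rfl
        · have := congrArg (fun A : SL3 => (A : M3) 1 0) (heq (T q) 1 (hTT q) h1sq e)
          simp [hT', nMat, vecMulVec_apply, q.1.2] at this, by
        have h15 : ((E * T q) ^ 15 : SL3) = 1 := Subtype.ext (by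
          rw [Matrix.SpecialLinearGroup.coe_pow, Matrix.SpecialLinearGroup.coe_mul, hE', hT',
            Matrix.SpecialLinearGroup.coe_one]
          refine pow_fifteen_eq_one h4 q.1.2 eMat_sq (nMat_sq h4 q) ?_ ?_
          · rw [eMat_mul_mul]; simp [nMat, vecMulVec_apply]
          · rw [mul_eMat_mul (N := nMat q) rfl]; simp [nMat, vecMulVec_apply])
        rw [← QuotientGroup.mk_mul]
        refine Odd.of_dvd_nat (by decide : Odd 15) (orderOf_dvd_of_pow_eq_one ?_)
        rw [← QuotientGroup.mk_pow, h15]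
        rfl⟩
  have hne : ∀ q, (QuotientGroup.mk (T q) : P3) ≠ QuotientGroup.mk E := fun q e => by
    have := congrArg (fun A : SL3 => (A : M3) 1 0) (heq (T q) E (hTT q) hEE e)
    simp [hT', hE', eMat, nMat, vecMulVec_apply, q.1.2] at this
  have hinj : Function.Injective f := by
    rintro (_ | q) (_ | q') e
    · rfl
    · exact absurd (congrArg Subtype.val e).symm (hne q')
    · exact absurd (congrArg Subtype.val e) (hne q)
    · have hM : (nMat q : M3) = nMat q' :=
        add_left_cancel (congrArg Subtype.val (heq (T q) (T q') (hTT q) (hTT q')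
          (congrArg Subtype.val e)) : (1 + nMat q : M3) = 1 + nMat q')
      obtain ⟨⟨a, ha⟩, s, t, r⟩ := q
      obtain ⟨⟨a', ha'⟩, s', t', r'⟩ := q'
      have h10 := congrFun (congrFun hM 1) 0
      have h00 := congrFun (congrFun hM 0) 0
      have h20 := congrFun (congrFun hM 2) 0
      have h12 := congrFun (congrFun hM 1) 2
      simp [nMat, vecMulVec_apply] at h10 h00 h20 h12
      subst h10 h00 h20
      obtain rfl : r = r' := mul_left_cancel₀ ha h12
      rfl
  have hsurj : Function.Surjective f := by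
    rintro ⟨v, hv2, hvo⟩
    by_cases hvE : v = QuotientGroup.mk E
    · exact ⟨none, Subtype.ext hvE.symm⟩
    -- the lift of `v` which is an involution
    obtain ⟨V, hVV, rfl⟩ : ∃ V : SL3, (V : M3) * (V : M3) = 1 ∧ QuotientGroup.mk V = v := by
      induction v using QuotientGroup.induction_on with
      | _ M =>
      obtain ⟨c, hc3, hc⟩ := Matrix.SpecialLinearGroup.mem_center_iff.1
        ((QuotientGroup.eq_one_iff (M * M)).1 (by
          rw [QuotientGroup.mk_mul, ← sq, ← hv2]; exact pow_orderOf_eq_one _) :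
          M * M ∈ Subgroup.center SL3)
      rw [Fintype.card_fin] at hc3
      have hMM : (M : M3) * (M : M3) = c • (1 : M3) := by
        rw [← Matrix.SpecialLinearGroup.coe_mul, ← hc, Matrix.scalar_apply,
          Matrix.smul_one_eq_diagonal]
      refine ⟨⟨c • (M : M3), by rw [det_smul, M.2, Fintype.card_fin, hc3, one_mul]⟩, ?_,
        CIT.Gen.mk_eq_mk_of_scalar (c := c) rfl⟩
      show c • (M : M3) * (c • (M : M3)) = 1
      rw [smul_mul_smul_comm, hMM, smul_smul, show c * c * c = 1 by rw [← hc3]; ring, one_smul]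
    set N : M3 := (V : M3) - 1 with hNdef
    have hV : (V : M3) = 1 + N := by rw [hNdef, add_sub_cancel]
    have hN : N * N = 0 := by
      rw [hV, mul_add, add_mul, add_mul, one_mul, one_mul, mul_one, add_assoc, ← add_assoc N N,
        hdd, zero_add] at hVV
      exact add_eq_left.1 hVV
    have hN0 : N ≠ 0 := fun e => by
      have hV1 : V = 1 := Subtype.ext (by
        rw [hV, e, add_zero, Matrix.SpecialLinearGroup.coe_one])
      rw [hV1, QuotientGroup.mk_one, orderOf_one] at hv2
      omega
    obtain ⟨y, ψ, hyψ⟩ := exists_vecMulVec hN0 hN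
    have h10 : N 1 0 ≠ 0 := by
      intro h0
      have h4' : (E * V) ^ 4 = 1 := Subtype.ext (by
        rw [Matrix.SpecialLinearGroup.coe_pow, Matrix.SpecialLinearGroup.coe_mul, hE', hV,
          Matrix.SpecialLinearGroup.coe_one]
        exact pow_four_eq_one h2 eMat_sq hN (by rw [eMat_mul_mul, h0, zero_smul])
          (by rw [mul_eMat_mul hyψ, h0, zero_smul]))
      have hd : orderOf ((QuotientGroup.mk E : P3) * QuotientGroup.mk V) ∣ 4 := by
        rw [← QuotientGroup.mk_mul]
        refine orderOf_dvd_of_pow_eq_one ?_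
        rw [← QuotientGroup.mk_pow, h4']
        rfl
      have h1 : orderOf ((QuotientGroup.mk E : P3) * QuotientGroup.mk V) = 1 := by
        obtain ⟨k, hk, hk'⟩ := (Nat.dvd_prime_pow Nat.prime_two).1
          (show _ ∣ 2 ^ 2 from hd)
        rcases k with _ | k
        · simpa using hk'
        · rw [hk', pow_succ] at hvo
          exact absurd hvo (Nat.not_odd_iff_even.2 (even_two.mul_left _))
      rw [orderOf_eq_one_iff, mul_eq_one_iff_inv_eq] at h1
      apply hvE
      rw [← h1, inv_eq_iff_mul_eq_one, ← sq, ← hord, pow_orderOf_eq_one]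
    have hy1 : y 1 ≠ 0 := fun e => h10 (by rw [hyψ, vecMulVec_apply, e, zero_mul])
    have hψ0 : ψ 0 ≠ 0 := fun e => h10 (by rw [hyψ, vecMulVec_apply, e, mul_zero])
    have hdot : ψ 0 * y 0 + ψ 1 * y 1 + ψ 2 * y 2 = 0 := by
      have := congrFun (congrFun hN 1) 0
      rw [hyψ] at this
      simp [Matrix.mul_apply, Fin.sum_univ_three, vecMulVec_apply] at this
      have h' : y 1 * ψ 0 * (ψ 0 * y 0 + ψ 1 * y 1 + ψ 2 * y 2) = 0 := by linear_combination this
      exact (mul_eq_zero.1 h').resolve_left (mul_ne_zero hy1 hψ0)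
    refine ⟨some (⟨y 1 * ψ 0, mul_ne_zero hy1 hψ0⟩, y 0 * ψ 0, y 2 * ψ 0, ψ 2 / ψ 0),
      Subtype.ext (congrArg QuotientGroup.mk (Subtype.ext ?_))⟩
    show (1 + nMat _ : M3) = (V : M3)
    rw [hV, hyψ]
    congr 1
    ext i j
    fin_cases i <;> fin_cases j <;> simp [nMat, vecMulVec_apply] <;> field_simp <;> grind
  rw [← Nat.card_eq_of_bijective f ⟨hinj, hsurj⟩, Nat.card_eq_fintype_card, Fintype.card_option,
    Fintype.card_prod, Fintype.card_prod, Fintype.card_prod, Fintype.card_subtype_compl,
    Fintype.card_subtype_eq, h4]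

section Abstract

variable {M : Type v} [Group M]

/-- Order. -/
theorem card_eq (h4 : Fintype.card F = 4) (e : M ≃* P3) : Nat.card M = 20160 := by
  rw [Nat.card_congr e.toEquiv, L34Mult.card_psl h4]

/-- The involutions form one class. -/
theorem involutions_conj (h4 : Fintype.card F = 4) (e : M ≃* P3) {x y : M} (hx : orderOf x = 2)
    (hy : orderOf y = 2) : IsConj x y := by
  have h := CIT.Gen.oneClass_three_four h4 (e x) (e y) (by rw [MulEquiv.orderOf_eq, hx])
    (by rw [MulEquiv.orderOf_eq, hy])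
  simpa using e.symm.toMonoidHom.map_isConj h

/-- The centralizer of an element of order five or seven. -/
theorem card_centralizer (h4 : Fintype.card F = 4) (e : M ≃* P3) {b : M}
    (hb : orderOf b = 5 ∨ orderOf b = 7) :
    Nat.card (Subgroup.centralizer ({b} : Set M)) = orderOf b := by
  rw [← MulEquiv.orderOf_eq e b, ← psl_card_centralizer h4 (e b) (by rwa [MulEquiv.orderOf_eq])]
  refine Nat.card_congr (Equiv.subtypeEquiv e.toEquiv fun g => ?_)
  show g ∈ Subgroup.centralizer {b} ↔ e g ∈ Subgroup.centralizer {e b}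
  rw [Subgroup.mem_centralizer_singleton_iff, Subgroup.mem_centralizer_singleton_iff, ← map_mul,
    ← map_mul, e.injective.eq_iff]

/-- The number of involutions whose product with a given one has odd order. -/
theorem card_odd (h4 : Fintype.card F = 4) (e : M ≃* P3) {u : M} (hu : orderOf u = 2) :
    Nat.card {v : M // orderOf v = 2 ∧ Odd (orderOf (u * v))} = 193 := by
  rw [← psl_card_odd h4 (e u) (by rw [MulEquiv.orderOf_eq, hu])]
  refine Nat.card_congr (Equiv.subtypeEquiv e.toEquiv fun v => ?_)
  show _ ↔ orderOf (e v) = 2 ∧ Odd (orderOf (e u * e v))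
  rw [← map_mul, MulEquiv.orderOf_eq, MulEquiv.orderOf_eq]

end Abstract

end Cfsg.Agent.SuzukiLocal.PlaneModel
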