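import Cfsg.Agent.Lib.SuzukiType.Classes

/-!
An element of order five in the centralizer of `z`: it fixes a hyperbolic line, its centralizer there is
`5 × D₈`, and it is conjugate to its square.
-/

set_option autoImplicit false
set_option maxRecDepth 20000
set_option synthInstance.maxSize 4096

namespace Cfsg.Agent.SuzukiType

open Subgroup Cfsg.Agent.LargeExtra Cfsg.Agent.OctadInv.Orbits

/-- The element of order five on the space. -/
def σf (v : V) : V := R w0 (R k0 (R (f1 + w0) (R (e1 + w0) v)))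

/-- An element inducing the squaring. -/
def τf (v : V) : V := R (h1 + h2) (R w0 (R k0 (R (e1 + k0 + w0) v)))

theorem σ_five : ∀ v : V, σf (σf (σf (σf (σf v)))) = v := by decide +kernel

theorem τ_σ : ∀ v : V, τf (σf v) = σf (σf (τf v)) := by decide +kernel

theorem σ_fix : ∀ v : V, σf v = v → v = 0 ∨ v = h1 ∨ v = h2 ∨ v = h1 + h2 := by decide +kernel

theorem σ_fix' : σf h1 = h1 ∧ σf h2 = h2 ∧ σf e1 ≠ e1 := by decide

theorem σ_orbit : ∀ v : V, qf v = 0 → v ≠ 0 → bf v h1 = 0 → bf v h2 = 0 →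
    v = e1 ∨ v = σf e1 ∨ v = σf (σf e1) ∨ v = σf (σf (σf e1)) ∨ v = σf (σf (σf (σf e1))) := by
  decide +kernel

theorem f1_combo : f1 = σf e1 + σf (σf e1) + σf (σf (σf e1)) + σf (σf (σf (σf e1))) + e1 + f1 := by
  decide +kernel

/-- A vector off the fixed line is a sum of vectors of the orbit. -/
theorem σ_span : ∀ v : V, bf v h1 = 0 → bf v h2 = 0 → ∃ a b c d : ZMod 2,
    v = sm a e1 + sm b (σf e1) + sm c (σf (σf e1)) + sm d (σf (σf (σf e1))) := by decide +kernel

theorem pw_split : ∀ v : V, ∃ s t : ZMod 2,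
    bf (v + (sm s h1 + sm t h2)) h1 = 0 ∧ bf (v + (sm s h1 + sm t h2)) h2 = 0 := by decide +kernel

theorem qh' : qf (h1 + h2) = 1 ∧ qf h1 = 0 ∧ qf h2 = 0 ∧ bf h1 (h1 + h2) = 1 ∧ qf (0 : V) = 0 ∧
    h1 ≠ 0 ∧ h2 ≠ 0 ∧ h1 + h2 ≠ 0 := by decide

theorem swap_h : ∀ v : V, bf v h1 = 0 → bf v h2 = 0 → R (h1 + h2) v = v := by decide +kernel

theorem swap_h' : R (h1 + h2) h1 = h2 ∧ R (h1 + h2) h2 = h1 := by decide

theorem R_sum : ∀ s t : ZMod 2, R (h1 + h2) (sm s h1 + sm t h2) = sm t h1 + sm s h2 := by decide +kernel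

theorem line_inj : ∀ s t s' t' : ZMod 2, sm s h1 + sm t h2 = sm s' h1 + sm t' h2 → s = s' ∧ t = t' := by
  decide +kernel

theorem qσ : qf w0 = 1 ∧ qf k0 = 1 ∧ qf (f1 + w0) = 1 ∧ qf (e1 + w0) = 1 ∧ qf (e1 + k0 + w0) = 1 := by
  decide

/-- The isometry of order five. -/
noncomputable def σ : O6 := rfl' w0 * rfl' k0 * (rfl' (f1 + w0) * rfl' (e1 + w0))

/-- The isometry inducing squaring on `σ`. -/
noncomputable def τ : O6 := rfl' (h1 + h2) * rfl' w0 * (rfl' k0 * rfl' (e1 + k0 + w0))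

theorem σ_mem : σ ∈ Cfsg.Omega (ZMod 2) ⇑F6 :=
  mul_mem (pair_mem qσ.1 qσ.2.1) (pair_mem qσ.2.2.1 qσ.2.2.2.1)

theorem τ_mem : τ ∈ Cfsg.Omega (ZMod 2) ⇑F6 :=
  mul_mem (pair_mem qh'.1 qσ.1) (pair_mem qσ.2.1 qσ.2.2.2.2)

theorem act_σ (v : V) : act σ v = σf v := by
  rw [σ, act_mul, act_mul, act_mul, act_rfl' qσ.2.2.2.1, act_rfl' qσ.2.2.1, act_rfl' qσ.2.1,
    act_rfl' qσ.1]
  rfl

theorem act_τ (v : V) : act τ v = τf v := by
  rw [τ, act_mul, act_mul, act_mul, act_rfl' qσ.2.2.2.2, act_rfl' qσ.2.1, act_rfl' qσ.1,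
    act_rfl' qh'.1]
  rfl

theorem σ_pow_five : σ ^ 5 = 1 := ext_act fun v => by
  rw [show σ ^ 5 = σ * (σ * (σ * (σ * σ))) by simp only [pow_succ, pow_zero, one_mul, mul_assoc], act_mul, act_mul, act_mul, act_mul, act_one]
  simp only [act_σ]
  exact σ_five v

theorem σ_ne_one : σ ≠ 1 := fun e => σ_fix'.2.2 (by rw [← act_σ, e, act_one])

theorem orderOf_σ : orderOf σ = 5 :=
  have : Fact (Nat.Prime 5) := ⟨by norm_num⟩
  orderOf_eq_prime σ_pow_five σ_ne_one

theorem τ_conj : τ * σ * τ⁻¹ = σ ^ 2 := by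
  rw [mul_inv_eq_iff_eq_mul]
  refine ext_act fun v => ?_
  rw [pow_two, act_mul, act_mul, act_mul, act_σ, act_τ, act_σ, act_σ, act_τ]
  exact τ_σ v

/-- The centralizer of `σ` in `Ω`. -/
theorem cent_σ {A : O6} (hA : A ∈ Cfsg.Omega (ZMod 2) ⇑F6) (hc : A * σ = σ * A) :
    A ∈ zpowers σ := by
  have hfix : ∀ {B : O6}, B * σ = σ * B → ∀ h, (h = h1 ∨ h = h2) →
      σf (act B h) = act B h := by
    intro B hB h hh
    have hh' : act σ h = h := by
      rw [act_σ]; rcases hh with rfl | rfl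
      exacts [σ_fix'.1, σ_fix'.2.1]
    rw [← act_σ, ← act_mul, ← hB, act_mul, hh']
  have himg : ∀ {B : O6}, B * σ = σ * B → ∀ h, (h = h1 ∨ h = h2) → act B h = h1 ∨ act B h = h2 := by
    intro B hB h hh
    have hq : qf (act B h) = 0 := by
      rw [act_qf]; rcases hh with rfl | rfl
      exacts [qh'.2.1, qh'.2.2.1]
    rcases σ_fix _ (hfix hB h hh) with e | e | e | e
    · exfalso
      have := congrArg (act B⁻¹) e
      rw [act_inv_self, act_zero] at this
      rcases hh with rfl | rfl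
      exacts [qh'.2.2.2.2.2.1 this, qh'.2.2.2.2.2.2.1 this]
    · exact Or.inl e
    · exact Or.inr e
    · rw [e, qh'.1] at hq; exact absurd hq one_ne_zero
  have hperp : ∀ {B : O6}, B * σ = σ * B → bf (act B e1) h1 = 0 ∧ bf (act B e1) h2 = 0 := by
    intro B hB
    have hB' : B⁻¹ * σ = σ * B⁻¹ := (show Commute B σ from hB).inv_left.eq
    have h0 : bf e1 h1 = 0 ∧ bf e1 h2 = 0 := by decide
    have key : ∀ h, (h = h1 ∨ h = h2) → bf (act B e1) h = 0 := by
      intro h hh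
      have e : act B (act B⁻¹ h) = h := by rw [← act_mul, mul_inv_cancel, act_one]
      rw [← e, act_bf]
      rcases himg hB' h hh with e' | e' <;> rw [e']
      exacts [h0.1, h0.2]
    exact ⟨key _ (Or.inl rfl), key _ (Or.inr rfl)⟩
  -- the image of `e1`
  obtain ⟨p1, p2⟩ := hperp hc
  have hne : act A e1 ≠ 0 := fun e => by
    have := congrArg (act A⁻¹) e
    rw [act_inv_self, act_zero] at this
    exact absurd this (by decide)
  obtain ⟨n, hn⟩ : ∃ n : ℕ, act A e1 = act (σ ^ n) e1 := by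
    have hq : qf (act A e1) = 0 := by rw [act_qf]; decide
    rcases σ_orbit _ hq hne p1 p2 with e | e | e | e | e
    · exact ⟨0, by rw [pow_zero, act_one, e]⟩
    · exact ⟨1, by rw [pow_one, act_σ, e]⟩
    · exact ⟨2, by rw [pow_two, act_mul, act_σ, act_σ, e]⟩
    · exact ⟨3, by rw [show σ ^ 3 = σ * (σ * σ) by simp only [pow_succ, pow_zero, one_mul, mul_assoc], act_mul, act_mul, act_σ, act_σ, act_σ, e]⟩
    · exact ⟨4, by
        rw [show σ ^ 4 = σ * (σ * (σ * σ)) by simp only [pow_succ, pow_zero, one_mul, mul_assoc], act_mul, act_mul, act_mul, act_σ, act_σ, act_σ,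
          act_σ, e]⟩
  set B := (σ ^ n)⁻¹ * A with hB
  have hBc : B * σ = σ * B :=
    (((Commute.refl σ).pow_left n).inv_left.mul_left (show Commute A σ from hc)).eq
  have hBe : act B e1 = e1 := by rw [hB, act_mul, hn, act_inv_self]
  have hBσ : ∀ v, act B (σf v) = σf (act B v) := fun v => by
    rw [← act_σ, ← act_σ, ← act_mul, hBc, act_mul]
  have hBv : ∀ v, bf v h1 = 0 → bf v h2 = 0 → act B v = v := by
    intro v v1 v2
    obtain ⟨a, b, c, d, e⟩ := σ_span v v1 v2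
    rw [e]
    simp only [act_add, act_sm, hBσ, hBe]
  have hBΩ : B ∈ Cfsg.Omega (ZMod 2) ⇑F6 := mul_mem (inv_mem (pow_mem σ_mem n)) hA
  have hB1 : B = 1 := by
    rcases himg hBc h1 (Or.inl rfl) with e | e <;> rcases himg hBc h2 (Or.inr rfl) with e' | e'
    · exfalso
      have := congrArg (act B⁻¹) (e.trans e'.symm)
      rw [act_inv_self, act_inv_self] at this
      exact absurd this (by decide)
    · refine ext_act fun v => ?_
      obtain ⟨s, t, u1, u2⟩ := pw_split v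
      have h3 := hBv _ u1 u2
      rw [act_add, act_add, act_sm, act_sm, e, e'] at h3
      rw [act_one]
      exact add_right_cancel h3
    · exfalso
      refine rfl'_notMem qh'.1 ?_
      have hB' : B = rfl' (h1 + h2) := ext_act fun v => by
        obtain ⟨s, t, u1, u2⟩ := pw_split v
        rw [act_rfl' qh'.1]
        have e0 : v = (v + (sm s h1 + sm t h2)) + (sm s h1 + sm t h2) := by
          rw [add_assoc, add_self_V, add_zero]
        have h4 : R (h1 + h2) v = R (h1 + h2) (v + (sm s h1 + sm t h2)) + (sm t h1 + sm s h2) := by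
          conv_lhs => rw [e0]
          rw [← R_sum s t, ← act_rfl' qh'.1, ← act_rfl' qh'.1, ← act_rfl' qh'.1, ← act_add]
        rw [h4, swap_h _ u1 u2]
        conv_lhs => rw [e0]
        rw [act_add, hBv _ u1 u2, act_add, act_sm, act_sm, e, e', add_comm (sm s h2)]
      rwa [hB'] at hBΩ
    · exfalso
      have := congrArg (act B⁻¹) (e.trans e'.symm)
      rw [act_inv_self, act_inv_self] at this
      exact absurd this (by decide)
  rw [hB, inv_mul_eq_one] at hB1
  exact mem_zpowers_iff.2 ⟨n, by rw [zpow_natCast, hB1]⟩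

namespace St

variable {G : Type*} [Group G] [Finite G] {Q Q' : Subgroup G} {z a : G} (S : St Q Q' z a)
include S

omit [Finite G] in
theorem act'_pow {x : G} (hx : x * z = z * x) (n : ℕ) : S.act' (x ^ n) = S.act' x ^ n := by
  induction n with
  | zero => rw [pow_zero, pow_zero, S.act'_q Q.one_mem]
  | succ n ih => rw [pow_succ, pow_succ, S.act'_mul ((show Commute x z from hx).pow_left n).eq hx, ih]

omit [Finite G] in
theorem exists_lift {A : O6} (hA : A ∈ Cfsg.Omega (ZMod 2) ⇑F6) : ∃ c, c * z = z * c ∧ S.act' c = A := by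
  obtain ⟨⟨c, hc⟩, hcA⟩ := S.F.lift A hA
  have hcz := mem_centralizer_singleton_iff.1 hc
  exact ⟨c, hcz, by rw [S.act'_def hcz]; exact hcA⟩

/-- A lift of order five of `σ`. -/
theorem exists_five : ∃ b, b * z = z * b ∧ S.act' b = σ ∧ orderOf b = 5 := by
  have : Fact (Nat.Prime 5) := ⟨by norm_num⟩
  obtain ⟨c, hcz, hcA⟩ := S.exists_lift σ_mem
  have h5 : c ^ 5 ∈ Q := (S.act'_one_iff ((show Commute c z from hcz).pow_left 5).eq).1 (by
    rw [S.act'_pow hcz, hcA, σ_pow_five])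
  have h20 : c ^ 20 = 1 := by
    rw [show (20 : ℕ) = 5 * 4 by norm_num, pow_mul,
      show (4 : ℕ) = 2 * 2 by norm_num, pow_mul, pow_two (c ^ 5)]
    rcases S.h.sq_cases h5 with e | e <;> rw [e, pow_two]
    · exact mul_one _
    · exact S.h.zz
  have hb : S.act' (c ^ 16) = σ := by
    rw [S.act'_pow hcz, hcA, show (16 : ℕ) = 5 * 3 + 1 by norm_num, pow_succ, pow_mul, σ_pow_five,
      one_pow, one_mul]
  refine ⟨c ^ 16, ((show Commute c z from hcz).pow_left 16).eq, hb, orderOf_eq_prime ?_ ?_⟩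
  · rw [← pow_mul, show 16 * 5 = 20 * 4 by norm_num, pow_mul, h20, one_pow]
  · intro e
    rw [e, S.act'_q Q.one_mem] at hb
    exact σ_ne_one hb.symm

variable {b : G} (hbz : b * z = z * b) (hb : S.act' b = σ) (hb5 : orderOf b = 5)
include hbz hb hb5

/-- The elements of `Q` over the fixed line commute with `b`. -/
theorem comm_fixed {x : G} (hx : x ∈ Q) (hv : σf (S.F.vec x) = S.F.vec x) : x * b = b * x := by
  have hm : b * x * b⁻¹ ∈ Q := S.h.conj_mem hbz hx
  have h1 : S.F.vec (b * x * b⁻¹ * x⁻¹) = 0 := by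
    rw [S.F.vec_mul hm (Q.inv_mem hx), S.vec_inv hx, S.vec_conj hbz hx, hb, act_σ, hv, add_self_V]
  rcases S.F.vec_cases (Q.mul_mem hm (Q.inv_mem hx)) h1 with e | e
  · have e' := mul_inv_eq_one.1 e
    calc x * b = (b * x * b⁻¹) * b := by rw [e']
      _ = b * x := inv_mul_cancel_right _ _
  · exfalso
    have e' : b * x * b⁻¹ = z * x := mul_inv_eq_iff_eq_mul.1 e
    have hstep : ∀ n : ℕ, b ^ n * x * (b ^ n)⁻¹ = z ^ n * x := by
      intro n
      induction n with
      | zero => simp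
      | succ n ih =>
        calc b ^ (n + 1) * x * (b ^ (n + 1))⁻¹ = b * (b ^ n * x * (b ^ n)⁻¹) * b⁻¹ := by group
          _ = (b * z ^ n * b⁻¹) * (b * x * b⁻¹) := by rw [ih]; group
          _ = _ := by
            rw [((show Commute b z from hbz).pow_right n).eq, e', mul_inv_cancel_right, ← mul_assoc,
              ← pow_succ]
    have h5 := hstep 5
    rw [← hb5, pow_orderOf_eq_one, one_mul, inv_one, mul_one, hb5, show (5 : ℕ) = 2 * 2 + 1 by norm_num,
      pow_succ, pow_mul, show z ^ 2 = 1 by rw [pow_two, S.h.zz], one_pow, one_mul] at h5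
    exact S.h.ne_one (mul_eq_right.1 h5.symm)

theorem cent_card :
    Nat.card (centralizer ({z} : Set G) ⊓ centralizer ({b} : Set G) : Subgroup G) = 40 := by
  classical
  set K := centralizer ({z} : Set G) ⊓ centralizer ({b} : Set G) with hK
  obtain ⟨q1, hq1, hv1⟩ := S.F.surj h1
  obtain ⟨q2, hq2, hv2⟩ := S.F.surj h2
  have c1 := S.comm_fixed hbz hb hb5 hq1 (by rw [hv1]; exact σ_fix'.1)
  have c2 := S.comm_fixed hbz hb hb5 hq2 (by rw [hv2]; exact σ_fix'.2.1)
  have hzb : Commute z b := hbz.symm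
  have hpm : ∀ {q : G}, q ∈ Q → ∀ u : ZMod 2, zp q u ∈ Q := fun hq u => Q.pow_mem hq _
  have hmemQ : ∀ p : ZMod 2 × ZMod 2 × ZMod 2, zp z p.1 * (zp q1 p.2.1 * zp q2 p.2.2) ∈ Q :=
    fun p => Q.mul_mem (S.zp_mem _) (Q.mul_mem (hpm hq1 _) (hpm hq2 _))
  have hcb : ∀ p : ZMod 2 × ZMod 2 × ZMod 2, Commute (zp z p.1 * (zp q1 p.2.1 * zp q2 p.2.2)) b :=
    fun p => (hzb.pow_left _).mul_left
      (((show Commute q1 b from c1).pow_left _).mul_left ((show Commute q2 b from c2).pow_left _))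
  have hvec : ∀ p : ZMod 2 × ZMod 2 × ZMod 2,
      S.F.vec (zp z p.1 * (zp q1 p.2.1 * zp q2 p.2.2)) = sm p.2.1 h1 + sm p.2.2 h2 := by
    rintro ⟨r, s, t⟩
    have hz' : ∀ (q : G) (u : ZMod 2), S.F.vec (zp q u) = sm u (S.F.vec q) := by
      intro q u
      rcases z2 u with rfl | rfl
      · rw [zp_zero, S.F.vec_one, sm_zero]
      · rw [zp_one, sm_one]
    rw [S.F.vec_mul (S.zp_mem _) (Q.mul_mem (hpm hq1 _) (hpm hq2 _)),
      S.F.vec_mul (hpm hq1 _) (hpm hq2 _), S.vec_zp, zero_add, hz', hz', hv1, hv2]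
  let f : (ZMod 2 × ZMod 2 × ZMod 2) × Fin 5 → K := fun p =>
    ⟨zp z p.1.1 * (zp q1 p.1.2.1 * zp q2 p.1.2.2) * b ^ p.2.val, mem_inf.2
      ⟨mem_centralizer_singleton_iff.2 (mul_z (S.qz (hmemQ p.1)) ((hzb.symm.pow_left _).eq)),
       mem_centralizer_singleton_iff.2 ((hcb p.1).mul_left ((Commute.refl b).pow_left _)).eq⟩⟩
  have hf : Function.Bijective f := by
    constructor
    · rintro ⟨p, i⟩ ⟨p', j⟩ e
      have e' : zp z p.1 * (zp q1 p.2.1 * zp q2 p.2.2) * b ^ i.val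
          = zp z p'.1 * (zp q1 p'.2.1 * zp q2 p'.2.2) * b ^ j.val := congrArg Subtype.val e
      have ha := congrArg S.act' e'
      rw [S.act'_mul (S.qz (hmemQ p)) ((hzb.symm.pow_left _).eq), S.act'_q (hmemQ p), one_mul,
        S.act'_mul (S.qz (hmemQ p')) ((hzb.symm.pow_left _).eq), S.act'_q (hmemQ p'), one_mul,
        S.act'_pow hbz, S.act'_pow hbz, hb] at ha
      have hij : i = j := Fin.ext (pow_injOn_Iio_orderOf
        (by rw [Set.mem_Iio, orderOf_σ]; exact i.2) (by rw [Set.mem_Iio, orderOf_σ]; exact j.2) ha)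
      subst hij
      have e2 := mul_right_cancel e'
      have hv := congrArg S.F.vec e2
      rw [hvec, hvec] at hv
      obtain ⟨h2s, h2t⟩ := line_inj _ _ _ _ hv
      rw [h2s, h2t] at e2
      have e3 := mul_right_cancel e2
      have h1' : p.1 = p'.1 := by
        rcases z2 p.1 with x | x <;> rcases z2 p'.1 with y | y <;> rw [x, y] at e3 ⊢ <;>
          simp only [zp_zero, zp_one] at e3
        · exact absurd e3.symm S.h.ne_one
        · exact absurd e3 S.h.ne_one
      exact Prod.ext (Prod.ext h1' (Prod.ext h2s h2t)) rfl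
    · rintro ⟨x, hx⟩
      obtain ⟨hxz', hxb'⟩ := mem_inf.1 hx
      have hxz := mem_centralizer_singleton_iff.1 hxz'
      have hxb := mem_centralizer_singleton_iff.1 hxb'
      have hA : S.act' x * σ = σ * S.act' x := by
        rw [← hb, ← S.act'_mul hxz hbz, hxb, S.act'_mul hbz hxz]
      obtain ⟨n, hn⟩ := (IsOfFinOrder.mem_powers_iff_mem_zpowers (isOfFinOrder_of_finite σ)).2
        (cent_σ (S.act'_omega x) hA)
      have hn' : S.act' x = σ ^ (n % 5) := by
        rw [← hn, ← orderOf_σ, pow_mod_orderOf]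
      have hyz : x * (b ^ (n % 5))⁻¹ * z = z * (x * (b ^ (n % 5))⁻¹) :=
        mul_z hxz (inv_z ((hzb.symm.pow_left _).eq))
      have hyQ : x * (b ^ (n % 5))⁻¹ ∈ Q := (S.act'_one_iff hyz).1 (by
        rw [S.act'_mul hxz (inv_z ((hzb.symm.pow_left _).eq)), S.act'_inv ((hzb.symm.pow_left _).eq),
          S.act'_pow hbz, hb, hn', mul_inv_cancel])
      have hyb : Commute (x * (b ^ (n % 5))⁻¹) b :=
        (show Commute x b from hxb).mul_left (((Commute.refl b).pow_left _).inv_left)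
      set y := x * (b ^ (n % 5))⁻¹ with hy
      have hyv : σf (S.F.vec y) = S.F.vec y := by
        rw [← act_σ, ← hb, ← S.vec_conj hbz hyQ, ← hyb.eq, mul_inv_cancel_right]
      obtain ⟨s, t, hst⟩ : ∃ s t, S.F.vec y = sm s h1 + sm t h2 := by
        rcases σ_fix _ hyv with e | e | e | e <;> rw [e]
        · exact ⟨0, 0, by rw [sm_zero, sm_zero, add_zero]⟩
        · exact ⟨1, 0, by rw [sm_zero, sm_one, add_zero]⟩
        · exact ⟨0, 1, by rw [sm_zero, sm_one, zero_add]⟩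
        · exact ⟨1, 1, by rw [sm_one, sm_one]⟩
      have hw0 : S.F.vec (y * (zp q1 s * zp q2 t)⁻¹) = 0 := by
        have h0 := hvec (0, s, t)
        simp only [zp_zero, one_mul] at h0
        rw [S.F.vec_mul hyQ (Q.inv_mem (Q.mul_mem (hpm hq1 _) (hpm hq2 _))),
          S.vec_inv (Q.mul_mem (hpm hq1 _) (hpm hq2 _)), h0, hst, add_self_V]
      obtain ⟨r, hr⟩ : ∃ r, y = zp z r * (zp q1 s * zp q2 t) := by
        rcases S.F.vec_cases (Q.mul_mem hyQ
          (Q.inv_mem (Q.mul_mem (hpm hq1 _) (hpm hq2 _)))) hw0 with e | e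
        · exact ⟨0, by rw [zp_zero, one_mul]; exact mul_inv_eq_one.1 e⟩
        · exact ⟨1, by rw [zp_one]; exact mul_inv_eq_iff_eq_mul.1 e⟩
      refine ⟨((r, s, t), ⟨n % 5, Nat.mod_lt _ (by norm_num)⟩), Subtype.ext ?_⟩
      show zp z r * (zp q1 s * zp q2 t) * b ^ (n % 5) = x
      rw [← hr, hy, inv_mul_cancel_right]
  rw [← Nat.card_congr (Equiv.ofBijective f hf)]
  simp

/-- The involutions centralizing `b` in `C(z)` are conjugate to `z`. -/
theorem cent_inv {x : G} (hx : x ∈ centralizer ({z} : Set G) ⊓ centralizer ({b} : Set G))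
    (hxx : x * x = 1) (hx1 : x ≠ 1) : IsConj x z := by
  obtain ⟨hxz', hxb'⟩ := mem_inf.1 hx
  have hxz := mem_centralizer_singleton_iff.1 hxz'
  have hxb := mem_centralizer_singleton_iff.1 hxb'
  refine S.conj_of_mem ((S.act'_one_iff hxz).1 ?_) hxx hx1
  have hA : S.act' x * σ = σ * S.act' x := by
    rw [← hb, ← S.act'_mul hxz hbz, hxb, S.act'_mul hbz hxz]
  have hd : orderOf (S.act' x) ∣ 5 :=
    orderOf_σ ▸ orderOf_dvd_of_mem_zpowers (cent_σ (S.act'_omega x) hA)
  have h2 : orderOf (S.act' x) ∣ 2 := orderOf_dvd_of_pow_eq_one (by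
    rw [pow_two, ← S.act'_mul hxz hxz, hxx, S.act'_q Q.one_mem])
  have := Nat.dvd_gcd hd h2
  exact orderOf_eq_one_iff.1 (Nat.dvd_one.1 (by simpa using this))

/-- `b` is conjugate to its square in `C(z)`. -/
theorem exists_square (hcard : Nat.card ↥Q = 128) : ∃ g, g * z = z * g ∧ g * b * g⁻¹ = b ^ 2 := by
  classical
  have : Fact (Nat.Prime 5) := ⟨by norm_num⟩
  obtain ⟨c, hcz, hcA⟩ := S.exists_lift τ_mem
  have hdz : (c * b * c⁻¹) * z = z * (c * b * c⁻¹) := mul_z (mul_z hcz hbz) (inv_z hcz)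
  have hdA : S.act' (c * b * c⁻¹) = σ ^ 2 := by
    rw [S.act'_mul (mul_z hcz hbz) (inv_z hcz), S.act'_mul hcz hbz, S.act'_inv hcz, hcA, hb, τ_conj]
  have hd5 : orderOf (c * b * c⁻¹) = 5 := by
    exact (orderOf_injective (MulAut.conj c).toMonoidHom (MulAut.conj c).injective b).trans hb5
  -- the preimage of the group of order five
  let W : Subgroup G :=
    ((zpowers σ).comap S.F.π).map (centralizer ({z} : Set G)).subtype
  have hmemW : ∀ {x : G}, x * z = z * x → S.act' x ∈ zpowers σ → x ∈ W := fun {x} hx hA =>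
    ⟨⟨x, mem_centralizer_singleton_iff.2 hx⟩, by rwa [SetLike.mem_coe, mem_comap, ← S.act'_def hx], rfl⟩
  have hQW : Nat.card W = 640 := by
    show Nat.card ↥(((zpowers σ).comap S.F.π).map (centralizer ({z} : Set G)).subtype) = 640
    rw [card_map_of_injective (centralizer ({z} : Set G)).subtype_injective,
      card_eq_card_quotient_mul_card_subgroup (S.F.π.subgroupComap (zpowers σ)).ker]
    have hs : Function.Surjective (S.F.π.subgroupComap (zpowers σ)) := by
      rintro ⟨A, hA⟩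
      obtain ⟨c', hc'⟩ := S.F.lift A ((zpowers_le.2 σ_mem) hA)
      exact ⟨⟨c', by rw [mem_comap, hc']; exact hA⟩, Subtype.ext hc'⟩
    have e1 : Nat.card (↥((zpowers σ).comap S.F.π) ⧸ (S.F.π.subgroupComap (zpowers σ)).ker) = 5 := by
      rw [Nat.card_congr (QuotientGroup.quotientKerEquivOfSurjective _ hs).toEquiv, Nat.card_zpowers,
        orderOf_σ]
    have e2 : Nat.card ↥(S.F.π.subgroupComap (zpowers σ)).ker = 128 := by
      rw [← hcard]
      refine Nat.card_congr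
        { toFun := fun x => ⟨((x.1 : ↥(centralizer ({z} : Set G))) : G),
            (S.F.ker _).1 (congrArg Subtype.val (MonoidHom.mem_ker.1 x.2))⟩
          invFun := fun q => ⟨⟨⟨q.1, mem_centralizer_singleton_iff.2 (S.qz q.2)⟩, by
              rw [mem_comap, (S.F.ker _).2 q.2]; exact one_mem _⟩,
            MonoidHom.mem_ker.2 (Subtype.ext ((S.F.ker _).2 q.2))⟩
          left_inv := fun x => rfl
          right_inv := fun q => rfl }
    rw [e1, e2]
  have hbW : b ∈ W := hmemW hbz (by rw [hb]; exact mem_zpowers _)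
  have hdW : c * b * c⁻¹ ∈ W := hmemW hdz (by rw [hdA]; exact pow_mem (mem_zpowers _) 2)
  have hsyl : ∀ (x : G) (hx : x ∈ W), orderOf x = 5 →
      Nat.card ↥(zpowers (⟨x, hx⟩ : W)) = 5 ^ (Nat.card W).factorization 5 := by
    intro x hx h5
    rw [Nat.card_zpowers, orderOf_mk, h5, hQW,
      show (640 : ℕ).factorization 5 = 1 by
        rw [Nat.factorization_def _ (by norm_num : Nat.Prime 5)]
        rw [show (640 : ℕ) = 5 ^ 1 * 128 by norm_num, padicValNat.mul (by norm_num) (by norm_num),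
          padicValNat.prime_pow, padicValNat.eq_zero_of_not_dvd (by norm_num)],
      pow_one]
  obtain ⟨⟨u, huW⟩, hu⟩ := MulAction.exists_smul_eq W
    (Sylow.ofCard _ (hsyl _ hdW hd5)) (Sylow.ofCard _ (hsyl _ hbW hb5))
  have hmem : (⟨u, huW⟩ * ⟨c * b * c⁻¹, hdW⟩ * ⟨u, huW⟩⁻¹ : W) ∈ zpowers (⟨b, hbW⟩ : W) := by
    have h1 : MulAut.conj (⟨u, huW⟩ : W) ⟨c * b * c⁻¹, hdW⟩ ∈
        ((⟨u, huW⟩ : W) • Sylow.ofCard _ (hsyl _ hdW hd5) : Sylow 5 W).toSubgroup := by
      rw [Sylow.coe_subgroup_smul]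
      exact Subgroup.smul_mem_pointwise_smul _ _ _ (mem_zpowers _)
    rw [hu, MulAut.conj_apply] at h1
    exact h1
  obtain ⟨j, hj⟩ := (IsOfFinOrder.mem_powers_iff_mem_zpowers (isOfFinOrder_of_finite _)).2 hmem
  have hj' : b ^ j = u * (c * b * c⁻¹) * u⁻¹ := congrArg Subtype.val hj
  have huz : u * z = z * u := by
    obtain ⟨w, -, rfl⟩ := huW
    exact mem_centralizer_singleton_iff.1 w.2
  have huA : S.act' u ∈ zpowers σ := by
    obtain ⟨w, hw, rfl⟩ := huW
    rw [S.act'_def (x := (centralizer ({z} : Set G)).subtype w) (mem_centralizer_singleton_iff.1 w.2)]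
    exact hw
  obtain ⟨i, hi⟩ := mem_zpowers_iff.1 huA
  have hA := congrArg S.act' hj'
  rw [S.act'_mul (mul_z huz hdz) (inv_z huz), S.act'_mul huz hdz, S.act'_inv huz, hdA, S.act'_pow hbz,
    hb, ← hi, ((Commute.refl σ).zpow_left i).pow_right 2 |>.eq, mul_inv_cancel_right] at hA
  have hj2 : b ^ j = b ^ 2 := by
    rw [pow_eq_pow_iff_modEq, hb5, ← orderOf_σ]
    exact pow_eq_pow_iff_modEq.1 hA
  refine ⟨u * c, mul_z huz hcz, ?_⟩
  rw [← hj2, hj']; group

omit hbz hb hb5 in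
/-- The data at five. -/
theorem five_data (hcard : Nat.card ↥Q = 128) :
    ∃ b g i s : G, orderOf b = 5 ∧ b * z = z * b ∧ g * z = z * g ∧ g * b * g⁻¹ = b ^ 2 ∧
      Nat.card (centralizer ({z} : Set G) ⊓ centralizer ({b} : Set G) : Subgroup G) = 40 ∧
      (∀ x ∈ centralizer ({z} : Set G) ⊓ centralizer ({b} : Set G), x * x = 1 → x ≠ 1 → IsConj x z) ∧
      i * z = z * i ∧ i * b = b * i ∧ i * i = z ∧ s * z = z * s ∧ s * b = b * s ∧ s * s = 1 ∧
      s * i * s⁻¹ = i⁻¹ := by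
  obtain ⟨b, hbz, hb, hb5⟩ := S.exists_five
  obtain ⟨g, hgz, hg⟩ := S.exists_square hbz hb hb5 hcard
  obtain ⟨i, hi, hiv⟩ := S.F.surj (h1 + h2)
  obtain ⟨s, hs, hsv⟩ := S.F.surj h1
  have hii : i * i = z := by rw [S.F.sq hi, hiv, qh'.1, zp_one]
  refine ⟨b, g, i, s, hb5, hbz, hgz, hg, S.cent_card hbz hb hb5,
    fun x hx => S.cent_inv hbz hb hb5 hx, S.qz hi,
    S.comm_fixed hbz hb hb5 hi (by rw [hiv]; decide), hii, S.qz hs,
    S.comm_fixed hbz hb hb5 hs (by rw [hsv]; exact σ_fix'.1),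
    by rw [S.F.sq hs, hsv, qh'.2.1, zp_zero], ?_⟩
  have h0 := S.F.comm hs hi
  rw [hsv, hiv, qh'.2.2.2.1, zp_one] at h0
  rw [h0, ← mul_assoc, mul_inv_cancel_right, eq_inv_iff_mul_eq_one, mul_assoc, hii, S.h.zz]

end St

end Cfsg.Agent.SuzukiType
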