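import Mathlib

/-!
What is used about a group of Suzuki sporadic type to find its Sylow 5- and 7-normalizers: the order, the
two classes of involutions with their centralizers, and little more.
-/

set_option autoImplicit false

namespace Cfsg.Agent.SuzukiLocal

open Subgroup

/-- The facts. `z` is the central involution, `t` the other one, `E` the four-group at `t`. -/
structure Facts {G : Type*} [Group G] [Finite G] (z t : G) (E : Subgroup G) : Prop where
  card_G : Nat.card G = 448345497600
  card_cz : Nat.card (centralizer ({z} : Set G)) = 3317760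
  card_ct : Nat.card (centralizer ({t} : Set G)) = 161280
  z_two : orderOf z = 2
  t_two : orderOf t = 2
  nconj : ¬ IsConj z t
  classes : ∀ x : G, orderOf x = 2 → IsConj x z ∨ IsConj x t
  tE : t ∈ E
  card_E : Nat.card E = 4
  E_sq : ∀ u ∈ E, u * u = 1
  /-- Odd-order elements of `C(t)` centralize `E`. -/
  odd_cent : ∀ g ∈ centralizer ({t} : Set G), Odd (orderOf g) → g ∈ centralizer (E : Set G)
  /-- An element of `C(t)` outside `C(E)` exchanges the other two involutions of `E`. -/
  norm_E : centralizer ({t} : Set G) ≤ normalizer (E : Set G)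
  /-- Elements of order five or seven in `C(t)` have small centralizers there. -/
  cent_t : ∀ b ∈ centralizer ({t} : Set G), orderOf b = 5 ∨ orderOf b = 7 →
    Nat.card (centralizer ({t} : Set G) ⊓ centralizer ({b} : Set G) : Subgroup G) ∣ 8 * orderOf b
  /-- The centralizer of `E` in `C(t)` meets those centralizers in index at least two. -/
  cent_E : ∀ b ∈ centralizer ({t} : Set G), orderOf b = 5 ∨ orderOf b = 7 →
    Nat.card (centralizer ({t} : Set G) ⊓ centralizer ({b} : Set G) ⊓ centralizer (E : Set G) : Subgroup G) ∣
      4 * orderOf b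
  /-- An element of order five in `C(z)`: its centralizer there is `5 × D₈` with all involutions conjugate
  to `z`, and it is conjugate to its square there. -/
  five : ∃ b g i s : G, orderOf b = 5 ∧ b * z = z * b ∧ g * z = z * g ∧ g * b * g⁻¹ = b ^ 2 ∧
    Nat.card (centralizer ({z} : Set G) ⊓ centralizer ({b} : Set G) : Subgroup G) = 40 ∧
    (∀ x ∈ centralizer ({z} : Set G) ⊓ centralizer ({b} : Set G), x * x = 1 → x ≠ 1 → IsConj x z) ∧
    i * z = z * i ∧ i * b = b * i ∧ i * i = z ∧ s * z = z * s ∧ s * b = b * s ∧ s * s = 1 ∧
    s * i * s⁻¹ = i⁻¹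

end Cfsg.Agent.SuzukiLocal
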