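import Cfsg.Agent.Lib.SuzukiLocal.Order
import Cfsg.Agent.Lib.SuzukiLocal.FiveData
import Cfsg.Agent.Lib.SuzukiLocal.Interface

/-!
The facts hold in a group of Suzuki sporadic type.
-/

set_option autoImplicit false
set_option maxRecDepth 8000
set_option synthInstance.maxSize 4096

namespace Cfsg.Agent.SuzukiLocal

open Subgroup Cfsg.Agent.LargeExtra Cfsg.Agent.OctadInv.Orbits Cfsg.Agent.SuzukiType Cfsg.Agent.SuzukiThree

variable {G : Type*} [Group G] [Finite G] {Q Q' : Subgroup G} {z a y : G} {D : Su Q Q' z a y} {t : G}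

namespace Sec

variable (H : Sec D t)
include H

theorem odd_cent_E {g : G} (hg : g * t = t * g) (ho : Odd (orderOf g)) : g ∈ centralizer (H.E : Set G) := by
  have h2 : g ^ 2 ∈ centralizer (H.E : Set G) := by
    obtain ⟨c, -, hct, hce, -⟩ := H.exists_swap
    rw [pow_two]
    rcases H.cent_cases hg hct hce with h | h
    · exact mul_mem h h
    · refine H.mem_cent_E.2 ⟨SuzukiType.mul_z (z := t) hg hg, ?_⟩
      have hgt : g * t * g⁻¹ = t := by rw [hg, mul_inv_cancel_right]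
      have he : g * (y * t * y⁻¹) * g⁻¹ = t * (y * t * y⁻¹) := by
        calc g * (y * t * y⁻¹) * g⁻¹ = c * ((c⁻¹ * g) * (y * t * y⁻¹) * (c⁻¹ * g)⁻¹) * c⁻¹ := by group
          _ = t * (y * t * y⁻¹) := by rw [(H.mem_cent_E.1 h).2, mul_inv_cancel_right, hce]
      refine mul_inv_eq_iff_eq_mul.1 ?_
      calc g * g * (y * t * y⁻¹) * (g * g)⁻¹ = g * (g * (y * t * y⁻¹) * g⁻¹) * g⁻¹ := by group
        _ = g * (t * (y * t * y⁻¹)) * g⁻¹ := by rw [he]
        _ = (g * t * g⁻¹) * (g * (y * t * y⁻¹) * g⁻¹) := by group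
        _ = y * t * y⁻¹ := by rw [he, hgt, ← mul_assoc, H.orb.sq, one_mul]
  obtain ⟨i, hi⟩ := ho
  have : g = (g ^ 2) ^ (i + 1) := by
    rw [← pow_mul, show 2 * (i + 1) = orderOf g + 1 by omega, pow_succ, pow_orderOf_eq_one, one_mul]
  rw [this]
  exact pow_mem h2 _

theorem cent_E_small {b : G} (hb : b * t = t * b) (hord : orderOf b = 5 ∨ orderOf b = 7) :
    Nat.card ↥(centralizer ({t} : Set G) ⊓ centralizer ({b} : Set G) ⊓ centralizer (H.E : Set G)) ∣
      4 * orderOf b := by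
  have hodd : Odd (orderOf b) := by rcases hord with h | h <;> rw [h] <;> decide
  have hbE := H.odd_cent_E hb hodd
  obtain ⟨F, i1, i2, h4, ⟨e⟩⟩ := H.exists_model
  set K := centralizer (H.E : Set G)
  set b' : ↥K := ⟨b, hbE⟩
  have hob : orderOf (H.pr b') = orderOf b := by
    have hd : orderOf (H.pr b') ∣ orderOf b := Subgroup.orderOf_coe b' ▸ orderOf_map_dvd _ b'
    rcases hord with h | h <;> rw [h] at hd ⊢ <;>
      refine ((Nat.dvd_prime (by norm_num)).1 hd).resolve_left fun e1 => ?_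
    all_goals
      have hm : b ∈ H.E := (H.pr_one_iff b').1 (orderOf_eq_one_iff.1 e1)
      have h2 : orderOf b ∣ 2 := by
        refine orderOf_dvd_of_pow_eq_one ?_
        rw [pow_two]
        by_cases hb1 : b = 1
        · rw [hb1, one_mul]
        · obtain ⟨p, hp, h1, h2, -⟩ := H.E_coords hm hb1
          rw [hp.sq, h1, h2]; simp [zz, zp_zero]
      rw [h] at h2
      norm_num at h2
  have hC := PlaneModel.card_centralizer h4 e (b := H.pr b') (hob ▸ hord)
  rw [hob] at hC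
  set T := centralizer ({t} : Set G) ⊓ centralizer ({b} : Set G) ⊓ centralizer (H.E : Set G)
  let φ : ↥T →* H.Mq := H.pr.comp (Subgroup.inclusion (inf_le_right : T ≤ K))
  have hr : φ.range ≤ centralizer ({H.pr b'} : Set H.Mq) := by
    rintro _ ⟨x, rfl⟩
    refine mem_centralizer_singleton_iff.2 ?_
    show H.pr (Subgroup.inclusion (inf_le_right : T ≤ K) x) * H.pr b' =
      H.pr b' * H.pr (Subgroup.inclusion (inf_le_right : T ≤ K) x)
    rw [← map_mul, ← map_mul]
    exact congrArg _ (Subtype.ext (mem_centralizer_singleton_iff.1 x.2.1.2))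
  have hk : φ.ker.map (Subgroup.inclusion (inf_le_right : T ≤ K)) ≤ H.EC := by
    rintro _ ⟨x, hx, rfl⟩
    exact mem_subgroupOf.2 ((H.pr_one_iff _).1 hx)
  have h1 := Subgroup.card_dvd_of_le hr
  rw [hC] at h1
  have h2 := Subgroup.card_dvd_of_le hk
  rw [card_map_of_injective (Subgroup.inclusion_injective _), H.card_EC] at h2
  rw [Subgroup.card_eq_card_quotient_mul_card_subgroup φ.ker,
    Nat.card_congr (QuotientGroup.quotientKerEquivRange φ).toEquiv, mul_comm]
  exact Nat.mul_dvd_mul h2 h1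

theorem cent_t_small {b : G} (hb : b * t = t * b) (hord : orderOf b = 5 ∨ orderOf b = 7) :
    Nat.card ↥(centralizer ({t} : Set G) ⊓ centralizer ({b} : Set G)) ∣ 8 * orderOf b := by
  classical
  set L := centralizer ({t} : Set G) ⊓ centralizer ({b} : Set G)
  have h4 := H.cent_E_small hb hord
  by_cases hall : L ≤ centralizer (H.E : Set G)
  · rw [inf_eq_left.2 hall] at h4
    exact h4.trans (mul_dvd_mul_right (by norm_num) _)
  obtain ⟨g, hgL, hgE⟩ := SetLike.not_le_iff_exists.1 hall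
  have hgt := mem_centralizer_singleton_iff.1 hgL.1
  set M := L ⊓ centralizer (H.E : Set G)
  obtain ⟨c, -, hct, hce, -⟩ := H.exists_swap
  have hdiff : ∀ x ∈ L, x ∉ centralizer (H.E : Set G) → g⁻¹ * x ∈ M := fun x hx hxE => by
    refine ⟨Subgroup.mul_mem _ (Subgroup.inv_mem _ hgL) hx, ?_⟩
    have h1 := (H.cent_cases hgt hct hce).resolve_left hgE
    have h2 := (H.cent_cases (mem_centralizer_singleton_iff.1 hx.1) hct hce).resolve_left hxE
    rw [show g⁻¹ * x = (c⁻¹ * g)⁻¹ * (c⁻¹ * x) by group]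
    exact Subgroup.mul_mem _ (Subgroup.inv_mem _ h1) h2
  let φ : Bool × ↥M → ↥L := fun q =>
    if q.1 then ⟨g * q.2.1, mul_mem hgL q.2.2.1⟩ else ⟨q.2.1, q.2.2.1⟩
  have hφ : Function.Bijective φ := by
    have hout : ∀ k k' : ↥M, g * k.1 ≠ k'.1 := fun k k' e => hgE (by
      rw [show g = k'.1 * k.1⁻¹ by rw [← e, mul_inv_cancel_right]]
      exact mul_mem k'.2.2 (inv_mem k.2.2))
    refine ⟨fun q q' e => ?_, fun x => ?_⟩
    · obtain ⟨s, k⟩ := q
      obtain ⟨s', k'⟩ := q'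
      have e' := congrArg Subtype.val e
      cases s <;> cases s' <;> simp only [φ, Bool.false_eq_true, ↓reduceIte] at e'
      · rw [Subtype.ext e']
      · exact absurd e'.symm (hout k' k)
      · exact absurd e' (hout k k')
      · rw [Subtype.ext (mul_left_cancel e')]
    · by_cases hx : (x : G) ∈ centralizer (H.E : Set G)
      · exact ⟨(false, ⟨x.1, x.2, hx⟩), by simp [φ]⟩
      · exact ⟨(true, ⟨g⁻¹ * x.1, hdiff _ x.2 hx⟩), by simp [φ]⟩
  rw [← Nat.card_eq_of_bijective φ hφ, Nat.card_prod, show Nat.card Bool = 2 by simp,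
    show 8 * orderOf b = 2 * (4 * orderOf b) by ring]
  exact Nat.mul_dvd_mul_left 2 h4

/-- The facts. -/
theorem facts : Facts z t H.E where
  card_G := H.card_G
  card_cz := H.card_cz
  card_ct := H.card_ct
  z_two := orderOf_eq_prime (by rw [pow_two, D.S.h.zz]) D.S.h.ne_one
  t_two := orderOf_eq_prime (by rw [pow_two, H.orb.sq]) H.ne_one
  nconj := fun e => H.t_not_conj e.symm
  classes := fun x hx => H.classes (by rw [← pow_two, ← hx, pow_orderOf_eq_one]) fun e => by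
    rw [e, orderOf_one] at hx; omega
  tE := H.mem_E.2 (Or.inr (Or.inl rfl))
  card_E := H.cardE
  E_sq := fun u hu => by
    by_cases hu1 : u = 1
    · rw [hu1, one_mul]
    · obtain ⟨p, hp, h1, h2, -⟩ := H.E_coords hu hu1
      rw [hp.sq, h1, h2]; simp [zz, zp_zero]
  odd_cent := fun g hg ho => H.odd_cent_E (mem_centralizer_singleton_iff.1 hg) ho
  norm_E := fun g hg => H.norm_t (mem_centralizer_singleton_iff.1 hg)
  cent_t := fun b hb h => H.cent_t_small (mem_centralizer_singleton_iff.1 hb) h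
  cent_E := fun b hb h => H.cent_E_small (mem_centralizer_singleton_iff.1 hb) h
  five := D.S.five_data D.card

end Sec

/-- Existence of the facts. -/
theorem exists_facts (z : G) (hz : orderOf z = 2) (Q : Subgroup (centralizer ({z} : Set G))) [Q.Normal]
    (hF : Cfsg.generalizedFittingSubgroup (centralizer ({z} : Set G)) = Q) (hQ : Cfsg.IsExtraspecial 2 Q)
    (hcard : Nat.card Q = 2 ^ 7)
    (e : (centralizer ({z} : Set G)) ⧸ Q ≃* Cfsg.Omega (ZMod 2) (Cfsg.quadFormMinus 2 (ZMod 2) 1 1))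
    (hnwc : ∃ g : G, (∃ hq : g * z * g⁻¹ ∈ centralizer ({z} : Set G),
      (⟨g * z * g⁻¹, hq⟩ : centralizer ({z} : Set G)) ∈ Q) ∧ g * z * g⁻¹ ≠ z) :
    ∃ (t : G) (E : Subgroup G), Facts z t E := by
  classical
  let C := centralizer ({z} : Set G)
  set Q0 := Q.map C.subtype with hQ0
  have hc0 : Nat.card ↥Q0 = 128 := by
    rw [hQ0, card_map_of_injective C.subtype_injective, hcard]; norm_num
  have h : Ctr Q0 z := Ctr.of_fitting hz (map_subtype_le _) (by rw [hF])
    (isExtraspecial_of_equiv hQ (Q.equivMapOfInjective _ C.subtype_injective))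
  obtain ⟨g, ⟨hgC, hgQ⟩, hgz⟩ := hnwc
  have hgQ0 : g * z * g⁻¹ ∈ Q0 := ⟨_, hgQ, rfl⟩
  have P := (Pair.mk' h hgQ0 hgz).two (by omega)
  have ha1 : g * z * g⁻¹ ≠ 1 := fun e0 => h.ne_one (conj_eq_one_iff.1 e0)
  have haa : g * z * g⁻¹ * (g * z * g⁻¹) = 1 := by
    calc g * z * g⁻¹ * (g * z * g⁻¹) = g * (z * z) * g⁻¹ := by group
      _ = 1 := by rw [h.zz]; group
  have heF : Cfsg.Omega (ZMod 2) (Cfsg.quadFormMinus 2 (ZMod 2) 1 1) ≃*
      ↥(Cfsg.Omega (ZMod 2) ⇑F6) := by
    rw [show F6 = Classical.OrthForms.minQ (ZMod 2) 2 1 1 from rfl, Classical.OrthForms.minQ_eq]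
  let π0 : ↥C →* ↥(Cfsg.Omega (ZMod 2) ⇑F6) :=
    heF.toMonoidHom.comp (e.toMonoidHom.comp (QuotientGroup.mk' Q))
  have hsurj : Function.Surjective π0 :=
    heF.surjective.comp (e.surjective.comp (QuotientGroup.mk'_surjective Q))
  have hker : ∀ c, π0 c = 1 ↔ (c : G) ∈ Q0 := fun c => by
    show heF (e (QuotientGroup.mk' Q c)) = 1 ↔ _
    rw [MulEquiv.map_eq_one_iff, MulEquiv.map_eq_one_iff]
    refine (QuotientGroup.eq_one_iff c).trans ⟨fun hc => ⟨c, hc, rfl⟩, ?_⟩
    rintro ⟨d, hd, hdc⟩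
    rwa [← Subtype.ext hdc]
  obtain ⟨F⟩ := frame_exists h hc0 π0 hsurj hker hgQ0 haa ha1 hgz
  let S : St Q0 _ z (g * z * g⁻¹) := ⟨P, F⟩
  obtain ⟨y, ⟨D⟩⟩ := exists_rot S hc0
  obtain ⟨t, H⟩ := exists_sec D
  exact ⟨t, H.E, H.facts⟩

end Cfsg.Agent.SuzukiLocal
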