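import Cfsg.Agent.Lib.SuzukiLocal.Quot
import Cfsg.Agent.S3282

/-!
A group in which every involution centralizer has order eight, one of them dihedral: the
Brauer–Suzuki–Wall theorem and the divisibility conditions of the two local cases.
-/

set_option autoImplicit false
set_option linter.all false
set_option maxRecDepth 100000

namespace Cfsg.Agent.SuzukiLocal

open Subgroup

universe u

/-- The hypotheses. -/
structure Oct {K : Type u} [Group K] (t i s : K) : Prop where
  t_two : orderOf t = 2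
  i_sq : i * i = t
  s_sq : s * s = 1
  inv : s * i * s⁻¹ = i⁻¹
  all : ∀ x : K, orderOf x = 2 → Nat.card (centralizer ({x} : Set K)) = 8

variable {K : Type u} [Group K] [Finite K] {t i s : K}

theorem Oct.tt (h : Oct t i s) : t * t = 1 := by rw [← sq, ← h.t_two, pow_orderOf_eq_one]

theorem Oct.t_ne (h : Oct t i s) : t ≠ 1 := fun e => by
  have := h.t_two; rw [e, orderOf_one] at this; norm_num at this

theorem Oct.i_order (h : Oct t i s) : orderOf i = 4 := by
  haveI : Fact (Nat.Prime 2) := ⟨Nat.prime_two⟩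
  have := orderOf_eq_prime_pow (x := i) (p := 2) (n := 1)
    (by rw [pow_one, sq, h.i_sq]; exact h.t_ne)
    (by rw [show 2 ^ (1 + 1) = 2 * 2 by norm_num, pow_mul, sq i, h.i_sq, sq, h.tt])
  simpa using this

theorem Oct.i_comm (h : Oct t i s) : Commute i t := by
  rw [← h.i_sq]; exact (Commute.refl i).mul_right (Commute.refl i)

theorem Oct.s_comm (h : Oct t i s) : Commute s t := by
  have e : s * t * s⁻¹ = t := by
    rw [← h.i_sq, show s * (i * i) * s⁻¹ = s * i * s⁻¹ * (s * i * s⁻¹) by group, h.inv, ← mul_inv_rev, h.i_sq]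
    exact inv_eq_of_mul_eq_one_right h.tt
  exact mul_inv_eq_iff_eq_mul.1 e

theorem Oct.s_not_mem (h : Oct t i s) : s ∉ zpowers i := by
  intro hs
  obtain ⟨k, hk⟩ := hs
  have hk' : i ^ k = s := hk
  have h1 := h.inv
  rw [← hk', ((Commute.refl i).zpow_left k).eq, mul_inv_cancel_right] at h1
  have : i * i = 1 := by nth_rw 2 [h1]; exact mul_inv_cancel i
  exact h.t_ne (h.i_sq ▸ this)

theorem Oct.s_two (h : Oct t i s) : orderOf s = 2 :=
  orderOf_eq_prime (by rw [sq]; exact h.s_sq) fun e => h.s_not_mem (e ▸ one_mem _)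

theorem Oct.cases_zpowers (h : Oct t i s) {k : K} (hk : k ∈ zpowers i) :
    k = 1 ∨ k = i ∨ k = t ∨ k = i * t := by
  classical
  rw [mem_zpowers_iff_mem_range_orderOf, h.i_order, Finset.mem_image] at hk
  obtain ⟨n, hn, rfl⟩ := hk
  rw [Finset.mem_range] at hn
  interval_cases n
  · exact Or.inl (pow_zero i)
  · exact Or.inr (Or.inl (pow_one i))
  · exact Or.inr (Or.inr (Or.inl (by rw [sq, h.i_sq])))
  · exact Or.inr (Or.inr (Or.inr (by rw [pow_succ', sq, h.i_sq])))

theorem Oct.le_cent (h : Oct t i s) : zpowers i ⊔ zpowers s ≤ centralizer ({t} : Set K) :=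
  sup_le (zpowers_le.2 (mem_centralizer_singleton_iff.2 h.i_comm.eq))
    (zpowers_le.2 (mem_centralizer_singleton_iff.2 h.s_comm.eq))

theorem Oct.sup_eq (h : Oct t i s) : zpowers i ⊔ zpowers s = centralizer ({t} : Set K) := by
  refine eq_of_le_of_card_ge h.le_cent ?_
  rw [h.all t h.t_two]
  have h1 : 4 ∣ Nat.card (zpowers i ⊔ zpowers s : Subgroup K) := by
    have := card_dvd_of_le (le_sup_left : zpowers i ≤ zpowers i ⊔ zpowers s)
    rwa [Nat.card_zpowers, h.i_order] at this
  have h2 : Nat.card (zpowers i ⊔ zpowers s : Subgroup K) ∣ 8 := h.all t h.t_two ▸ card_dvd_of_le h.le_cent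
  have h3 : Nat.card (zpowers i ⊔ zpowers s : Subgroup K) ≠ 4 := fun e => by
    have := eq_of_le_of_card_ge (le_sup_left : zpowers i ≤ zpowers i ⊔ zpowers s)
      (by rw [e, Nat.card_zpowers, h.i_order])
    exact h.s_not_mem (this.symm ▸ mem_sup_right (mem_zpowers s))
  have := Nat.le_of_dvd (by norm_num) h2
  obtain ⟨j, hj⟩ := h1
  have := Nat.card_pos (α := (zpowers i ⊔ zpowers s : Subgroup K))
  omega

theorem Oct.exists_sylow (h : Oct t i s) : ∃ S : Sylow 2 K, (S : Subgroup K) = centralizer ({t} : Set K) := by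
  haveI : Fact (Nat.Prime 2) := ⟨Nat.prime_two⟩
  obtain ⟨S, hS⟩ := (IsPGroup.of_card (n := 3) (by rw [h.all t h.t_two]; norm_num) :
    IsPGroup 2 (centralizer ({t} : Set K))).exists_le_sylow
  refine ⟨S, (eq_of_le_of_card_ge hS ?_).symm⟩
  haveI : Nontrivial (S : Subgroup K) :=
    ⟨⟨⟨t, hS (mem_centralizer_singleton_iff.2 rfl)⟩, 1, fun e => h.t_ne (congrArg Subtype.val e)⟩⟩
  haveI := S.isPGroup'.center_nontrivial
  obtain ⟨n, hn, hcard⟩ := (S.isPGroup'.to_subgroup (center _)).nontrivial_iff_card.1 inferInstance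
  obtain ⟨w, hw⟩ := exists_prime_orderOf_dvd_card' (G := center (S : Subgroup K)) 2 (hcard ▸ dvd_pow_self 2 hn.ne')
  have hle : (S : Subgroup K) ≤ centralizer ({((w : (S : Subgroup K)) : K)} : Set K) := fun y hy =>
    mem_centralizer_singleton_iff.2 (congrArg Subtype.val (mem_center_iff.1 w.2 ⟨y, hy⟩))
  have h8 := h.all _ (by rw [Subgroup.orderOf_coe, Subgroup.orderOf_coe]; exact hw)
  rw [h.all t h.t_two]
  exact h8 ▸ Nat.le_of_dvd Nat.card_pos (card_dvd_of_le hle)

/-- One class of involutions. -/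
theorem Oct.conj_t (h : Oct t i s) {x : K} (hx : orderOf x = 2) : IsConj x t := by
  haveI : Fact (Nat.Prime 2) := ⟨Nat.prime_two⟩
  obtain ⟨S, hS⟩ := h.exists_sylow
  obtain ⟨T, hT⟩ := (IsPGroup.of_card (n := 3) (by rw [h.all x hx]; norm_num) :
    IsPGroup 2 (centralizer ({x} : Set K))).exists_le_sylow
  have hTx : centralizer ({x} : Set K) = T := eq_of_le_of_card_ge hT (by
    rw [h.all x hx, ← h.all t h.t_two, ← hS]
    exact le_of_eq (Nat.card_congr (Sylow.equiv T S).toEquiv))
  obtain ⟨g, hg⟩ := MulAction.exists_smul_eq K T S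
  set y := g * x * g⁻¹ with hy
  have hmem : ∀ c ∈ centralizer ({t} : Set K), c * y = y * c := by
    intro c hc
    rw [← hS, ← hg, Sylow.coe_subgroup_smul] at hc
    obtain ⟨d, hd, rfl⟩ := hc
    have hd' : d * x = x * d := mem_centralizer_singleton_iff.1 (hTx.ge hd)
    show g * d * g⁻¹ * (g * x * g⁻¹) = g * x * g⁻¹ * (g * d * g⁻¹)
    calc g * d * g⁻¹ * (g * x * g⁻¹) = g * (d * x) * g⁻¹ := by group
      _ = g * (x * d) * g⁻¹ := by rw [hd']
      _ = _ := by group
  have hyC : y ∈ centralizer ({t} : Set K) :=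
    mem_centralizer_singleton_iff.2 (hmem t (mem_centralizer_singleton_iff.2 rfl)).symm
  have hiC : i ∈ centralizer ({t} : Set K) := h.le_cent (mem_sup_left (mem_zpowers i))
  have hsC : s ∈ centralizer ({t} : Set K) := h.le_cent (mem_sup_right (mem_zpowers s))
  have hyK : y ∈ zpowers i := by
    by_contra hyK
    have hidx : ((zpowers i).subgroupOf (centralizer ({t} : Set K))).index = 2 := by
      have h1 := ((zpowers i).subgroupOf (centralizer ({t} : Set K))).card_mul_index
      rw [Nat.card_congr (subgroupOfEquivOfLe (le_sup_left.trans h.le_cent)).toEquiv, Nat.card_zpowers,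
        h.i_order, h.all t h.t_two] at h1
      omega
    have h2 : (⟨y, hyC⟩ * ⟨s, hsC⟩ : centralizer ({t} : Set K)) ∈ (zpowers i).subgroupOf _ :=
      (Subgroup.mul_mem_iff_of_index_two hidx).2 (iff_of_false
        (fun e => hyK (mem_subgroupOf.1 e)) (fun e => h.s_not_mem (mem_subgroupOf.1 e)))
    obtain ⟨k, hk⟩ := mem_subgroupOf.1 h2
    have hk' : i ^ k = y * s := hk
    -- then `s` commutes with `i`
    have h3 : Commute i (y * s) := hk' ▸ (Commute.refl i).zpow_right k
    have h4 : Commute i y := hmem i hiC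
    have h5 : Commute i s := by
      have := (h4.inv_right).mul_right h3
      rwa [inv_mul_cancel_left] at this
    have h6 := h.inv
    rw [h5.symm.eq, mul_inv_cancel_right] at h6
    have : i * i = 1 := by nth_rw 2 [h6]; exact mul_inv_cancel i
    exact h.t_ne (h.i_sq ▸ this)
  have hy2 : orderOf y = 2 := by
    rw [hy, show g * x * g⁻¹ = MulAut.conj g x from rfl, MulEquiv.orderOf_eq, hx]
  rcases h.cases_zpowers hyK with e | e | e | e
  · rw [e, orderOf_one] at hy2; norm_num at hy2
  · rw [e, h.i_order] at hy2; norm_num at hy2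
  · exact isConj_iff.2 ⟨g, e⟩
  · have h1 : y * y = 1 := by rw [← sq, ← hy2, pow_orderOf_eq_one]
    rw [e, h.i_comm.symm.mul_mul_mul_comm, h.i_sq, h.tt, mul_one] at h1
    exact absurd h1 h.t_ne

/-- The output of the Brauer–Suzuki–Wall theorem. -/
theorem Oct.bsw (h : Oct t i s) :
    ∃ Q D : Subgroup K, 2 * Nat.card K = Nat.card Q * (Nat.card Q + 1) * (Nat.card Q - 1) ∧
      (∀ x ∈ Q, x ≠ 1 → centralizer ({x} : Set K) = Q) ∧ 2 * Nat.card D + 1 = Nat.card Q ∧ Q ⊓ D = ⊥ ∧
      normalizer (Q : Set K) = Q ⊔ D := by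
  have hiC : zpowers i ≤ centralizer ({t} : Set K) := le_sup_left.trans h.le_cent
  have htK : t ∈ zpowers i := h.i_sq ▸ mul_mem (mem_zpowers i) (mem_zpowers i)
  have hCK : zpowers i ⊓ centralizer ({s} : Set K) = zpowers t := by
    refine le_antisymm (fun k hk => ?_) (zpowers_le.2 ⟨htK, mem_centralizer_singleton_iff.2 h.s_comm.eq.symm⟩)
    have hks : k * s = s * k := mem_centralizer_singleton_iff.1 hk.2
    rcases h.cases_zpowers hk.1 with e | e | e | e
    · rw [e]; exact one_mem _
    · exfalso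
      have h6 := h.inv
      rw [← (show i * s = s * i by rw [← e]; exact hks), mul_inv_cancel_right] at h6
      have : i * i = 1 := by nth_rw 2 [h6]; exact mul_inv_cancel i
      exact h.t_ne (h.i_sq ▸ this)
    · rw [e]; exact mem_zpowers t
    · exfalso
      have h5 : i * s = s * i := by
        have h7 : i * t * s = s * (i * t) := by rw [← e]; exact hks
        rw [mul_assoc, ← h.s_comm.eq, ← mul_assoc, ← mul_assoc] at h7
        exact mul_right_cancel h7
      have h6 := h.inv
      rw [← h5, mul_inv_cancel_right] at h6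
      have : i * i = 1 := by nth_rw 2 [h6]; exact mul_inv_cancel i
      exact h.t_ne (h.i_sq ▸ this)
  obtain ⟨Q, D, h1, h2, -, h4, h5, h6, -⟩ := S3282.result t h.t_two (zpowers i) inferInstance hiC htK s h.s_two
    (mem_centralizer_singleton_iff.2 h.s_comm.eq) h.s_not_mem h.sup_eq hCK
    (fun x hx => by
      obtain ⟨k, hk⟩ := hx
      have hk' : i ^ k = x := hk
      rw [← hk', ← conj_zpow, h.inv, inv_zpow])
    (fun g hg => by
      rw [eq_bot_iff]
      intro x hx
      obtain ⟨hxK, y, hy, hyx⟩ := hx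
      have hyx' : g * y * g⁻¹ = x := hyx
      by_contra hx1
      replace hx1 : x ≠ 1 := fun e => hx1 (mem_bot.2 e)
      have hsq : ∀ z : K, z ∈ zpowers i → z ≠ 1 → z = t ∨ z * z = t := by
        intro z hz hz1
        rcases h.cases_zpowers hz with e | e | e | e
        · exact absurd e hz1
        · exact Or.inr (e ▸ h.i_sq)
        · exact Or.inl e
        · exact Or.inr (by rw [e, h.i_comm.symm.mul_mul_mul_comm, h.i_sq, h.tt, mul_one])
      have hy1 : y ≠ 1 := fun e => hx1 (by rw [← hyx', e, mul_one, mul_inv_cancel])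
      refine hg (mem_centralizer_singleton_iff.2 (mul_inv_eq_iff_eq_mul.1 ?_))
      rcases hsq y hy hy1 with e | e <;> rcases hsq x hxK hx1 with e' | e'
      · rw [← e]; nth_rw 1 [hyx']; rw [e', e]
      · exfalso
        apply h.t_ne
        rw [← e', ← hyx', e, show g * t * g⁻¹ * (g * t * g⁻¹) = g * (t * t) * g⁻¹ by group, h.tt, mul_one,
          mul_inv_cancel]
      · exfalso
        apply h.t_ne
        have h9 : x * x = g * t * g⁻¹ := by
          rw [← hyx', ← e]; group
        rw [e', h.tt] at h9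
        exact conj_eq_one_iff.1 h9.symm
      · rw [← e, show g * (y * y) * g⁻¹ = g * y * g⁻¹ * (g * y * g⁻¹) by group, hyx', e', e])
    (fun x y hx hy => (h.conj_t hx).trans (h.conj_t hy).symm)
  exact ⟨Q, D, h1, h2, h4, h5, h6⟩

theorem Oct.odd_index (h : Oct t i s) : ∃ j : ℕ, Odd j ∧ Nat.card K = 8 * j := by
  haveI : Fact (Nat.Prime 2) := ⟨Nat.prime_two⟩
  obtain ⟨S, hS⟩ := h.exists_sylow
  refine ⟨(S : Subgroup K).index, Nat.not_even_iff_odd.1 fun e => S.not_dvd_index e.two_dvd, ?_⟩
  rw [← (S : Subgroup K).card_mul_index, hS, h.all t h.t_two]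

/-- The finite scan. -/
def scan (O : ℕ) (p : ℕ → Bool) : Bool :=
  (List.range 600).all fun q =>
    let m := q * (q + 1) * (q - 1)
    m == 0 || m % 16 != 0 || (16 * O) % m != 0 || p q

theorem scan_five : scan 10945935 (fun q => q * (q + 1) * (q - 1) % 5 != 0 || q == 9 || q == 55) = true := by
  decide +kernel

theorem scan_seven : scan 7818525 (fun q => q * (q + 1) * (q - 1) % 5 == 0) = true := by
  decide +kernel

theorem Oct.scan_spec (h : Oct t i s) {M a O : ℕ} (hM : M = 2 ^ a * O) (hO : 0 < O) (hO' : O ≤ 11000000)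
    (hd : Nat.card K ∣ M) {p : ℕ → Bool} (hp : scan O p = true) {q : ℕ}
    (hq : 2 * Nat.card K = q * (q + 1) * (q - 1)) : p q = true := by
  obtain ⟨j, hj, hK⟩ := h.odd_index
  have hjO : j ∣ O := (Nat.Coprime.pow_right a (Nat.coprime_two_right.2 hj)).dvd_of_dvd_mul_left
    (hM ▸ (Dvd.intro_left 8 hK.symm).trans hd)
  have hdiv : q * (q + 1) * (q - 1) ∣ 16 * O := by
    rw [← hq, hK, ← mul_assoc]; exact Nat.mul_dvd_mul_left 16 hjO
  have hq600 : q < 600 := by
    by_contra hlt
    have h1 : 600 * 601 * 599 ≤ q * (q + 1) * (q - 1) :=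
      Nat.mul_le_mul (Nat.mul_le_mul (by omega) (by omega)) (by omega)
    have := Nat.le_of_dvd (by omega) hdiv
    omega
  have h1 := List.all_eq_true.1 hp q (List.mem_range.2 hq600)
  simp only [Bool.or_eq_true, beq_iff_eq, bne_iff_ne, ne_eq] at h1
  rcases h1 with ((h1 | h1) | h1) | h1
  · rw [h1] at hq
    have := Nat.card_pos (α := K)
    omega
  · exact absurd (by rw [← hq, hK]; omega) h1
  · exact absurd (Nat.mod_eq_zero_of_dvd hdiv) h1
  · exact h1

theorem Oct.not_seven (h : Oct t i s) (hd : Nat.card K ∣ 64049356800) (h5 : ¬ 5 ∣ Nat.card K) : False := by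
  obtain ⟨Q, D, hq, -⟩ := h.bsw
  have h1 := h.scan_spec (M := 64049356800) (a := 13) (O := 7818525) (by norm_num) (by norm_num) (by norm_num) hd
    scan_seven hq
  simp only [beq_iff_eq] at h1
  rw [← hq] at h1
  omega

theorem Oct.five (h : Oct t i s) (hd : Nat.card K ∣ 89669099520) {l : K} (hl : orderOf l = 5) :
    Nat.card K = 360 ∧ Nat.card (centralizer ({l} : Set K)) = 5 ∧
      Nat.card (normalizer (zpowers l : Set K)) = 10 := by
  classical
  have h5 : 5 ∣ Nat.card K := hl ▸ orderOf_dvd_natCard l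
  obtain ⟨Q, D, hq, hQ, hDQ, hQD, hN⟩ := h.bsw
  have h1 := h.scan_spec (M := 89669099520) (a := 13) (O := 10945935) (by norm_num) (by norm_num) (by norm_num) hd
    scan_five hq
  simp only [Bool.or_eq_true, beq_iff_eq, bne_iff_ne, ne_eq] at h1
  rcases h1 with (h1 | h1) | h1
  · rw [← hq] at h1; omega
  swap
  · exfalso
    haveI : Fact (Nat.Prime 11) := ⟨by norm_num⟩
    haveI : Fact (Nat.Prime 5) := ⟨Nat.prime_five⟩
    obtain ⟨a, ha⟩ := exists_prime_orderOf_dvd_card' (G := Q) 11 (by rw [h1]; norm_num)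
    obtain ⟨c, hc⟩ := exists_prime_orderOf_dvd_card' (G := Q) 5 (by rw [h1]; norm_num)
    have hcomm : ∀ x y : Q, x * y = y * x := by
      intro x y
      by_cases hx : x = 1
      · rw [hx, one_mul, mul_one]
      · have := hQ x x.2 (fun e => hx (Subtype.ext e))
        exact Subtype.ext (mem_centralizer_singleton_iff.1 (this.ge y.2)).symm
    haveI : IsCyclic Q := isCyclic_of_orderOf_eq_card (a * c) (by
      rw [(show Commute a c from hcomm a c).orderOf_mul_eq_mul_orderOf_of_coprime (by rw [ha, hc]; norm_num), ha, hc, h1])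
    haveI := Fintype.ofFinite Q
    have ha1 : (a : K) ≠ 1 := fun e => by
      rw [show a = 1 from Subtype.ext e, orderOf_one] at ha; norm_num at ha
    have hDN : D ≤ normalizer (Q : Set K) := hN ▸ le_sup_right
    let f : D → {y : Q // y ^ 11 = 1} := fun d =>
      ⟨⟨(d : K) * a * (d : K)⁻¹, (mem_normalizer_iff.1 (hDN d.2) a).1 a.2⟩, by
        apply Subtype.ext
        show ((d : K) * a * (d : K)⁻¹) ^ 11 = 1
        rw [conj_pow, show (a : K) ^ 11 = 1 by rw [← SubmonoidClass.coe_pow, ← ha, pow_orderOf_eq_one]; rfl, mul_one,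
          mul_inv_cancel]⟩
    have hf : Function.Injective f := by
      intro d e hde
      have h3 : (d : K) * a * (d : K)⁻¹ = e * a * (e : K)⁻¹ := congrArg (fun z : {y : Q // y ^ 11 = 1} => ((z : Q) : K)) hde
      have h4 : (e : K)⁻¹ * d ∈ Q ⊓ D := by
        refine Subgroup.mem_inf.2 ⟨?_, mul_mem (inv_mem e.2) d.2⟩
        rw [← hQ a a.2 ha1, mem_centralizer_singleton_iff]
        calc (e : K)⁻¹ * d * a = (e : K)⁻¹ * ((d : K) * a * (d : K)⁻¹) * d := by group
          _ = (e : K)⁻¹ * (e * a * (e : K)⁻¹) * d := by rw [h3]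
          _ = _ := by group
      rw [hQD, mem_bot, inv_mul_eq_one] at h4
      exact Subtype.ext h4.symm
    have h6 := Nat.card_le_card_of_injective f hf
    have h7 := IsCyclic.card_pow_eq_one_le (α := Q) (n := 11) (by norm_num)
    rw [Nat.card_eq_fintype_card (α := {y : Q // y ^ 11 = 1}), Fintype.card_subtype] at h6
    rw [h1] at hDQ
    omega
  have hK : Nat.card K = 360 := by rw [h1] at hq; omega
  haveI : Fact (Nat.Prime 3) := ⟨Nat.prime_three⟩
  haveI : Fact (Nat.Prime 5) := ⟨Nat.prime_five⟩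
  have hC : Nat.card (centralizer ({l} : Set K)) = 5 := by
    have hdvd : Nat.card (centralizer ({l} : Set K)) ∣ 360 := hK ▸ card_subgroup_dvd_card _
    have hl5 : 5 ∣ Nat.card (centralizer ({l} : Set K)) := by
      have := card_dvd_of_le (zpowers_le.2 (show l ∈ centralizer ({l} : Set K) from mem_centralizer_singleton_iff.2 rfl))
      rwa [Nat.card_zpowers, hl] at this
    have hlcomm : ∀ y : K, y ∈ centralizer ({l} : Set K) → l ∈ centralizer ({y} : Set K) := fun y hy =>
      mem_centralizer_singleton_iff.2 (mem_centralizer_singleton_iff.1 hy).symm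
    have hdl : ∀ y : K, y ∈ centralizer ({l} : Set K) → 5 ∣ Nat.card (centralizer ({y} : Set K)) := fun y hy => by
      have := card_dvd_of_le (zpowers_le.2 (hlcomm y hy))
      rwa [Nat.card_zpowers, hl] at this
    have no2 : ¬ 2 ∣ Nat.card (centralizer ({l} : Set K)) := by
      intro h2
      haveI : Fact (Nat.Prime 2) := ⟨Nat.prime_two⟩
      obtain ⟨y, hy⟩ := exists_prime_orderOf_dvd_card' (G := centralizer ({l} : Set K)) 2 h2
      have := hdl y y.2
      rw [h.all y (by rw [Subgroup.orderOf_coe]; exact hy)] at this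
      norm_num at this
    have no3 : ¬ 3 ∣ Nat.card (centralizer ({l} : Set K)) := by
      intro h3
      obtain ⟨y, hy⟩ := exists_prime_orderOf_dvd_card' (G := centralizer ({l} : Set K)) 3 h3
      have hy3 : orderOf (y : K) = 3 := by rw [Subgroup.orderOf_coe]; exact hy
      obtain ⟨T, hT⟩ := (IsPGroup.of_card (G := zpowers (y : K)) (n := 1)
        (by rw [Nat.card_zpowers, hy3, pow_one])).exists_le_sylow
      obtain ⟨R, hR⟩ := (IsPGroup.of_card (G := Q) (n := 2) (by rw [h1]; norm_num) : IsPGroup 3 Q).exists_le_sylow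
      have hRQ : (R : Subgroup K) = Q := (eq_of_le_of_card_ge hR (by
        rw [Sylow.card_eq_multiplicity, hK, h1, show (360 : ℕ) = 3 ^ 2 * 40 by norm_num,
          Nat.factorization_mul (by norm_num) (by norm_num), Finsupp.add_apply,
          Nat.Prime.factorization_pow Nat.prime_three, Nat.factorization_eq_zero_of_not_dvd (by norm_num : ¬ 3 ∣ 40)]
        simp)).symm
      obtain ⟨g, hg⟩ := MulAction.exists_smul_eq K T R
      have hmem : g * (y : K) * g⁻¹ ∈ Q := by
        rw [← hRQ, ← hg, Sylow.coe_subgroup_smul]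
        exact Subgroup.smul_mem_pointwise_smul (y : K) (MulAut.conj g) _ (hT (mem_zpowers _))
      have hne : g * (y : K) * g⁻¹ ≠ 1 := fun e => by
        rw [conj_eq_one_iff.1 e, orderOf_one] at hy3; norm_num at hy3
      have hlm : g * l * g⁻¹ ∈ Q := by
        rw [← hQ _ hmem hne, mem_centralizer_singleton_iff]
        have e := mem_centralizer_singleton_iff.1 y.2
        calc g * l * g⁻¹ * (g * (y : K) * g⁻¹) = g * (l * y) * g⁻¹ := by group
          _ = g * (y * l) * g⁻¹ := by rw [e]
          _ = _ := by group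
      have h9 := orderOf_dvd_natCard (⟨_, hlm⟩ : Q)
      rw [Subgroup.orderOf_mk, show g * l * g⁻¹ = MulAut.conj g l from rfl, MulEquiv.orderOf_eq, hl, h1] at h9
      norm_num at h9
    obtain ⟨j, hj⟩ := hl5
    rw [hj] at hdvd no2 no3 ⊢
    have hj72 : j ∣ 72 := Nat.dvd_of_mul_dvd_mul_left (by norm_num : 0 < 5) (hdvd.trans (by norm_num))
    have := Nat.le_of_dvd (by norm_num) hj72
    interval_cases j <;> omega
  refine ⟨hK, hC, ?_⟩
  have hd4 : Nat.card (normalizer (zpowers l : Set K)) ∣ 20 := by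
    have := card_normalizer_dvd (⊤ : Subgroup K) l
    rwa [top_inf_eq, top_inf_eq, hC, hl, Nat.totient_prime Nat.prime_five] at this
  have hd5 : 5 ∣ Nat.card (normalizer (zpowers l : Set K)) := by
    have := le_card_normalizer (⊤ : Subgroup K) l
    rwa [top_inf_eq, top_inf_eq, hC] at this
  obtain ⟨L, hL⟩ := (IsPGroup.of_card (G := zpowers l) (n := 1) (by rw [Nat.card_zpowers, hl, pow_one]) :
    IsPGroup 5 (zpowers l)).exists_le_sylow
  have hLl : zpowers l = (L : Subgroup K) := eq_of_le_of_card_ge hL (by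
    rw [Sylow.card_eq_multiplicity, hK, Nat.card_zpowers, hl, show (360 : ℕ) = 5 ^ 1 * 72 by norm_num,
      Nat.factorization_mul (by norm_num) (by norm_num), Finsupp.add_apply,
      Nat.Prime.factorization_pow Nat.prime_five, Nat.factorization_eq_zero_of_not_dvd (by norm_num : ¬ 5 ∣ 72)]
    simp)
  have hmod : (normalizer (zpowers l : Set K)).index % 5 = 1 := by
    rw [hLl, show ((L : Subgroup K) : Set K) = (L : Set K) from rfl, ← Sylow.card_eq_index_normalizer L]
    exact card_sylow_modEq_one 5 K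
  have hmul := (normalizer (zpowers l : Set K)).card_mul_index
  rw [hK] at hmul
  obtain ⟨j, hj⟩ := hd5
  rw [hj] at hmul hd4 ⊢
  have hj4 : j ∣ 4 := Nat.dvd_of_mul_dvd_mul_left (by norm_num : 0 < 5) (hd4.trans (by norm_num))
  have := Nat.le_of_dvd (by norm_num) hj4
  interval_cases j <;> omega

end Cfsg.Agent.SuzukiLocal
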