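import Mathlib
import Cfsg.Agent.Lib.JankoTwo.Four

/-!
General facts for the Sylow 5- and 7-normalizers: normalizers of cyclic subgroups, the quotient of the
centralizer of an element of odd order, and the alternating group of degree four.
-/

set_option autoImplicit false
set_option linter.all false

namespace Cfsg.Agent.SuzukiLocal

open Subgroup

universe u

variable {G : Type u} [Group G]

theorem mem_cent_iff {x y : G} : y ∈ centralizer ({x} : Set G) ↔ y * x = x * y :=
  mem_centralizer_singleton_iff

theorem centralizer_le_normalizer_zpowers (b : G) :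
    centralizer ({b} : Set G) ≤ normalizer (zpowers b : Set G) := by
  intro x hx
  have hx' : Commute x b := mem_centralizer_singleton_iff.1 hx
  rw [mem_normalizer_iff]
  intro y
  constructor
  · intro hy
    obtain ⟨i, rfl⟩ := hy
    show x * b ^ i * x⁻¹ ∈ zpowers b
    rw [(hx'.zpow_right i).eq, mul_inv_cancel_right]
    exact zpow_mem_zpowers b i
  · rintro ⟨i, hi⟩
    have hi' : b ^ i = x * y * x⁻¹ := hi
    have : y = b ^ i := by
      rw [show y = x⁻¹ * (x * y * x⁻¹) * x by group, ← hi', (hx'.zpow_right i).inv_left.eq, inv_mul_cancel_right]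
    rw [this]
    exact zpow_mem_zpowers b i

variable [Finite G]

/-- The part of `N(<b>)` in a subgroup: its index over the part of `C(b)` divides the Euler function. -/
theorem card_normalizer_dvd (M : Subgroup G) (b : G) :
    Nat.card (M ⊓ normalizer (zpowers b : Set G) : Subgroup G) ∣
      (orderOf b).totient * Nat.card (M ⊓ centralizer ({b} : Set G) : Subgroup G) := by
  set H := M ⊓ normalizer (zpowers b : Set G) with hH
  let φ : H →* MulAut (zpowers b) :=
    (Subgroup.normalizerMonoidHom (zpowers b)).comp (Subgroup.inclusion inf_le_right)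
  have hker : φ.ker = (M ⊓ centralizer ({b} : Set G)).subgroupOf H := by
    ext x
    show Subgroup.inclusion (inf_le_right : H ≤ _) x ∈ (Subgroup.normalizerMonoidHom (zpowers b)).ker ↔ _
    rw [Subgroup.normalizerMonoidHom_ker, mem_subgroupOf, mem_subgroupOf, mem_inf]
    have hc : centralizer (zpowers b : Set G) = centralizer ({b} : Set G) := by
      rw [zpowers_eq_closure, centralizer_closure]
    rw [hc]
    exact ⟨fun h => ⟨x.2.1, h⟩, fun h => h.2⟩
  have hcard : Nat.card φ.ker = Nat.card (M ⊓ centralizer ({b} : Set G) : Subgroup G) := by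
    rw [hker]
    exact Nat.card_congr (subgroupOfEquivOfLe
      (inf_le_inf_left M (centralizer_le_normalizer_zpowers b))).toEquiv
  rw [← φ.ker.card_mul_index, hcard, Subgroup.index_ker, mul_comm]
  refine Nat.mul_dvd_mul_right ?_ _
  refine (Subgroup.card_subgroup_dvd_card φ.range).trans ?_
  rw [IsCyclic.card_mulAut, Nat.card_zpowers]

theorem le_card_normalizer (M : Subgroup G) (b : G) :
    Nat.card (M ⊓ centralizer ({b} : Set G) : Subgroup G) ∣
      Nat.card (M ⊓ normalizer (zpowers b : Set G) : Subgroup G) :=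
  card_dvd_of_le (inf_le_inf_left M (centralizer_le_normalizer_zpowers b))

/-- The quotient of `C(b)` by `<b>`. -/
abbrev cycSub (b : G) : Subgroup (centralizer ({b} : Set G)) :=
  (zpowers b).subgroupOf (centralizer ({b} : Set G))

instance cycSub_normal (b : G) : (cycSub b).Normal :=
  ⟨fun x hx g => by
    rw [mem_subgroupOf] at hx ⊢
    obtain ⟨i, hi⟩ := hx
    have hi' : b ^ i = (x : G) := hi
    show (g : G) * x * (g : G)⁻¹ ∈ zpowers b
    rw [← hi', ((show Commute (g : G) b from mem_centralizer_singleton_iff.1 g.2).zpow_right i).eq,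
      mul_inv_cancel_right]
    exact zpow_mem_zpowers b i⟩

/-- The group `C(b)/<b>`. -/
abbrev Quot' (b : G) : Type u := centralizer ({b} : Set G) ⧸ cycSub b

theorem zpowers_le_centralizer (b : G) : zpowers b ≤ centralizer ({b} : Set G) :=
  zpowers_le.2 (mem_centralizer_singleton_iff.2 rfl)

theorem card_cycSub (b : G) : Nat.card (cycSub b) = orderOf b := by
  rw [Nat.card_congr (subgroupOfEquivOfLe (zpowers_le_centralizer b)).toEquiv, Nat.card_zpowers]

theorem card_quot (b : G) :
    Nat.card (centralizer ({b} : Set G)) = Nat.card (Quot' b) * orderOf b := by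
  rw [← card_cycSub b]
  exact card_eq_card_quotient_mul_card_subgroup _

/-- The projection. -/
abbrev proj (b : G) : centralizer ({b} : Set G) →* Quot' b := QuotientGroup.mk' (cycSub b)

theorem proj_eq_one_iff {b : G} (x : centralizer ({b} : Set G)) : proj b x = 1 ↔ (x : G) ∈ zpowers b := by
  rw [QuotientGroup.mk'_apply, QuotientGroup.eq_one_iff, mem_subgroupOf]

/-- A power of an odd order element squaring to one is trivial. -/
theorem zpow_eq_one_of_sq {b : G} (hb : Odd (orderOf b)) {i : ℤ} (h : b ^ i * b ^ i = 1) : b ^ i = 1 := by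
  rw [← zpow_add, ← orderOf_dvd_iff_zpow_eq_one] at h
  rw [← orderOf_dvd_iff_zpow_eq_one]
  refine Int.dvd_of_dvd_mul_right_of_gcd_one (show ((orderOf b : ℕ) : ℤ) ∣ 2 * i by rwa [two_mul]) ?_
  rw [Int.gcd, Int.natAbs_natCast]
  exact Nat.coprime_two_right.2 hb

/-- An involution commuting with `b` stays an involution in the quotient. -/
theorem orderOf_proj {b : G} (hb : Odd (orderOf b)) (x : centralizer ({b} : Set G))
    (hx : orderOf (x : G) = 2) : orderOf (proj b x) = 2 := by
  rw [Subgroup.orderOf_coe] at hx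
  have h1 : orderOf (proj b x) ∣ 2 := hx ▸ orderOf_map_dvd (proj b) x
  rcases (Nat.dvd_prime Nat.prime_two).1 h1 with h | h
  · exfalso
    rw [orderOf_eq_one_iff, proj_eq_one_iff] at h
    have h2 := orderOf_dvd_natCard (⟨(x : G), h⟩ : zpowers b)
    rw [Subgroup.orderOf_mk, Subgroup.orderOf_coe, hx, Nat.card_zpowers] at h2
    exact (Nat.not_even_iff_odd.2 hb) (even_iff_two_dvd.2 h2)
  · exact h

/-- An involution of the quotient lifts to an involution. -/
theorem exists_lift {b : G} (hb : Odd (orderOf b)) {q : Quot' b} (hq : orderOf q = 2) :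
    ∃ x : centralizer ({b} : Set G), orderOf (x : G) = 2 ∧ proj b x = q := by
  obtain ⟨c, rfl⟩ := QuotientGroup.mk'_surjective (cycSub b) q
  have hc2 : proj b (c ^ 2) = 1 := by rw [map_pow, ← hq, pow_orderOf_eq_one]
  rw [proj_eq_one_iff] at hc2
  have h1 : (c ^ orderOf b) ^ 2 = 1 := by
    apply Subtype.ext
    obtain ⟨i, hi⟩ := hc2
    have hi' : b ^ i = (c : G) ^ 2 := hi
    show ((c : G) ^ orderOf b) ^ 2 = 1
    rw [← pow_mul, mul_comm, pow_mul, ← hi', ← zpow_natCast, ← zpow_mul, mul_comm, zpow_mul,
      zpow_natCast, pow_orderOf_eq_one, one_zpow]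
  obtain ⟨k, hk⟩ := hb
  have hpr : proj b (c ^ orderOf b) = proj b c := by
    rw [map_pow, hk, pow_add, pow_one, pow_mul]
    rw [show proj b c ^ 2 = 1 by rw [← hq, pow_orderOf_eq_one], one_pow, one_mul]
  refine ⟨c ^ orderOf b, ?_, hpr⟩
  rw [Subgroup.orderOf_coe]
  refine orderOf_eq_prime h1 fun e => ?_
  rw [e, map_one] at hpr
  rw [← hpr, orderOf_one] at hq
  exact absurd hq (by norm_num)

/-- Centralizers of involutions in the quotient. -/
theorem card_cent_proj {b : G} (hb : Odd (orderOf b)) (x : centralizer ({b} : Set G))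
    (hx : orderOf (x : G) = 2) :
    Nat.card (centralizer ({(x : G)} : Set G) ⊓ centralizer ({b} : Set G) : Subgroup G) =
      orderOf b * Nat.card (centralizer ({proj b x} : Set (Quot' b))) := by
  have hxx : (x : G) * x = 1 := by rw [← sq, ← hx, pow_orderOf_eq_one]
  set H := (centralizer ({proj b x} : Set (Quot' b))).comap (proj b) with hH
  have h1 : Nat.card H = orderOf b * Nat.card (centralizer ({proj b x} : Set (Quot' b))) := by
    have := (cycSub b).subgroupOf H |>.card_mul_index
    rw [← this]
    congr 1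
    · rw [← card_cycSub b]
      refine Nat.card_congr (subgroupOfEquivOfLe ?_).toEquiv
      intro y hy
      rw [hH, mem_comap, mem_centralizer_singleton_iff, (QuotientGroup.eq_one_iff y).2 hy |> fun e =>
        show proj b y = 1 from e, one_mul, mul_one]
    · let f : H →* centralizer ({proj b x} : Set (Quot' b)) :=
        ((proj b).comp H.subtype).codRestrict _ fun y => y.2
      have hf : Function.Surjective f := by
        rintro ⟨q, hq⟩
        obtain ⟨c, rfl⟩ := QuotientGroup.mk'_surjective (cycSub b) q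
        exact ⟨⟨c, hq⟩, rfl⟩
      have hker : f.ker = (cycSub b).subgroupOf H := by
        ext y
        rw [MonoidHom.mem_ker, mem_subgroupOf, Subtype.ext_iff]
        exact QuotientGroup.eq_one_iff _
      rw [← hker, Subgroup.index_ker, MonoidHom.range_eq_top.2 hf, Subgroup.card_top]
  rw [← h1]
  refine Nat.card_congr
    { toFun := fun y => ⟨⟨(y : G), y.2.2⟩, by
        rw [hH, mem_comap, mem_centralizer_singleton_iff, ← map_mul, ← map_mul]
        exact congrArg _ (Subtype.ext (mem_centralizer_singleton_iff.1 y.2.1))⟩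
      invFun := fun y => ⟨((y : centralizer ({b} : Set G)) : G), ?_, (y : centralizer ({b} : Set G)).2⟩
      left_inv := fun y => rfl
      right_inv := fun y => rfl }
  obtain ⟨⟨c, hcb⟩, hy⟩ := y
  rw [hH, mem_comap, mem_centralizer_singleton_iff, ← map_mul, ← map_mul] at hy
  have hmem : ((c * (x : G) * c⁻¹) * (x : G)⁻¹) ∈ zpowers b := by
    have h2 : proj b (⟨c, hcb⟩ * x * ⟨c, hcb⟩⁻¹ * x⁻¹) = 1 := by
      rw [map_mul, map_mul, hy, map_mul, map_inv, map_inv]; group
    exact (proj_eq_one_iff _).1 h2
  obtain ⟨i, hi⟩ := hmem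
  have hi' : b ^ i = c * (x : G) * c⁻¹ * (x : G)⁻¹ := hi
  have hxb : Commute (x : G) (b ^ i) :=
    (show Commute (x : G) b from mem_centralizer_singleton_iff.1 x.2).zpow_right i
  have hcx : c * (x : G) * c⁻¹ = b ^ i * x := by rw [hi', inv_mul_cancel_right]
  have h3 : b ^ i * b ^ i = 1 := by
    have h4 : (b ^ i * x) * (b ^ i * x) = 1 := by
      rw [← hcx, show c * (x : G) * c⁻¹ * (c * x * c⁻¹) = c * (x * x) * c⁻¹ by group, hxx, mul_one, mul_inv_cancel]
    rwa [mul_assoc, ← mul_assoc (x : G), hxb.eq, mul_assoc (b ^ i), hxx, mul_one] at h4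
  rw [zpow_eq_one_of_sq hb h3, one_mul] at hcx
  exact mem_centralizer_singleton_iff.2 (mul_inv_eq_iff_eq_mul.1 hcx)

/-- A group of order twelve with a normal self-centralising four-group is alternating. -/
theorem alt_four {K : Type u} [Group K] [Finite K] {U : Subgroup K} (h : JankoTwo.Four.Hyp U)
    (hn : U.Normal) (h12 : Nat.card K = 12) : Nonempty (K ≃* alternatingGroup (Fin 4)) := by
  classical
  haveI := hn
  haveI : Fact (Nat.Prime 3) := ⟨Nat.prime_three⟩
  obtain ⟨T⟩ : Nonempty (Sylow 3 K) := inferInstance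
  have hT : Nat.card (T : Subgroup K) = 3 := by
    rw [Sylow.card_eq_multiplicity, h12, show (12 : ℕ) = 3 ^ 1 * 4 by norm_num,
      Nat.factorization_mul (by norm_num) (by norm_num), Finsupp.add_apply,
      Nat.Prime.factorization_pow Nat.prime_three, Nat.factorization_eq_zero_of_not_dvd (by norm_num : ¬ 3 ∣ 4)]
    simp
  have hnn : ¬ (T : Subgroup K).Normal := by
    intro hTn
    haveI := hTn
    have hd : Disjoint U (T : Subgroup K) := by
      rw [disjoint_iff, eq_bot_iff]
      intro x hx
      have h1 := orderOf_dvd_natCard (⟨x, hx.1⟩ : U)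
      have h2 := orderOf_dvd_natCard (⟨x, hx.2⟩ : (T : Subgroup K))
      rw [Subgroup.orderOf_mk] at h1 h2
      rw [h.card] at h1; rw [hT] at h2
      exact mem_bot.2 (orderOf_eq_one_iff.1 (Nat.eq_one_of_dvd_coprimes (by norm_num : Nat.Coprime 4 3) h1 h2))
    haveI : Nontrivial U := Finite.one_lt_card_iff_nontrivial.1 (by rw [h.card]; norm_num)
    obtain ⟨⟨u, hu⟩, hu1⟩ := exists_ne (1 : U)
    have hTU : (T : Subgroup K) ≤ U := by
      intro y hy
      rw [← h.cent u hu fun e => hu1 (Subtype.ext e)]
      exact mem_centralizer_singleton_iff.2 (Subgroup.commute_of_normal_of_disjoint U T hn hTn hd u y hu hy).symm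
    have := card_dvd_of_le hTU
    rw [hT, h.card] at this
    norm_num at this
  have hidx : (normalizer ((T : Subgroup K) : Set K)).index = 4 := by
    have h1 : (normalizer ((T : Subgroup K) : Set K)).index % 3 = 1 := by
      rw [show ((T : Subgroup K) : Set K) = (T : Set K) from rfl, ← Sylow.card_eq_index_normalizer T]; exact card_sylow_modEq_one 3 K
    have h2 := (normalizer ((T : Subgroup K) : Set K)).card_mul_index
    have h3 : 3 ∣ Nat.card (normalizer ((T : Subgroup K) : Set K)) := by
      have := card_dvd_of_le (le_normalizer (H := (T : Subgroup K)))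
      rwa [hT] at this
    obtain ⟨j, hj⟩ := h3
    rw [hj, h12] at h2
    have h4 : (normalizer ((T : Subgroup K) : Set K)).index ∣ 4 := ⟨j, by
      rw [mul_assoc] at h2
      rw [mul_comm]
      exact (Nat.eq_of_mul_eq_mul_left three_pos (h2.trans (by norm_num : (12 : ℕ) = 3 * 4))).symm⟩
    have h5 : (normalizer ((T : Subgroup K) : Set K)).index ≠ 1 := fun e => hnn
      (normalizer_eq_top_iff.1 (index_eq_one.1 e))
    have := Nat.le_of_dvd (by norm_num) h4
    interval_cases hi : (normalizer ((T : Subgroup K) : Set K)).index <;> omega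
  have hNT : normalizer ((T : Subgroup K) : Set K) = (T : Subgroup K) := by
    refine (eq_of_le_of_card_ge le_normalizer ?_).symm
    have h2 := (normalizer ((T : Subgroup K) : Set K)).card_mul_index
    rw [hidx, h12] at h2
    rw [hT]; omega
  let φ : K →* Equiv.Perm (K ⧸ (T : Subgroup K)) := MulAction.toPermHom K _
  have hcore : (T : Subgroup K).normalCore = ⊥ := by
    rcases (Nat.dvd_prime Nat.prime_three).1 (hT ▸ card_dvd_of_le (normalCore_le (T : Subgroup K))) with e | e
    · exact Subgroup.card_eq_one.1 e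
    · have heq := eq_of_le_of_card_ge (normalCore_le (T : Subgroup K)) (le_of_eq (hT.trans e.symm))
      exact absurd (heq ▸ normalCore_normal _) hnn
  have hinj : Function.Injective φ := by
    rw [← MonoidHom.ker_eq_bot_iff, ← hcore, Subgroup.normalCore_eq_ker]
  have h4 : Nat.card (K ⧸ (T : Subgroup K)) = 4 := by
    have := (T : Subgroup K).card_mul_index
    rw [hT, h12] at this
    rw [← Subgroup.index_eq_card]
    omega
  haveI : Fintype (K ⧸ (T : Subgroup K)) := Fintype.ofFinite _
  let ε : (K ⧸ (T : Subgroup K)) ≃ Fin 4 := Fintype.equivFinOfCardEq (by rw [← Nat.card_eq_fintype_card, h4])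
  let ψ : K →* Equiv.Perm (Fin 4) := ε.permCongrHom.toMonoidHom.comp φ
  have hψ : Function.Injective ψ := ε.permCongrHom.injective.comp hinj
  have hr : ψ.range.index = 2 := by
    have h1 := ψ.range.card_mul_index
    rw [← Nat.card_congr (MonoidHom.ofInjective hψ).toEquiv, h12, Nat.card_perm, Nat.card_fin] at h1
    norm_num [Nat.factorial] at h1
    omega
  exact ⟨(MonoidHom.ofInjective hψ).trans
    (MulEquiv.subgroupCongr (Equiv.Perm.eq_alternatingGroup_of_index_eq_two hr))⟩

end Cfsg.Agent.SuzukiLocal
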