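import Cfsg.Agent.Lib.SuzukiLocal.Interface
import Cfsg.Agent.Lib.SuzukiLocal.Quot
import Cfsg.Agent.Lib.SuzukiLocal.Octic

/-!
The three centralizers: an element of order five commuting with `z`, elements of order five and seven
commuting with `t`.
-/

set_option autoImplicit false
set_option linter.all false

namespace Cfsg.Agent.SuzukiLocal

open Subgroup

universe u

variable {G : Type u} [Group G]

theorem map_centralizer_conj (h x : G) :
    (centralizer ({x} : Set G)).map (MulAut.conj h).toMonoidHom = centralizer ({h * x * h⁻¹} : Set G) := by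
  ext y
  rw [Subgroup.mem_map_equiv, MulAut.conj_symm_apply, mem_centralizer_singleton_iff, mem_centralizer_singleton_iff]
  constructor
  · intro e
    calc y * (h * x * h⁻¹) = h * (h⁻¹ * y * h * x) * h⁻¹ := by group
      _ = h * (x * (h⁻¹ * y * h)) * h⁻¹ := by rw [e]
      _ = _ := by group
  · intro e
    calc h⁻¹ * y * h * x = h⁻¹ * (y * (h * x * h⁻¹)) * h := by group
      _ = h⁻¹ * (h * x * h⁻¹ * y) * h := by rw [e]
      _ = _ := by group

theorem card_cent_conj (h x : G) :
    Nat.card (centralizer ({h * x * h⁻¹} : Set G)) = Nat.card (centralizer ({x} : Set G)) := by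
  rw [← map_centralizer_conj, card_map_of_injective (f := (MulAut.conj h).toMonoidHom) (MulAut.conj h).injective]

theorem card_cent_inf_conj (h x b : G) :
    Nat.card (centralizer ({h * x * h⁻¹} : Set G) ⊓ centralizer ({h * b * h⁻¹} : Set G) : Subgroup G) =
      Nat.card (centralizer ({x} : Set G) ⊓ centralizer ({b} : Set G) : Subgroup G) := by
  rw [← map_centralizer_conj, ← map_centralizer_conj,
    ← map_inf _ _ (MulAut.conj h).toMonoidHom (MulAut.conj h).injective,
    card_map_of_injective (f := (MulAut.conj h).toMonoidHom) (MulAut.conj h).injective]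

theorem cent_congr {a b : G} (h : zpowers a = zpowers b) :
    centralizer ({a} : Set G) = centralizer ({b} : Set G) := by
  rw [← centralizer_closure, ← zpowers_eq_closure, h, zpowers_eq_closure, centralizer_closure]

theorem zpowers_conj (h b : G) :
    (zpowers b).map (MulAut.conj h).toMonoidHom = zpowers (h * b * h⁻¹) :=
  MonoidHom.map_zpowers _ _

variable [Finite G]

/-- Two elements of order `p` commuting with `w`, when `p²` does not divide `|C(w)|`. -/
theorem move {w x b b₀ : G} {p : ℕ} [Fact p.Prime] (hp2 : ¬ p ^ 2 ∣ Nat.card (centralizer ({w} : Set G)))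
    (hb₀ : b₀ * w = w * b₀) (ho₀ : orderOf b₀ = p) (hx : IsConj x w) (hxb : b * x = x * b)
    (hb : orderOf b = p) : ∃ h : G, h * x * h⁻¹ = w ∧ zpowers (h * b * h⁻¹) = zpowers b₀ := by
  obtain ⟨g, hg⟩ := isConj_iff.1 hx
  set C := centralizer ({w} : Set G) with hC
  have hbC : g * b * g⁻¹ ∈ C := mem_centralizer_singleton_iff.2 (by
    rw [← hg]
    calc g * b * g⁻¹ * (g * x * g⁻¹) = g * (b * x) * g⁻¹ := by group
      _ = g * (x * b) * g⁻¹ := by rw [hxb]
      _ = _ := by group)
  have hb₀C : b₀ ∈ C := mem_centralizer_singleton_iff.2 hb₀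
  have hsyl : ∀ y : C, orderOf y = p → ∃ S : Sylow p C, (S : Subgroup C) = zpowers y := by
    intro y hy
    obtain ⟨S, hS⟩ := (IsPGroup.of_card (G := zpowers y) (n := 1)
      (by rw [Nat.card_zpowers, hy, pow_one])).exists_le_sylow
    refine ⟨S, (eq_of_le_of_card_ge hS ?_).symm⟩
    obtain ⟨k, hk⟩ := IsPGroup.iff_card.1 S.isPGroup'
    rw [Nat.card_zpowers, hy, hk]
    have : k ≤ 1 := by
      by_contra hlt
      exact hp2 ((pow_dvd_pow p (Nat.not_le.1 hlt)).trans (hk ▸ card_subgroup_dvd_card _))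
    calc p ^ k ≤ p ^ 1 := Nat.pow_le_pow_right (Fact.out : p.Prime).pos this
      _ = p := pow_one p
  obtain ⟨S, hS⟩ := hsyl ⟨_, hbC⟩ (by
    rw [Subgroup.orderOf_mk, show g * b * g⁻¹ = MulAut.conj g b from rfl, MulEquiv.orderOf_eq, hb])
  obtain ⟨T, hT⟩ := hsyl ⟨_, hb₀C⟩ (by rw [Subgroup.orderOf_mk, ho₀])
  obtain ⟨c, hc⟩ := MulAction.exists_smul_eq C S T
  refine ⟨(c : G) * g, ?_, ?_⟩
  · have hcw : (c : G) * w = w * c := mem_centralizer_singleton_iff.1 c.2
    calc (c : G) * g * x * ((c : G) * g)⁻¹ = c * (g * x * g⁻¹) * (c : G)⁻¹ := by group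
      _ = c * w * (c : G)⁻¹ := by rw [hg]
      _ = w := by rw [hcw, mul_inv_cancel_right]
  · have h1 : (zpowers (⟨_, hbC⟩ : C)).map (MulAut.conj c).toMonoidHom = zpowers (⟨_, hb₀C⟩ : C) := by
      rw [← hS, ← hT, ← hc]; rfl
    have h2 := congrArg (Subgroup.map C.subtype) h1
    rw [zpowers_conj, MonoidHom.map_zpowers, MonoidHom.map_zpowers] at h2
    rw [show (c : G) * g * b * ((c : G) * g)⁻¹ = (c : G) * (g * b * g⁻¹) * (c : G)⁻¹ by group]
    exact h2

theorem card_cent_move {w x b b₀ : G} {p : ℕ} [Fact p.Prime] (hp2 : ¬ p ^ 2 ∣ Nat.card (centralizer ({w} : Set G)))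
    (hb₀ : b₀ * w = w * b₀) (ho₀ : orderOf b₀ = p) (hx : IsConj x w) (hxb : b * x = x * b)
    (hb : orderOf b = p) :
    Nat.card (centralizer ({x} : Set G) ⊓ centralizer ({b} : Set G) : Subgroup G) =
      Nat.card (centralizer ({w} : Set G) ⊓ centralizer ({b₀} : Set G) : Subgroup G) := by
  obtain ⟨h, h1, h2⟩ := move hp2 hb₀ ho₀ hx hxb hb
  rw [← card_cent_inf_conj h x b, h1, cent_congr h2]

namespace Facts

variable {z t : G} {E : Subgroup G} (F : Facts z t E)
include F

theorem card_quot_dvd {b : G} : Nat.card (Quot' b) * orderOf b ∣ 448345497600 := by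
  rw [← F.card_G, ← card_quot]; exact card_subgroup_dvd_card _

theorem exists_five : ∃ b i s : G, orderOf b = 5 ∧ b * z = z * b ∧
    Nat.card (centralizer ({z} : Set G) ⊓ centralizer ({b} : Set G) : Subgroup G) = 40 ∧
    (∀ x : G, orderOf x = 2 → x * b = b * x → IsConj x z) ∧
    (∃ g : G, g * b * g⁻¹ = b ^ 2) ∧
    i * z = z * i ∧ i * b = b * i ∧ i * i = z ∧ s * b = b * s ∧ s * s = 1 ∧ s * i * s⁻¹ = i⁻¹ := by
  haveI : Fact (Nat.Prime 2) := ⟨Nat.prime_two⟩
  obtain ⟨b, g, i, s, hb, hbz, -, hg, hcard, hall, hiz, hib, hii, -, hsb, hss, hinv⟩ := F.five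
  refine ⟨b, i, s, hb, hbz, hcard, ?_, ⟨g, hg⟩, hiz, hib, hii, hsb, hss, hinv⟩
  intro x hx hxb
  -- the centralizer in `C(b)` holds a Sylow 2-subgroup
  set C := centralizer ({b} : Set G) with hC
  set H := (centralizer ({z} : Set G) ⊓ C).subgroupOf C with hH
  have hH40 : Nat.card H = 40 := by
    rw [hH, Nat.card_congr (subgroupOfEquivOfLe inf_le_right).toEquiv, hcard]
  have hzC : z ∈ C := mem_centralizer_singleton_iff.2 hbz.symm
  have hzH : (⟨z, hzC⟩ : C) ∈ H := mem_subgroupOf.2 ⟨mem_centralizer_singleton_iff.2 rfl, hzC⟩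
  obtain ⟨T, hT⟩ := (IsPGroup.of_card (G := zpowers (⟨⟨z, hzC⟩, hzH⟩ : H)) (n := 1) (by
    rw [Nat.card_zpowers, Subgroup.orderOf_mk, Subgroup.orderOf_mk, F.z_two, pow_one])).exists_le_sylow
  have hT8 : Nat.card (T : Subgroup H) = 8 := by
    rw [Sylow.card_eq_multiplicity, hH40, show (40 : ℕ) = 2 ^ 3 * 5 by norm_num,
      Nat.factorization_mul (by norm_num) (by norm_num), Finsupp.add_apply,
      Nat.Prime.factorization_pow Nat.prime_two, Nat.factorization_eq_zero_of_not_dvd (by norm_num : ¬ 2 ∣ 5)]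
    simp
  obtain ⟨R, hR⟩ := (T.isPGroup'.map H.subtype).exists_le_sylow
  have hzR : (⟨z, hzC⟩ : C) ∈ R := hR ⟨⟨⟨z, hzC⟩, hzH⟩, hT (mem_zpowers _), rfl⟩
  haveI : Nontrivial (R : Subgroup C) := ⟨⟨⟨_, hzR⟩, 1, fun e => by
    have h1 : z = 1 := congrArg (fun y : (R : Subgroup C) => ((y : C) : G)) e
    have := F.z_two; rw [h1, orderOf_one] at this; norm_num at this⟩⟩
  haveI := R.isPGroup'.center_nontrivial
  obtain ⟨n, hn, hc'⟩ := (R.isPGroup'.to_subgroup (center _)).nontrivial_iff_card.1 inferInstance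
  obtain ⟨w, hw⟩ := exists_prime_orderOf_dvd_card' (G := center (R : Subgroup C)) 2 (hc' ▸ dvd_pow_self 2 hn.ne')
  set w₀ : G := (((w : (R : Subgroup C)) : C) : G) with hw₀
  have hw2 : orderOf w₀ = 2 := by rw [hw₀, Subgroup.orderOf_coe, Subgroup.orderOf_coe, Subgroup.orderOf_coe, hw]
  have hwcomm : ∀ r ∈ (R : Subgroup C), (r : G) * w₀ = w₀ * r := fun r hr =>
    congrArg (fun y : (R : Subgroup C) => ((y : C) : G)) (mem_center_iff.1 w.2 ⟨r, hr⟩)
  have hwC : w₀ ∈ C := ((w : (R : Subgroup C)) : C).2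
  have hwz : w₀ ∈ centralizer ({z} : Set G) := mem_centralizer_singleton_iff.2 (hwcomm _ hzR).symm
  have hwconj : IsConj w₀ z := hall w₀ ⟨hwz, hwC⟩ (by rw [← sq, ← hw2, pow_orderOf_eq_one])
    (fun e => by rw [e, orderOf_one] at hw2; norm_num at hw2)
  haveI : Fact (Nat.Prime 5) := ⟨Nat.prime_five⟩
  have hw40 := card_cent_move (w := z) (x := w₀) (b := b) (b₀ := b) (p := 5)
    (by rw [F.card_cz]; norm_num) hbz hb hwconj (mem_centralizer_singleton_iff.1 hwC).symm hb
  rw [hcard] at hw40
  have hRle : (R : Subgroup C).map C.subtype ≤ centralizer ({w₀} : Set G) ⊓ C := by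
    rintro _ ⟨r, hr, rfl⟩
    exact ⟨mem_centralizer_singleton_iff.2 (hwcomm r hr), r.2⟩
  have hR40 := card_dvd_of_le hRle
  rw [card_map_of_injective C.subtype_injective, hw40] at hR40
  have hTR : (T : Subgroup H).map H.subtype = R := by
    refine eq_of_le_of_card_ge hR ?_
    rw [card_map_of_injective H.subtype_injective, hT8]
    obtain ⟨k, hk⟩ := IsPGroup.iff_card.1 R.isPGroup'
    rw [hk] at hR40 ⊢
    have h8 : 2 ^ k ∣ 8 := (Nat.Coprime.pow_left k (by norm_num : Nat.Coprime 2 5)).dvd_of_dvd_mul_right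
      (show 2 ^ k ∣ 8 * 5 by norm_num; exact hR40)
    exact Nat.le_of_dvd (by norm_num) h8
  have hxC : x ∈ C := mem_centralizer_singleton_iff.2 hxb
  obtain ⟨S, hS⟩ := (IsPGroup.of_card (G := zpowers (⟨x, hxC⟩ : C)) (n := 1) (by
    rw [Nat.card_zpowers, Subgroup.orderOf_mk, hx, pow_one])).exists_le_sylow
  obtain ⟨c, hc⟩ := MulAction.exists_smul_eq C S R
  have hy : c * ⟨x, hxC⟩ * c⁻¹ ∈ (R : Subgroup C) := by
    rw [← hc, Sylow.coe_subgroup_smul]
    exact Subgroup.smul_mem_pointwise_smul (⟨x, hxC⟩ : C) (MulAut.conj c) _ (hS (mem_zpowers _))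
  have hy2 : (c : G) * x * (c : G)⁻¹ ∈ centralizer ({z} : Set G) ⊓ C := by
    have h1 : c * ⟨x, hxC⟩ * c⁻¹ ∈ H := map_subtype_le _ (hTR.ge hy)
    exact mem_subgroupOf.1 h1
  have hyo : orderOf ((c : G) * x * (c : G)⁻¹) = 2 := by
    rw [show (c : G) * x * (c : G)⁻¹ = MulAut.conj (c : G) x from rfl, MulEquiv.orderOf_eq, hx]
  exact (isConj_iff.2 ⟨(c : G), rfl⟩).trans (hall _ hy2 (by rw [← sq, ← hyo, pow_orderOf_eq_one])
    fun e => by rw [e, orderOf_one] at hyo; norm_num at hyo)

/-- What is used of `C(b)/<b>` for `b` of order five. -/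
structure LineOK (b : G) : Prop where
  order : orderOf b = 5
  not_seven : ¬ 7 ∣ Nat.card (centralizer ({b} : Set G))
  quot : ∀ l : Quot' b, orderOf l = 5 → Nat.card (centralizer ({l} : Set (Quot' b))) = 5 ∧
    Nat.card (normalizer (zpowers l : Set (Quot' b))) = 10

end Facts

theorem exists_five_quot [hF : Fact (Nat.Prime 5)] {b : G} (hb : orderOf b = 5) (h25 : 25 ∣ Nat.card (centralizer ({b} : Set G))) :
    ∃ l : Quot' b, orderOf l = 5 := by
  rw [card_quot, hb, show 25 = 5 * 5 by norm_num] at h25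
  exact exists_prime_orderOf_dvd_card' 5 (Nat.dvd_of_mul_dvd_mul_right (by norm_num) h25)

namespace Facts

variable {z t : G} {E : Subgroup G} (F : Facts z t E)
include F

/-- An element of order five lies in an abelian Sylow subgroup of order 25. -/
theorem twentyfive_dvd {b : G} (hb : orderOf b = 5) : 25 ∣ Nat.card (centralizer ({b} : Set G)) := by
  haveI : Fact (Nat.Prime 5) := ⟨Nat.prime_five⟩
  obtain ⟨P, hP⟩ := (IsPGroup.of_card (G := zpowers b) (n := 1) (by rw [Nat.card_zpowers, hb, pow_one])).exists_le_sylow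
  have hPc : Nat.card (P : Subgroup G) = 25 := by
    rw [Sylow.card_eq_multiplicity, F.card_G, show (448345497600 : ℕ) = 5 ^ 2 * 17933819904 by norm_num,
      Nat.factorization_mul (by norm_num) (by norm_num), Finsupp.add_apply,
      Nat.Prime.factorization_pow Nat.prime_five, Nat.factorization_eq_zero_of_not_dvd (by norm_num : ¬ 5 ∣ 17933819904)]
    simp
  haveI := IsPGroup.isMulCommutative_of_card_eq_prime_sq (p := 5) (G := (P : Subgroup G)) (by rw [hPc]; norm_num)
  rw [← hPc]
  exact card_dvd_of_le fun x hx => mem_centralizer_singleton_iff.2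
    (congrArg Subtype.val (mul_comm' (⟨x, hx⟩ : (P : Subgroup G)) ⟨b, hP (mem_zpowers b)⟩))

theorem five_line {b i s : G} (hb : orderOf b = 5) (hbz : b * z = z * b)
    (hcard : Nat.card (centralizer ({z} : Set G) ⊓ centralizer ({b} : Set G) : Subgroup G) = 40)
    (hall : ∀ x : G, orderOf x = 2 → x * b = b * x → IsConj x z)
    (hib : i * b = b * i) (hii : i * i = z) (hsb : s * b = b * s) (hss : s * s = 1) (hinv : s * i * s⁻¹ = i⁻¹) :
    LineOK b := by
  haveI : Fact (Nat.Prime 5) := ⟨Nat.prime_five⟩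
  have hodd : Odd (orderOf b) := by rw [hb]; decide
  let z' : centralizer ({b} : Set G) := ⟨z, mem_centralizer_singleton_iff.2 hbz.symm⟩
  let i' : centralizer ({b} : Set G) := ⟨i, mem_centralizer_singleton_iff.2 hib⟩
  let s' : centralizer ({b} : Set G) := ⟨s, mem_centralizer_singleton_iff.2 hsb⟩
  have hO : Oct (proj b z') (proj b i') (proj b s') := by
    refine ⟨orderOf_proj hodd z' F.z_two, ?_, ?_, ?_, fun q hq => ?_⟩
    · rw [← map_mul]; exact congrArg _ (Subtype.ext hii)
    · rw [← map_mul, show s' * s' = 1 from Subtype.ext hss, map_one]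
    · rw [← map_inv, ← map_mul, ← map_mul, ← map_inv]; exact congrArg _ (Subtype.ext hinv)
    · obtain ⟨x, hx, rfl⟩ := exists_lift hodd hq
      have h1 := card_cent_proj hodd x hx
      rw [card_cent_move (w := z) (b := b) (b₀ := b) (p := 5) (by rw [F.card_cz]; norm_num) hbz hb
        (hall x hx (mem_centralizer_singleton_iff.1 x.2)) (mem_centralizer_singleton_iff.1 x.2).symm hb, hcard, hb] at h1
      omega
  have hd : Nat.card (Quot' b) ∣ 89669099520 := by
    have := F.card_quot_dvd (b := b)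
    rw [hb, show (448345497600 : ℕ) = 89669099520 * 5 by norm_num] at this
    exact Nat.dvd_of_mul_dvd_mul_right (by norm_num) this
  obtain ⟨l, hl⟩ := exists_five_quot hb (F.twentyfive_dvd hb)
  refine ⟨hb, ?_, fun l hl => (hO.five hd hl).2⟩
  rw [card_quot, (hO.five hd hl).1, hb]
  norm_num

theorem E_le : E ≤ centralizer ({t} : Set G) := fun u hu => by
  have h : ∀ v ∈ E, v⁻¹ = v := fun v hv => inv_eq_of_mul_eq_one_right (F.E_sq v hv)
  refine mem_centralizer_singleton_iff.2 ?_
  rw [← h u hu, ← h t F.tE, ← mul_inv_rev, h _ (mul_mem F.tE hu), h t F.tE, h u hu]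

theorem E_comm {u v : G} (hu : u ∈ E) (hv : v ∈ E) : u * v = v * u := by
  have h : ∀ v ∈ E, v⁻¹ = v := fun v hv => inv_eq_of_mul_eq_one_right (F.E_sq v hv)
  rw [← h u hu, ← h v hv, ← mul_inv_rev, h _ (mul_mem hv hu), h u hu, h v hv]

theorem exists_t_elt (p : ℕ) [Fact p.Prime] (hp : p = 5 ∨ p = 7) :
    ∃ b : G, orderOf b = p ∧ b * t = t * b ∧ (∀ u ∈ E, u * b = b * u) ∧
      (Nat.card (centralizer ({t} : Set G) ⊓ centralizer ({b} : Set G) : Subgroup G) = 4 * p ∨
       Nat.card (centralizer ({t} : Set G) ⊓ centralizer ({b} : Set G) : Subgroup G) = 8 * p) := by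
  obtain ⟨b', hb'⟩ := exists_prime_orderOf_dvd_card' (G := centralizer ({t} : Set G)) p (by
    rw [F.card_ct]; rcases hp with rfl | rfl <;> norm_num)
  have hb : orderOf (b' : G) = p := by rw [Subgroup.orderOf_coe, hb']
  have hodd : Odd (orderOf (b' : G)) := by rw [hb]; rcases hp with rfl | rfl <;> decide
  have hbE : ∀ u ∈ E, u * (b' : G) = b' * u := fun u hu =>
    mem_centralizer_iff.1 (F.odd_cent b' b'.2 hodd) u hu
  refine ⟨b', hb, mem_centralizer_singleton_iff.1 b'.2, hbE, ?_⟩
  have hd := F.cent_t b' b'.2 (by rw [hb]; exact hp)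
  rw [hb] at hd
  set H := (centralizer ({t} : Set G) ⊓ centralizer ({(b' : G)} : Set G) : Subgroup G) with hH
  have h4 : 4 ∣ Nat.card H := F.card_E ▸ card_dvd_of_le (le_inf F.E_le fun u hu =>
    mem_centralizer_singleton_iff.2 (hbE u hu))
  have hpd : p ∣ Nat.card H := by
    have := card_dvd_of_le (zpowers_le.2 (show (b' : G) ∈ H from ⟨b'.2, mem_centralizer_singleton_iff.2 rfl⟩))
    rwa [Nat.card_zpowers, hb] at this
  have h4p : 4 * p ∣ Nat.card H :=
    Nat.Coprime.mul_dvd_of_dvd_of_dvd (by rcases hp with rfl | rfl <;> norm_num) h4 hpd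
  obtain ⟨j, hj⟩ := h4p
  rw [hj] at hd ⊢
  have hj2 : j ∣ 2 := Nat.dvd_of_mul_dvd_mul_left (by have := (Fact.out : p.Prime).pos; omega : 0 < 4 * p)
    (hd.trans (dvd_of_eq (by ring)))
  rcases (Nat.dvd_prime Nat.prime_two).1 hj2 with rfl | rfl
  · left; ring
  · right; ring

theorem not_z_seven {x b : G} (hx : IsConj x z) (hb : orderOf b = 7) : ¬ b * x = x * b := by
  intro h
  obtain ⟨g, hg⟩ := isConj_iff.1 hx
  have h7 := orderOf_dvd_natCard (⟨b, mem_centralizer_singleton_iff.2 h⟩ : centralizer ({x} : Set G))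
  rw [Subgroup.orderOf_mk, hb, ← card_cent_conj g x, hg, F.card_cz] at h7
  norm_num at h7

/-- An element of order five commuting with `t` commutes with no conjugate of `z`. -/
theorem not_z_five {b₅ b x : G} (hb₅ : orderOf b₅ = 5) (hbz : b₅ * z = z * b₅)
    (hall : ∀ y : G, orderOf y = 2 → y * b₅ = b₅ * y → IsConj y z) (hb : orderOf b = 5) (hbt : b * t = t * b)
    (hx : IsConj x z) : ¬ b * x = x * b := by
  intro h
  haveI : Fact (Nat.Prime 5) := ⟨Nat.prime_five⟩
  obtain ⟨g, hg, hgb⟩ := move (w := z) (p := 5) (by rw [F.card_cz]; norm_num) hbz hb₅ hx h hb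
  have hto : orderOf (g * t * g⁻¹) = 2 := by
    rw [show g * t * g⁻¹ = MulAut.conj g t from rfl, MulEquiv.orderOf_eq, F.t_two]
  have hcomm : g * t * g⁻¹ * b₅ = b₅ * (g * t * g⁻¹) := by
    have : g * t * g⁻¹ ∈ centralizer ({g * b * g⁻¹} : Set G) := by
      rw [← map_centralizer_conj]
      exact ⟨t, mem_centralizer_singleton_iff.2 hbt.symm, rfl⟩
    rw [cent_congr hgb] at this
    exact mem_centralizer_singleton_iff.1 this
  exact F.nconj ((hall _ hto hcomm).symm.trans (isConj_iff.2 ⟨g, rfl⟩).symm)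

/-- The two shapes of `C(b)/<b>` for `b` centralized by `E`. -/
theorem quot_shape {b : G} {p : ℕ} [Fact p.Prime] (hp : p = 5 ∨ p = 7) (hb : orderOf b = p) (hbt : b * t = t * b)
    (hbE : ∀ u ∈ E, u * b = b * u) (hnz : ∀ x : G, IsConj x z → ¬ b * x = x * b)
    (hcard : Nat.card (centralizer ({t} : Set G) ⊓ centralizer ({b} : Set G) : Subgroup G) = 4 * p ∨
       Nat.card (centralizer ({t} : Set G) ⊓ centralizer ({b} : Set G) : Subgroup G) = 8 * p) :
    (∃ U : Subgroup (Quot' b), JankoTwo.Four.Hyp U) ∨ ∃ a i s : Quot' b, Oct a i s := by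
  classical
  haveI : Fact (Nat.Prime 2) := ⟨Nat.prime_two⟩
  have hodd : Odd (orderOf b) := by rw [hb]; rcases hp with rfl | rfl <;> decide
  have hp2 : ¬ p ^ 2 ∣ Nat.card (centralizer ({t} : Set G)) := by
    rw [F.card_ct]; rcases hp with rfl | rfl <;> norm_num
  have hall : ∀ q : Quot' b, orderOf q = 2 →
      p * Nat.card (centralizer ({q} : Set (Quot' b))) =
        Nat.card (centralizer ({t} : Set G) ⊓ centralizer ({b} : Set G) : Subgroup G) := by
    intro q hq
    obtain ⟨x, hx, rfl⟩ := exists_lift hodd hq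
    have hxb : b * (x : G) = x * b := (mem_centralizer_singleton_iff.1 x.2).symm
    have hxt : IsConj (x : G) t := (F.classes x hx).resolve_left fun h => hnz _ h hxb
    rw [← hb, ← card_cent_proj hodd x hx, card_cent_move hp2 hbt hb hxt hxb hb]
  let t' : centralizer ({b} : Set G) := ⟨t, mem_centralizer_singleton_iff.2 hbt.symm⟩
  rcases hcard with h4 | h8
  · left
    set E' := E.subgroupOf (centralizer ({b} : Set G)) with hE'
    refine ⟨E'.map (proj b), ?_, ?_, ?_⟩
    · have hker : ∀ u ∈ E', proj b u = 1 → u = 1 := by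
        intro u hu h1
        obtain ⟨k, hk⟩ := (proj_eq_one_iff u).1 h1
        have hk' : b ^ k = (u : G) := hk
        apply Subtype.ext
        show (u : G) = 1
        rw [← hk']
        exact zpow_eq_one_of_sq hodd (by rw [hk']; exact F.E_sq _ (mem_subgroupOf.1 hu))
      rw [← F.card_E, ← Nat.card_congr (subgroupOfEquivOfLe (show E ≤ centralizer ({b} : Set G) from
        fun u hu => mem_centralizer_singleton_iff.2 (hbE u hu))).toEquiv]
      refine (Nat.card_congr (Equiv.ofBijective (fun u : E' => (⟨proj b u, _, u.2, rfl⟩ : E'.map (proj b))) ⟨?_, ?_⟩)).symm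
      · intro u v huv
        have h1 : proj b u = proj b v := congrArg Subtype.val huv
        have h2 := hker ((u : centralizer ({b} : Set G))⁻¹ * v) (mul_mem (inv_mem u.2) v.2) (by
          rw [map_mul, map_inv, h1, inv_mul_cancel])
        exact Subtype.ext (inv_mul_eq_one.1 h2)
      · rintro ⟨_, u, hu, rfl⟩; exact ⟨⟨u, hu⟩, rfl⟩
    · rintro _ ⟨u, hu, rfl⟩
      rw [← map_mul, show u * u = 1 from Subtype.ext (F.E_sq _ (mem_subgroupOf.1 hu)), map_one]
    · rintro _ ⟨u, hu, rfl⟩ h1
      have hu2 : orderOf (u : G) = 2 := by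
        refine orderOf_eq_prime (by rw [sq]; exact F.E_sq _ (mem_subgroupOf.1 hu)) fun e => h1 ?_
        rw [show u = 1 from Subtype.ext e, map_one]
      have h := hall _ (orderOf_proj hodd u hu2)
      rw [h4] at h
      have h4' : Nat.card (centralizer ({proj b u} : Set (Quot' b))) = 4 :=
        Nat.eq_of_mul_eq_mul_left (Fact.out : p.Prime).pos (h.trans (mul_comm 4 p))
      have hle : E'.map (proj b) ≤ centralizer ({proj b u} : Set (Quot' b)) := by
        rintro _ ⟨v, hv, rfl⟩
        rw [mem_centralizer_singleton_iff, ← map_mul, ← map_mul]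
        exact congrArg _ (Subtype.ext (F.E_comm (mem_subgroupOf.1 hv) (mem_subgroupOf.1 hu)))
      refine (eq_of_le_of_card_ge hle ?_).symm
      rw [h4']
      have : Nat.card E' = 4 := by
        rw [Nat.card_congr (subgroupOfEquivOfLe (show E ≤ centralizer ({b} : Set G) from
          fun u hu => mem_centralizer_singleton_iff.2 (hbE u hu))).toEquiv, F.card_E]
      rw [← this]
      refine Nat.card_le_card_of_injective (fun v : E' => (⟨proj b v, _, v.2, rfl⟩ : E'.map (proj b))) ?_
      intro v w hvw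
      have h1 : proj b v = proj b w := congrArg Subtype.val hvw
      have h2 : proj b ((v : centralizer ({b} : Set G))⁻¹ * w) = 1 := by rw [map_mul, map_inv, h1, inv_mul_cancel]
      obtain ⟨k, hk⟩ := (proj_eq_one_iff _).1 h2
      have hk' : b ^ k = ((v : centralizer ({b} : Set G)) : G)⁻¹ * (w : centralizer ({b} : Set G)) := hk
      refine Subtype.ext (inv_mul_eq_one.1 (Subtype.ext ?_))
      show ((v : centralizer ({b} : Set G)) : G)⁻¹ * (w : centralizer ({b} : Set G)) = 1
      rw [← hk']
      exact zpow_eq_one_of_sq hodd (by rw [hk']; exact F.E_sq _ (mul_mem (inv_mem (mem_subgroupOf.1 v.2)) (mem_subgroupOf.1 w.2)))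
  · right
    -- an element outside `C(E)`
    set H := (centralizer ({t} : Set G) ⊓ centralizer ({b} : Set G) : Subgroup G) with hH
    obtain ⟨r₀, hr₀, hr₀E⟩ : ∃ r ∈ H, r ∉ centralizer (E : Set G) := by
      by_contra hh
      push Not at hh
      have hd := F.cent_E b (mem_centralizer_singleton_iff.2 hbt) (by rw [hb]; exact hp)
      rw [show H ⊓ centralizer (E : Set G) = H from inf_eq_left.2 hh, h8, hb] at hd
      have := Nat.le_of_dvd (by have := (Fact.out : p.Prime).pos; omega) hd
      have := (Fact.out : p.Prime).pos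
      omega
    set r := r₀ ^ p with hr
    have hr8 : r ^ 8 = 1 := by
      have := orderOf_dvd_natCard (⟨r₀, hr₀⟩ : H)
      rw [Subgroup.orderOf_mk, h8] at this
      rw [hr, ← pow_mul, mul_comm]
      exact orderOf_dvd_iff_pow_eq_one.1 this
    have hrH : r ∈ H := pow_mem hr₀ p
    have hrE : r ∉ centralizer (E : Set G) := by
      intro h
      refine hr₀E ?_
      have hq : r₀ ^ 8 ∈ centralizer (E : Set G) := by
        refine F.odd_cent _ (pow_mem hr₀.1 8) ((by rcases hp with rfl | rfl <;> decide : Odd p).of_dvd_nat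
          (orderOf_dvd_of_pow_eq_one ?_))
        rw [← pow_mul, mul_comm, pow_mul, ← hr, hr8]
      have h8p : (8 : ℕ).Coprime p := by rcases hp with rfl | rfl <;> norm_num
      have hgcd := Nat.gcd_eq_gcd_ab 8 p
      rw [h8p, Nat.cast_one] at hgcd
      have e : r₀ = (r₀ ^ 8) ^ (Nat.gcdA 8 p) * r ^ (Nat.gcdB 8 p) := by
        rw [hr, ← zpow_natCast r₀ 8, ← zpow_natCast r₀ p, ← zpow_mul, ← zpow_mul, ← zpow_add, ← hgcd, zpow_one]
      rw [e]; exact mul_mem (zpow_mem hq _) (zpow_mem h _)
    obtain ⟨e, he, hre⟩ : ∃ e ∈ E, e * r ≠ r * e := by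
      by_contra hh
      push Not at hh
      exact hrE (mem_centralizer_iff.2 hh)
    have hrt : r * t = t * r := mem_centralizer_singleton_iff.1 hrH.1
    have hrb : r * b = b * r := mem_centralizer_singleton_iff.1 hrH.2
    have het : e * t = t * e := F.E_comm he F.tE
    have het' : e ≠ t := fun h => hre (by rw [h]; exact hrt.symm)
    have he1 : e ≠ 1 := fun h => hre (by rw [h, one_mul, mul_one])
    have hre' : r * e * r⁻¹ = e * t := by
      have hm : r * e * r⁻¹ ∈ E := (mem_normalizer_iff.1 (F.norm_E hrH.1) e).1 he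
      -- the four elements of `E`
      have hE4 : ∀ u ∈ E, u = 1 ∨ u = t ∨ u = e ∨ u = e * t := by
        have ht1 : t ≠ 1 := fun h => by have := F.t_two; rw [h, orderOf_one] at this; norm_num at this
        have hett : e * t ≠ 1 := fun h => het' (by
          rw [eq_inv_of_mul_eq_one_left h, inv_eq_of_mul_eq_one_right (F.E_sq t F.tE)])
        intro u hu
        by_contra hh
        push Not at hh
        haveI := Fintype.ofFinite E
        have h5 : ({⟨1, one_mem E⟩, ⟨t, F.tE⟩, ⟨e, he⟩, ⟨e * t, mul_mem he F.tE⟩, ⟨u, hu⟩} : Finset E).card = 5 := by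
          simp [Finset.card_insert_of_notMem, Subtype.ext_iff, ht1.symm, he1.symm, hett.symm, het'.symm,
            hh.1.symm, hh.2.1.symm, hh.2.2.1.symm, hh.2.2.2.symm, he1, ht1]
        have h6 := Finset.card_le_univ ({⟨1, one_mem E⟩, ⟨t, F.tE⟩, ⟨e, he⟩, ⟨e * t, mul_mem he F.tE⟩, ⟨u, hu⟩} : Finset E)
        rw [h5, ← Nat.card_eq_fintype_card, F.card_E] at h6
        omega
      rcases hE4 _ hm with h | h | h | h
      · exact absurd (conj_eq_one_iff.1 h) he1
      · exfalso
        have := congrArg (fun y => r⁻¹ * y * r) h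
        rw [show r⁻¹ * (r * e * r⁻¹) * r = e by group, mul_assoc, ← hrt, inv_mul_cancel_left] at this
        exact het' this
      · exact absurd (mul_inv_eq_iff_eq_mul.1 h).symm hre
      · exact h
    have ht2 : t * t = 1 := F.E_sq t F.tE
    have hee : e * e = 1 := F.E_sq e he
    have hbt' : Commute t b := hbt.symm
    -- the square of `r`
    have hr2 : r * r = 1 ∨ r * r = t := by
      have hc : r * r ∈ H ⊓ centralizer (E : Set G) := by
        refine ⟨mul_mem hrH hrH, mem_centralizer_iff.2 fun u hu => ?_⟩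
        have key : ∀ u : G, u ∈ E → Commute (r * r) u → u * (r * r) = r * r * u := fun u _ h => h.eq.symm
        refine key u hu ?_
        have hce : Commute (r * r) e := by
          show r * r * e = e * (r * r)
          calc r * r * e = r * (r * e * r⁻¹) * r := by group
            _ = r * (e * t) * r := by rw [hre']
            _ = (r * e * r⁻¹) * (r * t) * r := by group
            _ = e * t * (t * r) * r := by rw [hre', hrt]
            _ = e * (t * t) * r * r := by group
            _ = _ := by rw [ht2, mul_one, mul_assoc]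
        have hct : Commute (r * r) t := (show Commute r t from hrt).mul_left hrt
        have hE4' : u = 1 ∨ u = t ∨ u = e ∨ u = e * t := by
          by_contra hh
          push Not at hh
          have ht1 : t ≠ 1 := fun h => by have := F.t_two; rw [h, orderOf_one] at this; norm_num at this
          have hett : e * t ≠ 1 := fun h => het' (by
            rw [eq_inv_of_mul_eq_one_left h, inv_eq_of_mul_eq_one_right ht2])
          haveI := Fintype.ofFinite E
          have h5 : ({⟨1, one_mem E⟩, ⟨t, F.tE⟩, ⟨e, he⟩, ⟨e * t, mul_mem he F.tE⟩, ⟨u, hu⟩} : Finset E).card = 5 := by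
            simp [Finset.card_insert_of_notMem, Subtype.ext_iff, ht1.symm, he1.symm, hett.symm, het'.symm,
              hh.1.symm, hh.2.1.symm, hh.2.2.1.symm, hh.2.2.2.symm, he1, ht1]
          have h6 := Finset.card_le_univ ({⟨1, one_mem E⟩, ⟨t, F.tE⟩, ⟨e, he⟩, ⟨e * t, mul_mem he F.tE⟩, ⟨u, hu⟩} : Finset E)
          rw [h5, ← Nat.card_eq_fintype_card, F.card_E] at h6
          omega
        rcases hE4' with rfl | rfl | rfl | rfl
        · exact Commute.one_right _
        · exact hct
        · exact hce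
        · exact hce.mul_right hct
      -- that intersection is `E × <b>`
      have hd := F.cent_E b (mem_centralizer_singleton_iff.2 hbt) (by rw [hb]; exact hp)
      rw [hb] at hd
      set M := H ⊓ centralizer (E : Set G) with hM
      have hEM : E ≤ M := fun u hu => ⟨⟨F.E_le hu, mem_centralizer_singleton_iff.2 (hbE u hu)⟩,
        mem_centralizer_iff.2 fun v hv => F.E_comm hv hu⟩
      have hidx : (E.subgroupOf M).index ∣ p := by
        refine Nat.dvd_of_mul_dvd_mul_left (by norm_num : 0 < 4) ?_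
        have h1 := (E.subgroupOf M).card_mul_index
        rw [Nat.card_congr (subgroupOfEquivOfLe hEM).toEquiv, F.card_E] at h1
        rw [h1]; exact hd
      haveI : (E.subgroupOf M).Normal := ⟨fun u hu g => by
        rw [mem_subgroupOf] at hu ⊢
        exact (mem_normalizer_iff.1 (F.norm_E g.2.1.1) _).1 hu⟩
      have h4 : (r * r) ^ 4 = 1 := by rw [← sq, ← pow_mul]; exact hr8
      have hq : QuotientGroup.mk' (E.subgroupOf M) ⟨r * r, hc⟩ = 1 := by
        refine orderOf_eq_one_iff.1 (Nat.eq_one_of_dvd_coprimes (a := 4) (b := p) ?_ ?_ ?_)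
        · rcases hp with rfl | rfl <;> norm_num
        · refine orderOf_dvd_of_pow_eq_one ?_
          rw [← map_pow, show (⟨r * r, hc⟩ : M) ^ 4 = 1 from Subtype.ext h4, map_one]
        · refine (_root_.orderOf_dvd_natCard _).trans ?_
          rw [← Subgroup.index_eq_card]
          exact hidx
      rw [QuotientGroup.mk'_apply, QuotientGroup.eq_one_iff, mem_subgroupOf] at hq
      change r * r ∈ E at hq
      have hrr : r * (r * r) = r * r * r := (mul_assoc r r r).symm
      have ht1 : t ≠ 1 := fun h => by have := F.t_two; rw [h, orderOf_one] at this; norm_num at this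
      by_contra hh
      push Not at hh
      -- it would move under `r`
      have hE4 : r * r = e ∨ r * r = e * t := by
        haveI := Fintype.ofFinite E
        by_contra h7
        push Not at h7
        have hett : e * t ≠ 1 := fun h => het' (by
          rw [eq_inv_of_mul_eq_one_left h, inv_eq_of_mul_eq_one_right ht2])
        have h5 : ({⟨1, one_mem E⟩, ⟨t, F.tE⟩, ⟨e, he⟩, ⟨e * t, mul_mem he F.tE⟩, ⟨r * r, hq⟩} : Finset E).card = 5 := by
          simp [Finset.card_insert_of_notMem, Subtype.ext_iff, ht1.symm, he1.symm, hett.symm, het'.symm,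
            hh.1.symm, hh.2.symm, h7.1.symm, h7.2.symm, he1, ht1]
        have h6 := Finset.card_le_univ ({⟨1, one_mem E⟩, ⟨t, F.tE⟩, ⟨e, he⟩, ⟨e * t, mul_mem he F.tE⟩, ⟨r * r, hq⟩} : Finset E)
        rw [h5, ← Nat.card_eq_fintype_card, F.card_E] at h6
        omega
      rcases hE4 with h | h
      · exact hre (by rw [← h]; exact hrr.symm)
      · refine hre ?_
        have h9 : Commute r (e * t) := by rw [← h]; exact hrr
        have := h9.mul_right (show Commute r t from hrt)
        rw [mul_assoc, ht2, mul_one] at this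
        exact this.eq.symm
    obtain ⟨i, hi, hii, hinv⟩ : ∃ i : G, i * b = b * i ∧ i * i = t ∧ e * i * e⁻¹ = i⁻¹ := by
      have her : e * r = t * r * e := by
        calc e * r = e * (t * t) * r := by rw [ht2, mul_one]
          _ = (e * t) * (t * r) := by group
          _ = (e * t) * (r * t) := by rw [hrt]
          _ = (r * e * r⁻¹) * (r * t) := by rw [hre']
          _ = r * (e * t) := by group
          _ = r * (t * e) := by rw [het]
          _ = _ := by rw [← mul_assoc, hrt]
      have hei : e⁻¹ = e := inv_eq_of_mul_eq_one_right hee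
      rcases hr2 with h | h
      · refine ⟨r * e, ?_, ?_, ?_⟩
        · rw [mul_assoc, hbE e he, ← mul_assoc, hrb, mul_assoc]
        · calc r * e * (r * e) = r * (e * r) * e := by group
            _ = r * (t * r * e) * e := by rw [her]
            _ = (r * t) * r * (e * e) := by group
            _ = t * (r * r) := by rw [hee, hrt, mul_one, mul_assoc]
            _ = t := by rw [h, mul_one]
        · rw [hei, mul_inv_rev, hei, inv_eq_of_mul_eq_one_right h, mul_assoc, mul_assoc, hee, mul_one]
      · refine ⟨r, hrb, h, ?_⟩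
        rw [hei, her, mul_assoc, hee, mul_one]
        exact eq_inv_of_mul_eq_one_left (by rw [mul_assoc, h, ht2])
    let i' : centralizer ({b} : Set G) := ⟨i, mem_centralizer_singleton_iff.2 hi⟩
    let e' : centralizer ({b} : Set G) := ⟨e, mem_centralizer_singleton_iff.2 (hbE e he)⟩
    refine ⟨proj b t', proj b i', proj b e', orderOf_proj hodd t' F.t_two, ?_, ?_, ?_, fun q hq => ?_⟩
    · rw [← map_mul]; exact congrArg _ (Subtype.ext hii)
    · rw [← map_mul, show e' * e' = 1 from Subtype.ext hee, map_one]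
    · rw [← map_inv, ← map_mul, ← map_mul, ← map_inv]; exact congrArg _ (Subtype.ext hinv)
    · have h := hall q hq
      rw [h8] at h
      exact Nat.eq_of_mul_eq_mul_left (Fact.out : p.Prime).pos (h.trans (mul_comm 8 p))

theorem t_line {b₅ b : G} (hb₅ : orderOf b₅ = 5) (hbz : b₅ * z = z * b₅)
    (hall : ∀ y : G, orderOf y = 2 → y * b₅ = b₅ * y → IsConj y z) (hb : orderOf b = 5) (hbt : b * t = t * b)
    (hbE : ∀ u ∈ E, u * b = b * u)
    (hcard : Nat.card (centralizer ({t} : Set G) ⊓ centralizer ({b} : Set G) : Subgroup G) = 4 * 5 ∨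
       Nat.card (centralizer ({t} : Set G) ⊓ centralizer ({b} : Set G) : Subgroup G) = 8 * 5) :
    LineOK b := by
  haveI : Fact (Nat.Prime 5) := ⟨Nat.prime_five⟩
  have hd : Nat.card (Quot' b) ∣ 89669099520 := by
    have := F.card_quot_dvd (b := b)
    rw [hb, show (448345497600 : ℕ) = 89669099520 * 5 by norm_num] at this
    exact Nat.dvd_of_mul_dvd_mul_right (by norm_num) this
  obtain ⟨l, hl⟩ := exists_five_quot hb (F.twentyfive_dvd hb)
  rcases F.quot_shape (p := 5) (Or.inl rfl) hb hbt hbE (fun x hx => F.not_z_five hb₅ hbz hall hb hbt hx) hcard with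
    ⟨U, hU⟩ | ⟨a, i, s, hO⟩
  · refine ⟨hb, ?_, fun l hl => (hU.five hl).2⟩
    rw [card_quot, (hU.five hl).1, hb]; norm_num
  · refine ⟨hb, ?_, fun l hl => (hO.five hd hl).2⟩
    rw [card_quot, (hO.five hd hl).1, hb]; norm_num

end Facts

end Cfsg.Agent.SuzukiLocal
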