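import Cfsg.Agent.Lib.SuzukiType.Classes

/-!
Coordinates in `W × W` on the group `C_Q(a) C_{Q'}(z)`, which is `C(z) ∩ C(a)` induced trivially on `e1ᗮ/e1`.
-/

set_option autoImplicit false

namespace Cfsg.Agent.SuzukiLocal

open Subgroup Cfsg.Agent.LargeExtra Cfsg.Agent.OctadInv.Orbits Cfsg.Agent.SuzukiType
open scoped commutatorElement

variable {G : Type*} [Group G]

/-- The square, first part. -/
def qz (p : V × V) : ZMod 2 := qf p.1 + bf p.2 p.1

/-- The square, second part. -/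
def qa (p : V × V) : ZMod 2 := bf p.2 p.1 + qf p.2

/-- The commutator, first part. -/
def cz (p p' : V × V) : ZMod 2 := bf p.1 p'.1 + (bf p.2 p'.1 + bf p'.2 p.1)

/-- The commutator, second part. -/
def ca (p p' : V × V) : ZMod 2 := bf p.2 p'.2 + (bf p.2 p'.1 + bf p'.2 p.1)

theorem qz_add (p p' : V × V) : qz (p + p') = qz p + qz p' + cz p p' := by
  simp only [qz, cz, Prod.fst_add, Prod.snd_add, qf_add, bf_add_left, bf_add_right]; ring

theorem qa_add (p p' : V × V) : qa (p + p') = qa p + qa p' + ca p p' := by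
  simp only [qa, ca, Prod.fst_add, Prod.snd_add, qf_add, bf_add_left, bf_add_right]; ring

/-- An element of the fours-group `⟨z, a⟩`. -/
def zz (z a : G) (s t : ZMod 2) : G := zp z s * zp a t

/-- `x` has coordinates `p`. -/
def Co {Q Q' : Subgroup G} {z a : G} (S : St Q Q' z a) (x : G) (p : V × V) : Prop :=
  ∃ k m, k ∈ Q ∧ y1 (S.F.vec k) = 0 ∧ m ∈ Q' ∧ m * z = z * m ∧ x = k * m ∧
    pw (S.F.vec k) = p.1 ∧ wof (S.act' m) = p.2

variable [Finite G] {Q Q' : Subgroup G} {z a : G} {S : St Q Q' z a} {x y : G} {p p' : V × V}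

theorem zz_mul (s t s' t' : ZMod 2) (S : St Q Q' z a) :
    zz z a s t * zz z a s' t' = zz z a (s + s') (t + t') := by
  rw [zz, zz, zz, Commute.mul_mul_mul_comm, ← zp_add S.h.zz, ← zp_add S.h'.zz]
  exact ((show Commute a z from S.P.p.az).pow_left _).pow_right _

theorem Co.inW (h : Co S x p) : InW p.1 ∧ InW p.2 := by
  obtain ⟨k, m, -, -, -, -, -, rfl', e2⟩ := h
  exact ⟨rfl' ▸ pw_mem _, e2 ▸ inW_wof _⟩

theorem Co.comm_za (h : Co S x p) : x * z = z * x ∧ x * a = a * x := by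
  obtain ⟨k, m, hk, hk0, hm, hmz, rfl, -⟩ := h
  exact ⟨SuzukiType.mul_z (S.qz hk) hmz,
    SuzukiType.mul_z (z := a) ((S.comm_a_iff hk).2 hk0) (S.qa hm)⟩

theorem Co.inRad (h : Co S x p) : InRad (S.act' x) ∧ wof (S.act' x) = p.2 := by
  obtain ⟨k, m, hk, -, hm, hmz, rfl, -, e2⟩ := h
  rw [S.act'_mul (S.qz hk) hmz, S.act'_q hk, one_mul]
  exact ⟨S.inRad hm hmz, e2⟩

theorem Co.act_eq (h : Co S x p) (v : V) : act (S.act' x) v = T p.2 v := by
  rw [h.inRad.1.act_eq, h.inRad.2]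

/-- Existence of coordinates. -/
theorem co_exists (hxz : x * z = z * x) (hxa : x * a = a * x) (hR : InRad (S.act' x)) :
    ∃ p, Co S x p := by
  obtain ⟨m, hm, hmz, hmA⟩ := S.exists_m_of_inRad hR
  have hk : x * m⁻¹ ∈ Q := (S.act'_one_iff (SuzukiType.mul_z hxz (inv_z hmz))).1 (by
    rw [S.act'_mul hxz (inv_z hmz), S.act'_inv hmz, hmA, mul_inv_cancel])
  refine ⟨(pw (S.F.vec (x * m⁻¹)), wof (S.act' m)), x * m⁻¹, m, hk, ?_, hm, hmz, by group, rfl, rfl⟩
  exact (S.comm_a_iff hk).1 (SuzukiType.mul_z (z := a) hxa (inv_z (z := a) (S.qa hm)))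

/-- Coordinates are unique. -/
theorem Co.unique (h : Co S x p) (h' : Co S x p') : p = p' := by
  have e2 : p.2 = p'.2 := h.inRad.2.symm.trans h'.inRad.2
  obtain ⟨k, m, hk, hk0, hm, hmz, rfl, e1, -⟩ := h
  obtain ⟨k', m', hk', hk'0, hm', hm'z, e, e1', -⟩ := h'
  refine Prod.ext ?_ e2
  have h0 : k'⁻¹ * k = m' * m⁻¹ := by
    rw [eq_mul_inv_iff_mul_eq, mul_assoc, e, inv_mul_cancel_left]
  have h1 : k'⁻¹ * k ∈ Q := Q.mul_mem (Q.inv_mem hk') hk
  obtain ⟨t, ht⟩ := S.inf_vec h1 (h0 ▸ Q'.mul_mem hm' (Q'.inv_mem hm))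
  rw [S.F.vec_mul (Q.inv_mem hk') hk, S.vec_inv hk'] at ht
  have h2 := congrArg pw ht
  rw [pw_add, pw_sm, pw_e1, sm_eq, smul_zero, e1, e1'] at h2
  exact (eq_of_add _ _ h2).symm

/-- Coordinates of a product. -/
theorem Co.mul (h : Co S x p) (h' : Co S y p') : Co S (x * y) (p + p') := by
  have hR : InRad (S.act' (x * y)) := by
    obtain ⟨h1, -⟩ := h.inRad
    obtain ⟨h2, -⟩ := h'.inRad
    rw [S.act'_mul h.comm_za.1 h'.comm_za.1]
    refine ⟨by rw [act_mul, h2.1, h1.1], fun v hv => ?_⟩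
    have hy : y1 (act (S.act' y) v) = 0 := by rw [← bf_e1, ← h2.1, act_bf, bf_e1, hv]
    rw [act_mul]
    rcases h1.2 _ hy with e | e <;> rcases h2.2 v hv with e' | e' <;>
      rw [show act (S.act' x) (act (S.act' y) v) + v =
        (act (S.act' x) (act (S.act' y) v) + act (S.act' y) v) + (act (S.act' y) v + v) by
          rw [add_assoc, ← add_assoc (act (S.act' y) v), add_self_V, zero_add], e, e']
    · exact Or.inl (add_zero _)
    · exact Or.inr (zero_add _)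
    · exact Or.inr (add_zero _)
    · exact Or.inl (add_self_V _)
  have hw : wof (S.act' (x * y)) = p.2 + p'.2 := by
    rw [S.act'_mul h.comm_za.1 h'.comm_za.1, wof, act_mul]
    have e : act (S.act' y) f1 = f1 + sm (qf p'.2) e1 + p'.2 := by
      rw [h'.act_eq, add_assoc, ← T_f1 h'.inW.2, add_comm f1, add_assoc, add_self_V, add_zero]
    rw [e, act_add, act_add, act_sm, h.inRad.1.1, pw_add, pw_add, pw_sm, pw_e1, sm_eq, smul_zero, add_zero,
      pw_act h.inRad.1 h'.inW.2.2, pw_eq h'.inW.2, ← wof, h.inRad.2]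
  obtain ⟨k, m, hk, hk0, hm, hmz, hx, e1, -⟩ := h
  obtain ⟨k', m', hk', hk'0, hm', hm'z, hy, e1', -⟩ := h'
  subst hx hy
  have hk'' : m * k' * m⁻¹ ∈ Q := S.h.conj_mem hmz hk'
  have hv : y1 (S.F.vec (k * (m * k' * m⁻¹))) = 0 ∧ pw (S.F.vec (k * (m * k' * m⁻¹))) = p.1 + p'.1 := by
    rw [S.F.vec_mul hk hk'', S.vec_conj hmz hk']
    refine ⟨?_, by rw [pw_add, e1, pw_act (S.inRad hm hmz) hk'0, e1']⟩
    rw [y1_add, hk0, zero_add, ← bf_e1, ← (S.inRad hm hmz).1, act_bf, bf_e1, hk'0]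
  refine ⟨k * (m * k' * m⁻¹), m * m', Q.mul_mem hk hk'', hv.1, Q'.mul_mem hm hm',
    SuzukiType.mul_z hmz hm'z, by group, hv.2, ?_⟩
  have e : k * m * (k' * m') = k * (m * k' * m⁻¹) * (m * m') := by group
  rw [e, S.act'_mul (S.qz (Q.mul_mem hk hk'')) (SuzukiType.mul_z hmz hm'z),
    S.act'_q (Q.mul_mem hk hk''), one_mul] at hw
  exact hw

/-- The centre in coordinates. -/
theorem co_zz (s t : ZMod 2) : Co S (zz z a s t) 0 := by
  have h0 : pw 0 = (0 : V) := pw_zero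
  refine ⟨zp z s * zp a t, 1, Q.mul_mem (S.zp_mem _) (S.zpa_mem _), ?_, Q'.one_mem, by simp, by simp [zz], ?_, ?_⟩
  · rw [S.F.vec_mul (S.zp_mem _) (S.zpa_mem _), S.vec_zp, S.vec_zpa, zero_add, ← bf_e1]
    rcases z2 t with rfl | rfl
    · rw [sm_zero, bf_zero_left]
    · rw [sm_one, bf_self]
  · rw [S.F.vec_mul (S.zp_mem _) (S.zpa_mem _), S.vec_zp, S.vec_zpa, zero_add, pw_sm, pw_e1]
    rw [sm_eq, smul_zero]; rfl
  · rw [S.act'_q Q.one_mem, wof, act_one, pw_f1]; rfl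

theorem co_one : Co S (1 : G) 0 := by
  simpa [zz, zp_zero] using co_zz (S := S) 0 0

theorem Co.eq_zz (h : Co S x 0) : ∃ s t, x = zz z a s t := by
  obtain ⟨k, m, hk, hk0, hm, hmz, rfl, e1, e2⟩ := h
  have hm1 : S.act' m = 1 := (S.inRad hm hmz).eq_one e2
  have hmQ : m ∈ Q := (S.act'_one_iff hmz).1 hm1
  obtain ⟨s, t, rfl⟩ := S.inf_four hmQ hm
  obtain ⟨t', ht⟩ := sm_cases (pw_cases hk0 e1)
  obtain ⟨s', hs⟩ := S.eq_zp hk ht
  exact ⟨s' + s, t' + t, by rw [hs]; exact zz_mul _ _ _ _ S⟩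

theorem Co.inv (h : Co S x p) : Co S x⁻¹ p := by
  obtain ⟨p', h'⟩ := co_exists (S := S) (inv_z h.comm_za.1) (inv_z (z := a) h.comm_za.2) (by
    obtain ⟨g1, -⟩ := h.inRad
    rw [S.act'_inv h.comm_za.1]
    refine ⟨by conv_lhs => rw [← g1.1]
               exact act_inv_self _ _, fun v hv => ?_⟩
    set u := act (S.act' x)⁻¹ v with hu
    have hxu : act (S.act' x) u = v := by rw [hu, ← act_mul, mul_inv_cancel, act_one]
    have hu0 : y1 u = 0 := by rw [← bf_e1, ← act_bf (S.act' x), hxu, g1.1, bf_e1, hv]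
    rcases g1.2 u hu0 with e | e <;> rw [hxu, add_comm] at e
    · exact Or.inl e
    · exact Or.inr e)
  have e := h.mul h'
  rw [mul_inv_cancel] at e
  have e1 := co_one.unique e
  obtain ⟨e2, e3⟩ := Prod.ext_iff.1 e1
  rwa [show p = p' from Prod.ext (eq_of_add _ _ e2.symm) (eq_of_add _ _ e3.symm)]

/-- Squares. -/
theorem Co.sq (h : Co S x p) : x * x = zz z a (qz p) (qa p) := by
  obtain ⟨k, m, hk, hk0, hm, hmz, rfl, e1, e2⟩ := h
  rw [S.km_sq hk hk0 hm hmz, e1, e2]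
  rfl

theorem Co.zz_comm (h : Co S x p) (s t : ZMod 2) : x * zz z a s t = zz z a s t * x :=
  four_comm h.comm_za.1 h.comm_za.2 s t

/-- Commutators. -/
theorem Co.comm (h : Co S x p) (h' : Co S y p') : x * y = zz z a (cz p p') (ca p p') * (y * x) := by
  obtain ⟨s, t, hst⟩ : ∃ s t, x * y * (y * x)⁻¹ = zz z a s t := by
    refine Co.eq_zz (S := S) ?_
    have e := (h.mul h').mul (h'.mul h).inv
    rwa [show p + p' + (p' + p) = 0 by
      rw [add_comm p' p]; exact Prod.ext (add_self_V _) (add_self_V _)] at e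
  have hxy : x * y = zz z a s t * (y * x) := by rw [← hst, inv_mul_cancel_right]
  have h1 := (h.mul h').sq
  have h2 : x * y * (x * y) = zz z a (qz p + qz p' + s) (qa p + qa p' + t) := by
    have hyx : y * x = zz z a s t * (x * y) := by
      rw [hxy, ← mul_assoc, zz_mul _ _ _ _ S, CharTwo.add_self_eq_zero, CharTwo.add_self_eq_zero]
      simp [zz, zp_zero]
    calc x * y * (x * y) = x * (y * x) * y := by group
      _ = x * zz z a s t * x * (y * y) := by rw [hyx]; group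
      _ = zz z a s t * (x * x) * (y * y) := by rw [h.zz_comm]; group
      _ = _ := by rw [h.sq, h'.sq, zz_mul _ _ _ _ S, zz_mul _ _ _ _ S, qz, qa]; congr 1 <;> ring
  rw [h2, qz_add, qa_add] at h1
  have h3 := congrArg (fun g => zz z a (qz p + qz p') (qa p + qa p') * g) h1
  simp only [zz_mul _ _ _ _ S] at h3
  rw [hxy]
  congr 1
  have e : ∀ u v : ZMod 2, u + (u + v) = v := fun u v => by
    rw [← add_assoc, CharTwo.add_self_eq_zero, zero_add]
  rwa [e, e, e, e] at h3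

/-- Every pair occurs. -/
theorem co_surj (hp1 : InW p.1) (hp2 : InW p.2) : ∃ x, Co S x p := by
  obtain ⟨k, hk, hkv⟩ := S.F.surj p.1
  obtain ⟨m, hm, hmz, -, hmw⟩ := S.exists_m hp2
  exact ⟨k * m, k, m, hk, by rw [hkv]; exact hp1.2, hm, hmz, rfl, by rw [hkv, pw_eq hp1], hmw⟩

/-- The coordinates of a conjugate under `C(z) ∩ C(a)`. -/
theorem Co.conj (h : Co S x p) {c : G} (hcz : c * z = z * c) (hca : c * a = a * c) :
    Co S (c * x * c⁻¹) (pw (act (S.act' c) p.1), pw (act (S.act' c) p.2)) := by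
  set A := S.act' c with hA
  have hAe : act A e1 = e1 := by
    rw [← S.F.vec_a, hA, ← S.vec_conj hcz S.mem_a, hca, mul_inv_cancel_right]
  obtain ⟨k, m, hk, hk0, hm, hmz, rfl, e1', e2⟩ := h
  refine ⟨c * k * c⁻¹, c * m * c⁻¹, S.h.conj_mem hcz hk, ?_, S.h'.conj_mem hca hm,
    SuzukiType.mul_z (SuzukiType.mul_z hcz hmz) (inv_z hcz), by group, ?_, ?_⟩
  · rw [S.vec_conj hcz hk, ← hA, ← bf_e1]; conv_lhs => rw [← hAe]
    rw [act_bf, bf_e1, hk0]
  · rw [S.vec_conj hcz hk, ← hA, eq_pw_of_y1 hk0, act_add, act_sm, hAe, pw_add, pw_sm, pw_e1, sm_eq,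
      smul_zero, add_zero, e1']
  · set u := act A⁻¹ f1 with hu
    have hAu : act A u = f1 := by rw [hu, ← act_mul, mul_inv_cancel, act_one]
    have hu1 : y1 u = 1 := by rw [← bf_e1, ← act_bf A, hAu, hAe, bf_e1]; rfl
    rw [S.act'_mul (SuzukiType.mul_z hcz hmz) (inv_z hcz), S.act'_mul hcz hmz, S.act'_inv hcz, ← hA,
      wof, act_mul, act_mul, ← hu, (S.inRad hm hmz).act_eq, e2, T, hu1, sm_one, act_add, act_add, act_add,
      hAu, act_sm, act_sm, hAe]
    simp only [pw_add, pw_sm, pw_f1, pw_e1]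
    simp [sm_eq]

/-- The coordinates of a conjugate by an element of `Q` over `f1`. -/
theorem Co.conj_q (h : Co S x p) {q : G} (hq : q ∈ Q) (hqv : S.F.vec q = f1) :
    Co S (q * x * q⁻¹) (p.1 + p.2, p.2) := by
  have hpw := h.inW
  obtain ⟨k, m, hk, hk0, hm, hmz, rfl, e1', e2⟩ := h
  have h1 : m * q⁻¹ * m⁻¹ ∈ Q := S.h.conj_mem hmz (Q.inv_mem hq)
  refine ⟨q * k * q⁻¹ * (q * (m * q⁻¹ * m⁻¹)), m, Q.mul_mem (Q.mul_mem (Q.mul_mem hq hk) (Q.inv_mem hq))
    (Q.mul_mem hq h1), ?_, hm, hmz, by group, ?_, e2⟩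
  all_goals
    rw [S.F.vec_mul (Q.mul_mem (Q.mul_mem hq hk) (Q.inv_mem hq)) (Q.mul_mem hq h1),
      S.F.vec_mul (Q.mul_mem hq hk) (Q.inv_mem hq), S.F.vec_mul hq hk, S.F.vec_mul hq h1,
      S.vec_conj hmz (Q.inv_mem hq), S.vec_inv hq, hqv, (S.inRad hm hmz).act_eq, e2,
      add_comm f1 (T p.2 f1), T_f1 hpw.2, add_comm f1 (S.F.vec k), add_assoc (S.F.vec k) f1, add_self_V,
      add_zero]
  · rw [y1_add, y1_add, hk0, hpw.2.2]
    rcases z2 (qf p.2) with e | e <;> rw [e] <;> decide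
  · rw [pw_add, pw_add, pw_sm, pw_e1, sm_eq, smul_zero, zero_add, pw_eq hpw.2, e1']

/-- Involutions of type zero are conjugate to `z`. -/
theorem Co.conj_z (h : Co S x p) (hz0 : qz p = 0) (ha0 : qa p = 0) (hb : bf p.2 p.1 = 0) (hx1 : x ≠ 1) :
    IsConj x z := by
  have hsq : x * x = 1 := by rw [h.sq, hz0, ha0]; simp [zz, zp_zero]
  obtain ⟨k, m, hk, hk0, hm, hmz, rfl, e1, e2⟩ := h
  by_cases hw : wof (S.act' m) = 0
  · have hmQ : m ∈ Q := (S.act'_one_iff hmz).1 ((S.inRad hm hmz).eq_one hw)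
    exact S.conj_of_mem (Q.mul_mem hk hmQ) hsq hx1
  · exact S.conj_type_zero hk hk0 hm hmz hw hsq (by rw [e1, e2]; exact hb)

/-- Involutions of type one are conjugate to the second involution. -/
theorem Co.conj_t (h : Co S x p) (hz0 : qz p = 0) (ha0 : qa p = 0) (hb : bf p.2 p.1 = 1) {k m : G}
    (hk : k ∈ Q) (hkv : S.F.vec k = k0) (hm : m ∈ Q') (hmz : m * z = z * m)
    (hmw : wof (S.act' m) = w0) : IsConj (k * m) x := by
  have hsq : x * x = 1 := by rw [h.sq, hz0, ha0]; simp [zz, zp_zero]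
  obtain ⟨k', m', hk', hk0, hm', hm'z, rfl, e1, e2⟩ := h
  exact S.conj_type_one hk hkv hm hmz hmw hk' hk0 hm' hm'z hsq (by rw [e1, e2]; exact hb)

end Cfsg.Agent.SuzukiLocal
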