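import Cfsg.Agent.Lib.SuzukiLocal.CountCode

/-!
The codes of the conjugates of `z` in `C(z)`, and the square of an element inducing an involution.
-/

set_option autoImplicit false
set_option maxRecDepth 20000
set_option synthInstance.maxSize 4096

namespace Cfsg.Agent.SuzukiLocal.CZ

open Subgroup Cfsg.Agent.SuzukiType Cfsg.Agent.OctadInv.Orbits

/-! ### Vectors -/

/-- The element of the totally singular line through `P` and `R`. -/
def XV (P R v : V) : V := v + sm (bf v P) R + sm (bf v R) P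

theorem T_line : ∀ q x : V, y1 q = 0 → qf q = 0 → T (pw q) x = x + sm (bf x e1) q + sm (bf x q) e1 := by
  decide +kernel

theorem T_q : ∀ w v : V, InW w → qf (T w v + v) = y1 v * qf w := by decide +kernel

theorem orth_four : ∀ w d : V, InW w → (∀ v, y1 v = 0 → bf w v = 0 → bf d v = 0) →
    ∃ s t : ZMod 2, d = sm s e1 + sm t w := by decide +kernel

theorem four_val : ∀ w k : V, InW w → y1 k = 0 → bf w (pw k) = qf w → ∀ s t : ZMod 2,
    qf (k + (sm s e1 + sm t w)) = qf (pw k) := by decide +kernel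

theorem basis_sum : ∀ v : V, v = sm (x1 v) (toV (2 ^ 0)) + sm (y1 v) (toV (2 ^ 1)) +
    sm (x2 v) (toV (2 ^ 2)) + sm (y2 v) (toV (2 ^ 3)) + sm (za v) (toV (2 ^ 4)) + sm (zb v) (toV (2 ^ 5)) := by
  decide +kernel

theorem swap_dual : ∀ v : V, ∀ i < 6,
    bf (SuzukiType.mk (y1 v) (x1 v) (y2 v) (x2 v) (zb v) (za v)) (toV (2 ^ i)) = bz (ofN 0 v) i := by
  decide +kernel

theorem bits_mk : ∀ a b c d e f : ZMod 2, ∀ i < 6,
    bz (ofN 0 (SuzukiType.mk a b c d e f)) i = [a, b, c, d, e, f].getD i 0 := by decide +kernel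

theorem bn_bz : ∀ f < 64, ∀ i < 6, bn f i < 2 ∧ (bn f i : ZMod 2) = bz f i := by decide +kernel

theorem exists_bits (s : ℕ → ZMod 2) : ∃ f < 64, ∀ i < 6, bz f i = s i := by
  refine ⟨ofN 0 (SuzukiType.mk (s 0) (s 1) (s 2) (s 3) (s 4) (s 5)), ofN_small _, fun i hi => ?_⟩
  rw [bits_mk _ _ _ _ _ _ i hi]
  interval_cases i <;> rfl

theorem eq_of_basis {f g : V → V} (hf : ∀ u v, f (u + v) = f u + f v) (hg : ∀ u v, g (u + v) = g u + g v)
    (h : ∀ i < 6, f (toV (2 ^ i)) = g (toV (2 ^ i))) (v : V) : f v = g v := by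
  have f0 : f 0 = 0 := by have := hf 0 0; rwa [add_zero, left_eq_add] at this
  have g0 : g 0 = 0 := by have := hg 0 0; rwa [add_zero, left_eq_add] at this
  have hs : ∀ i < 6, ∀ t, f (sm t (toV (2 ^ i))) = g (sm t (toV (2 ^ i))) := fun i hi t => by
    rcases z2 t with rfl | rfl
    · rw [sm_zero, f0, g0]
    · rw [sm_one, h i hi]
  rw [basis_sum v, hf, hf, hf, hf, hf, hg, hg, hg, hg, hg, hs 0 (by norm_num), hs 1 (by norm_num),
    hs 2 (by norm_num), hs 3 (by norm_num), hs 4 (by norm_num), hs 5 (by norm_num)]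

theorem XV_add (P R u v : V) : XV P R (u + v) = XV P R u + XV P R v := by
  simp only [XV, bf_add_left, sm_add_s]
  abel

theorem XV_fix {P R v : V} (hP : P ≠ 0) (hR : R ≠ 0) (hne : P ≠ R) :
    XV P R v = v ↔ bf v P = 0 ∧ bf v R = 0 := by
  rw [XV, add_assoc, add_eq_left]
  refine ⟨fun h => ?_, fun ⟨h1, h2⟩ => by rw [h1, h2, sm_zero, sm_zero, add_zero]⟩
  rcases z2 (bf v P) with e | e <;> rcases z2 (bf v R) with e' | e' <;> rw [e, e'] at h <;>
    simp only [sm_zero, sm_one, zero_add, add_zero] at h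
  · exact ⟨e, e'⟩
  · exact absurd h hP
  · exact absurd h hR
  · exact absurd (eq_of_add _ _ h).symm hne

theorem XN_cast {p q v : ℕ} (hp : p < 64) (hq : q < 64) (hv : v < 64) :
    XN p q v < 64 ∧ toV (XN p q v) = XV (toV p) (toV q) (toV v) := by
  obtain ⟨h1, h2⟩ := pN_cast (a := v) (b := p) (by omega) (by omega)
  obtain ⟨h3, h4⟩ := pN_cast (a := v) (b := q) (by omega) (by omega)
  have hz : toV 0 = 0 := by decide
  rw [XV, ← h2, ← h4, XN]
  rcases (show pN v p = 0 ∨ pN v p = 1 by omega) with e | e <;>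
    rcases (show pN v q = 0 ∨ pN v q = 1 by omega) with e' | e' <;> rw [e, e'] <;>
    simp only [zero_ne_one, if_false, if_true, Nat.cast_zero, Nat.cast_one, sm_zero, sm_one,
      add_zero, Nat.xor_zero, toV_xor] <;>
    refine ⟨?_, trivial⟩
  · exact hv
  · exact Nat.xor_lt_two_pow (n := 6) hv hp
  · exact Nat.xor_lt_two_pow (n := 6) hv hq
  · exact Nat.xor_lt_two_pow (n := 6) (Nat.xor_lt_two_pow (n := 6) hv hq) hp

theorem mk_entry {p q f i : ℕ} (hp : p < 64) (hq : q < 64) (hf : f < 64) (hi : i < 6) :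
    XN p q (2 ^ i) ^^^ (bn f i <<< 6) < 128 ∧
      toV (XN p q (2 ^ i) ^^^ (bn f i <<< 6)) = XV (toV p) (toV q) (toV (2 ^ i)) ∧
      bz (XN p q (2 ^ i) ^^^ (bn f i <<< 6)) 6 = bz f i := by
  obtain ⟨h1, h2⟩ := XN_cast hp hq (pow_lt hi)
  obtain ⟨h3, h4⟩ := bn_bz f hf i hi
  refine ⟨Nat.xor_lt_two_pow (n := 7) (show _ < 128 by omega) (shift_lt _ h3), ?_, ?_⟩
  · rw [toV_xor, toV_shift, add_zero, h2]
  · rw [bz_xor, bz_six_small _ h1, bz_shift_six _ h3, h4, zero_add]

/-! ### The square -/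

variable {G : Type*} [Group G]
variable {Q Q' : Subgroup G} {z a : G} (S : St Q Q' z a)

include S in
theorem zp_inj {s t : ZMod 2} {x : G} (h : zp z s * x = zp z t * x) : s = t := by
  have h1 : zp z (s + t) = 1 := by
    rw [zp_add S.h.zz, mul_right_cancel h, ← zp_add S.h.zz, CharTwo.add_self_eq_zero, zp_zero]
  exact CharTwo.add_eq_zero.1 ((zp_eq_one_iff S.h.ne_one).1 h1)

theorem zp_cases {x : G} (h : x = 1 ∨ x = z) : ∃ s, x = zp z s := by
  rcases h with e | e
  · exact ⟨0, by rw [zp_zero, e]⟩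
  · exact ⟨1, by rw [zp_one, e]⟩

/-- An element inducing an involution: its square is read from the sign on the fixed vectors. -/
theorem square_form [Finite G] {y : G} (hyz : y * z = z * y) (hA : S.act' y ≠ 1)
    (hyy : y * y = 1 ∨ y * y = z) (κ : V)
    (hκ : ∀ x ∈ Q, act (S.act' y) (S.F.vec x) = S.F.vec x → y * x * y⁻¹ = zp z (bf κ (S.F.vec x)) * x) :
    ∃ c k m : G, c * z = z * c ∧ k ∈ Q ∧ y1 (S.F.vec k) = 0 ∧ m ∈ Q' ∧ m * z = z * m ∧
      wof (S.act' m) ≠ 0 ∧ c * y * c⁻¹ = k * m ∧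
      bf (wof (S.act' m)) (pw (S.F.vec k)) = qf (wof (S.act' m)) ∧
      y * y = zp z (qf κ + qf (wof (S.act' m))) ∧
      ∀ v, qf (act (S.act' y) v + v) = y1 (act (S.act' c) v) * qf (wof (S.act' m)) := by
  obtain ⟨s, hs⟩ := zp_cases hyy
  have hAA : S.act' y * S.act' y = 1 := by
    rw [← S.act'_mul hyz hyz, hs, S.act'_q (S.zp_mem s)]
  obtain ⟨A, hA', hR⟩ := exists_conj_inRad (S.act'_omega y) hAA hA
  obtain ⟨⟨c, hc⟩, hcA⟩ := S.F.lift A hA'
  have hcz := mem_centralizer_singleton_iff.1 hc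
  have hcA' : S.act' c = A := by rw [S.act'_def hcz]; exact hcA
  have hyc : S.act' (c * y * c⁻¹) = A * S.act' y * A⁻¹ := by
    rw [S.act'_mul (mul_z hcz hyz) (inv_z hcz), S.act'_mul hcz hyz, S.act'_inv hcz, hcA']
  obtain ⟨m, hm, hmz, hmA⟩ := S.exists_m_of_inRad hR
  have hy'z : c * y * c⁻¹ * z = z * (c * y * c⁻¹) := mul_z (mul_z hcz hyz) (inv_z hcz)
  set k := c * y * c⁻¹ * m⁻¹ with hk
  have hkQ : k ∈ Q := (S.act'_one_iff (mul_z hy'z (inv_z hmz))).1 (by
    rw [S.act'_mul hy'z (inv_z hmz), S.act'_inv hmz, hmA, hyc, mul_inv_cancel])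
  have hkm : c * y * c⁻¹ = k * m := by rw [hk, inv_mul_cancel_right]
  have hsq : k * m * (k * m) = zp z s := by
    rw [← hkm]
    calc c * y * c⁻¹ * (c * y * c⁻¹) = c * (y * y) * c⁻¹ := by group
      _ = zp z s := by rw [hs, zp_comm hcz, mul_inv_cancel_right]
  have hAe : S.act' y = A⁻¹ * S.act' m * A := by rw [hmA]; group
  have hw : wof (S.act' m) ≠ 0 := fun e => hA (by
    rw [hAe, (S.inRad hm hmz).eq_one e]; group)
  set w := wof (S.act' m) with hwd
  have hk0 : y1 (S.F.vec k) = 0 := by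
    have hm2 : S.F.vec (m * m) = sm (qf w) e1 := by rw [S.m_sq hm hmz, S.vec_zpa]
    have hmmQ : m * m ∈ Q := by rw [S.m_sq hm hmz]; exact S.zpa_mem _
    have h2 : k * (m * k * m⁻¹) * (m * m) = zp z s := by rw [← hsq]; group
    have h3 := congrArg S.F.vec h2
    rw [S.F.vec_mul (Q.mul_mem hkQ (S.h.conj_mem hmz hkQ)) hmmQ, S.F.vec_mul hkQ (S.h.conj_mem hmz hkQ),
      S.vec_conj hmz hkQ, hm2, S.vec_zp, (S.inRad hm hmz).act_eq] at h3
    have h4 := eq_of_add _ _ h3
    rw [add_comm] at h4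
    rw [← bf_e1]
    refine move_T _ _ (inW_wof _) hw ?_
    rw [← hwd, h4]
    rcases z2 (qf w) with e | e <;> rw [e]
    · exact Or.inl (sm_zero _)
    · exact Or.inr (sm_one _)
  -- the square
  have h5 := S.km_sq hkQ hk0 hm hmz
  rw [hsq, ← hwd] at h5
  have h6 : zp z (s + (qf (pw (S.F.vec k)) + bf w (pw (S.F.vec k)))) *
      zp a (bf w (pw (S.F.vec k)) + qf w) = 1 := by
    rw [zp_add S.h.zz, mul_assoc, ← h5, ← zp_add S.h.zz, CharTwo.add_self_eq_zero, zp_zero]
  obtain ⟨h7, h8⟩ := S.zp_pair_one h6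
  have hB : bf w (pw (S.F.vec k)) = qf w := CharTwo.add_eq_zero.1 h8
  -- the fixed vectors
  have hd : ∀ v, y1 v = 0 → bf w v = 0 → bf (S.F.vec k + act A κ) v = 0 := by
    intro v hv hwv
    obtain ⟨x, hx, hxv⟩ := S.F.surj v
    have hx' : c⁻¹ * x * c⁻¹⁻¹ ∈ Q := S.h.conj_mem (inv_z hcz) hx
    have hx'v : S.F.vec (c⁻¹ * x * c⁻¹⁻¹) = act A⁻¹ v := by
      rw [S.vec_conj (inv_z hcz) hx, S.act'_inv hcz, hcA', hxv]
    have hfix : act (S.act' y) (act A⁻¹ v) = act A⁻¹ v := by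
      rw [hAe, act_mul, act_mul, ← act_mul A, mul_inv_cancel, act_one, (S.inRad hm hmz).act_eq, ← hwd,
        eq_of_add _ _ ((T_of_y1 w hv).trans (by rw [hwv, sm_zero]))]
    have e1 := hκ _ hx' (by rw [hx'v]; exact hfix)
    rw [hx'v] at e1
    have hmx : m * x = x * m := by
      have := S.m_comm hm hmz hx (by rw [hxv]; exact hv)
      rwa [hxv, ← hwd, hwv, zp_zero, zp_zero, mul_one, one_mul] at this
    have e2 : zp z (bf κ (act A⁻¹ v)) * x = zp z (bf (S.F.vec k) v) * x := by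
      calc zp z (bf κ (act A⁻¹ v)) * x
          = c * (zp z (bf κ (act A⁻¹ v)) * (c⁻¹ * x * c⁻¹⁻¹)) * c⁻¹ := by
            rw [← mul_assoc c, zp_comm hcz]; group
        _ = (c * y * c⁻¹) * x * (c * y * c⁻¹)⁻¹ := by rw [← e1]; group
        _ = k * (m * x * m⁻¹) * k⁻¹ := by rw [hkm]; group
        _ = _ := by rw [hmx, mul_inv_cancel_right, el_conj S hkQ hx, hxv]
    have e3 := zp_inj S e2
    have e4 : bf κ (act A⁻¹ v) = bf (act A κ) v := by
      conv_rhs => rw [← show act A (act A⁻¹ v) = v by rw [← act_mul, mul_inv_cancel, act_one]]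
      rw [act_bf]
    rw [bf_add_left, ← e3, e4, CharTwo.add_self_eq_zero]
  obtain ⟨s', t', hd'⟩ := orth_four w _ (inW_wof _) hd
  have hκ' : act A κ = S.F.vec k + (sm s' e1 + sm t' w) := by
    rw [← hd', ← add_assoc, add_self_V, zero_add]
  refine ⟨c, k, m, hcz, hkQ, hk0, hm, hmz, hw, hkm, hB, ?_, fun v => ?_⟩
  · rw [hs]
    congr 1
    rw [← hwd, ← act_qf A κ, hκ', four_val w _ (inW_wof _) hk0 hB]
    rw [hB] at h7
    exact CharTwo.add_eq_zero.1 h7
  · rw [← hwd, hcA', ← T_q w _ (inW_wof _), ← act_qf A, act_add, hAe, act_mul, act_mul,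
      (S.inRad hm hmz).act_eq, ← hwd, ← act_mul A, mul_inv_cancel, act_one]

/-! ### Lines -/

/-- The action of an element conjugate to one of the transvection group. -/
theorem line_act {A B : O6} {w q : V} (hw : pw q = w) (hq0 : y1 q = 0) (hq : qf q = 0)
    (hB : ∀ v, act B v = T w v) (v : V) :
    act (A⁻¹ * B * A) v = XV (act A⁻¹ e1) (act A⁻¹ q) v := by
  have h : ∀ x, bf (act A v) x = bf v (act A⁻¹ x) := fun x => by
    rw [← act_bf A v (act A⁻¹ x), ← act_mul A A⁻¹, mul_inv_cancel, act_one]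
  rw [act_mul, act_mul, hB, ← hw, T_line q _ hq0 hq, act_add, act_add, act_inv_self, act_sm, act_sm, XV,
    h, h]

theorem act_eq_code {c : G} (hc : c * z = z * c) {i : ℕ} (hi : i < 6) :
    toV ((code S c).getD i 0) = act (S.act' c) (toV (2 ^ i)) := by
  rw [← el_vec S ((code S c).getD i 0), (code_spec S hc hi).2, S.vec_conj hc (el_mem S _), el_vec]

theorem el_split (n : ℕ) {v : ℕ} (hv : v < 64) (h : toV v = toV n) :
    el S n = zp z (bz n 6) * el S v := by
  rw [el, el, bz_six_small v hv, zp_zero, one_mul, h]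

/-- The code of an element of `Q`. -/
theorem code_inner {x : G} (hx : x ∈ Q) {v : ℕ} (hv : v < 128) (h : S.F.vec x = toV v) :
    code S x = innC v := by
  refine code_eq S (S.qz hx) _ fun i hi => ?_
  have hp : 2 ^ i < 128 := by have := pow_lt hi; omega
  obtain ⟨h1, h2⟩ := pN_cast hv hp
  refine ⟨qm_lt (shift_lt _ h1) hp, ?_⟩
  rw [el_shift S h1 hp, h2, el_conj S hx (el_mem S _), h, el_vec]

theorem code_inner_inv [Finite G] {u : G} (huz : u * z = z * u) {v : ℕ} (hv : v < 128)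
    (h : code S u = innC v) : u ∈ Q ∧ S.F.vec u = toV v := by
  rcases code_inj S (S.qz (el_mem S v)) huz ((code_el S hv).trans h.symm) with e | e <;> rw [e]
  · exact ⟨el_mem S v, el_vec S v⟩
  · exact ⟨Q.mul_mem (el_mem S v) S.h.z_mem,
      by rw [S.F.vec_mul (el_mem S v) S.h.z_mem, S.F.vec_z, add_zero, el_vec]⟩

variable [Finite G]

/-- The conjugates of `z` in `C(z)`, other than `z`, have codes in the list. -/
theorem code_mem {k m : G} (hk : k ∈ Q) (hkv : S.F.vec k = k0) (hm : m ∈ Q') (hmz : m * z = z * m)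
    (hmw : wof (S.act' m) = w0) (hcard : 32 ≤ Nat.card ↥Q) {u : G} (huz : u * z = z * u)
    (hconj : IsConj z u) (hne : u ≠ z) : code S u ∈ allC := by
  have huu : u * u = 1 := by
    obtain ⟨g, rfl⟩ := isConj_iff.1 hconj
    calc g * z * g⁻¹ * (g * z * g⁻¹) = g * (z * z) * g⁻¹ := by group
      _ = 1 := by rw [S.h.zz]; group
  have hu1 : u ≠ 1 := fun e => by
    subst e
    exact S.h.ne_one (isConj_one_left.1 hconj)
  rw [allC, List.mem_append]
  by_cases huQ : u ∈ Q
  · refine Or.inl (List.mem_map.2 ?_)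
    obtain ⟨v, hv, hvu⟩ := exists_num (S.F.vec u)
    refine ⟨v, List.mem_filter.2 ⟨List.mem_range.2 hv, ?_⟩, (code_inner S huQ (by omega) hvu.symm).symm⟩
    have h1 : qf (S.F.vec u) = 0 := by
      have h0 := S.F.sq huQ
      rw [huu] at h0
      exact (zp_eq_one_iff S.h.ne_one).1 h0.symm
    have h2 : qN v = 0 := (qN_zero_iff (by omega)).2 (by rw [hvu]; exact h1)
    have h3 : v ≠ 0 := fun e => (S.F.vec_cases huQ (by rw [← hvu, e]; decide)).elim hu1 hne
    simp [h2, Nat.pos_of_ne_zero h3]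
  refine Or.inr ?_
  obtain ⟨c, k', m', hcz, hk', hk'0, hm', hm'z, hw, e, hsq⟩ := S.shape huz huQ huu
  have hB : bf (wof (S.act' m')) (pw (S.F.vec k')) = 0 := by
    rcases z2 (bf (wof (S.act' m')) (pw (S.F.vec k'))) with hB | hB
    · exact hB
    · exact absurd ((hconj.trans (isConj_iff.2 ⟨c, e⟩)).trans
        (S.conj_type_one hk hkv hm hmz hmw hk' hk'0 hm' hm'z hsq hB).symm)
        (S.not_conj hk hkv hm hmz hmw hcard)
  obtain ⟨hqk, hqw⟩ := S.km_conditions hk' hk'0 hm' hm'z hsq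
  rw [hB] at hqk hqw
  set w := wof (S.act' m') with hwd
  have hpair := pair_zero _ _ (pw_mem _) (inW_wof _) hqk hqw hB hw
  set A := S.act' c with hA
  have hy : S.act' u = A⁻¹ * S.act' m' * A := by
    have h1 : S.act' (c * u * c⁻¹) = S.act' m' := by
      rw [e, S.act'_mul (S.qz hk') hm'z, S.act'_q hk', one_mul]
    rw [S.act'_mul (mul_z hcz huz) (inv_z hcz), S.act'_mul hcz huz, S.act'_inv hcz] at h1
    rw [← h1, hA]; group
  have hX : ∀ v, act (S.act' u) v = XV (act A⁻¹ e1) (act A⁻¹ w) v := fun v => by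
    rw [hy]
    exact line_act (pw_eq (inW_wof _)) (inW_wof _).2 hqw (fun v => (S.inRad hm' hm'z).act_eq v) v
  have hiA : ∀ {x y : V}, act A⁻¹ x = act A⁻¹ y → x = y := fun {x y} h => by
    have := congrArg (act A) h
    rwa [← act_mul, ← act_mul, mul_inv_cancel, act_one, act_one] at this
  have hA0 : ∀ {x : V}, x ≠ 0 → act A⁻¹ x ≠ 0 := fun hx h => hx (hiA (h.trans (act_zero _).symm))
  obtain ⟨p, hp, hpv⟩ := exists_num (act A⁻¹ e1)
  obtain ⟨q, hq, hqv⟩ := exists_num (act A⁻¹ w)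
  have he1 : e1 ≠ 0 := by decide
  have hne' : e1 ≠ w := fun h => by
    have := (inW_wof (S.act' m')).1
    rw [← hwd, ← h] at this
    exact absurd this (by decide)
  have hp0 : p ≠ 0 := fun h => hA0 he1 (by rw [← hpv, h]; decide)
  have hq0 : q ≠ 0 := fun h => hA0 hw (by rw [← hqv, h]; decide)
  have hpq : p ≠ q := fun h => hne' (hiA (by rw [← hpv, ← hqv, h]))
  have hl := lines_cover p hp q hq hp0 hq0 hpq
    ((qN_zero_iff (by omega)).2 (by rw [hpv, act_qf]; decide))
    ((qN_zero_iff (by omega)).2 (by rw [hqv, act_qf, hqw]))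
    ((pN_zero_iff (by omega) (by omega)).2 (by rw [hpv, hqv, act_bf, bf_comm, bf_e1, (inW_wof _).2]))
  rw [List.any_eq_true] at hl
  obtain ⟨l, hl, hlX⟩ := hl
  obtain ⟨hl1, hl2, hl10, hl20, hl12, -, -, -⟩ := lines_valid l hl
  have hlX' : ∀ i < 6, XN l.1 l.2 (2 ^ i) = XN p q (2 ^ i) := fun i hi => by
    have := congrArg (fun L : List ℕ => L.getD i 0) (eq_of_beq hlX)
    rwa [getD_range _ hi, getD_range _ hi] at this
  have hXl : ∀ v, act (S.act' u) v = XV (toV l.1) (toV l.2) v :=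
    eq_of_basis (act_add _) (XV_add _ _) fun i hi => by
      rw [hX, ← hpv, ← hqv, ← (XN_cast hp hq (pow_lt hi)).2, ← hlX' i hi,
        (XN_cast hl1 hl2 (pow_lt hi)).2]
  obtain ⟨f, hf, hfs⟩ := exists_bits fun i => bz ((code S u).getD i 0) 6
  have hcode : code S u = mkC l.1 l.2 f := by
    refine code_eq S huz _ fun i hi => ?_
    obtain ⟨h1, h2, h3⟩ := mk_entry hl1 hl2 hf hi
    obtain ⟨h4, h5⟩ := code_spec S huz hi
    rw [← h5]
    refine ⟨h1, congrArg (el S) (eq_of_parts h1 h4 ?_ ?_)⟩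
    · rw [h2, act_eq_code S huz hi, hXl]
    · rw [h3, hfs i hi]
  rw [outC, List.mem_flatMap]
  refine ⟨l, hl, List.mem_filter.2 ⟨List.mem_map.2 ⟨f, List.mem_range.2 hf, hcode.symm⟩, ?_⟩⟩
  rw [trivFix, List.all_eq_true]
  intro v hv
  rw [List.mem_range] at hv
  simp only [Bool.or_eq_true, bne_iff_ne, beq_iff_eq]
  by_cases h1 : pN v l.1 = 0
  swap
  · exact Or.inl (Or.inl h1)
  by_cases h2 : pN v l.2 = 0
  swap
  · exact Or.inl (Or.inr h2)
  refine Or.inr ?_
  have hfix : act (S.act' u) (toV v) = toV v := by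
    rw [hXl, XV, (pN_zero_iff (by omega) (by omega)).1 h1, (pN_zero_iff (by omega) (by omega)).1 h2,
      sm_zero, sm_zero, add_zero, add_zero]
  obtain ⟨h3, h4⟩ := conj_el S huz (n := v) (by omega)
  refine el_inj S h3 (by omega) (h4.trans ?_)
  set x := c * el S v * c⁻¹ with hx
  have hxQ : x ∈ Q := S.h.conj_mem hcz (el_mem S v)
  have hxv : S.F.vec x = act A (toV v) := by rw [hx, S.vec_conj hcz (el_mem S v), el_vec]
  have hfix' : T w (S.F.vec x) = S.F.vec x := by
    rw [hxv, ← (S.inRad hm' hm'z).act_eq, ← act_mul]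
    conv_rhs => rw [← hfix]
    rw [← act_mul, hy, mul_assoc, mul_inv_cancel_left]
  have hxf : y1 (S.F.vec x) = 0 ∧ bf w (S.F.vec x) = 0 := by
    have := move_T w (S.F.vec x) (inW_wof _) hw (Or.inl (by rw [hfix', add_self_V]))
    rw [bf_e1] at this
    refine ⟨this, ?_⟩
    have h5 := T_of_y1 w this
    rw [hfix', add_self_V] at h5
    rcases z2 (bf w (S.F.vec x)) with e' | e'
    · exact e'
    · rw [e', sm_one] at h5
      exact absurd h5.symm (by decide)
  have hkx : k' * x = x * k' := by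
    refine (S.comm_iff hk' hxQ).2 ?_
    rw [← bf_pw_pw hk'0 hxf.1]
    rcases hpair with e' | e' <;> rw [e']
    · exact bf_zero_left _
    · rw [bf_comm, bf_pw hxf.1 (inW_wof _), bf_comm]; exact hxf.2
  have hmx : m' * x = x * m' := by
    have := S.m_comm hm' hm'z hxQ hxf.1
    rwa [← hwd, hxf.2, zp_zero, zp_zero, mul_one, one_mul] at this
  calc u * el S v * u⁻¹ = c⁻¹ * ((c * u * c⁻¹) * x * (c * u * c⁻¹)⁻¹) * c := by rw [hx]; group
    _ = c⁻¹ * (k' * (m' * x * m'⁻¹) * k'⁻¹) * c := by rw [e]; group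
    _ = _ := by rw [hmx, mul_inv_cancel_right, hkx, mul_inv_cancel_right, hx]; group

/-- Every code in the list comes from an element of `C(z)`. -/
theorem code_exists {c : List ℕ} (hc : c ∈ allC) : ∃ u : G, u * z = z * u ∧ code S u = c := by
  rw [allC, List.mem_append] at hc
  rcases hc with hc | hc
  · obtain ⟨v, hv, rfl⟩ := List.mem_map.1 hc
    rw [List.mem_filter, List.mem_range] at hv
    exact ⟨el S v, S.qz (el_mem S v), code_el S (by omega)⟩
  obtain ⟨⟨p, q⟩, hl, hf⟩ := List.mem_flatMap.1 hc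
  obtain ⟨hp, hq, hp0, hq0, hpq, hpp, hqq, hpq'⟩ := lines_valid _ hl
  rw [List.mem_filter, List.mem_map] at hf
  obtain ⟨⟨f, hf, rfl⟩, -⟩ := hf
  rw [List.mem_range] at hf
  have hinj : ∀ {n}, n < 64 → n ≠ 0 → toV n ≠ 0 := fun hn hn0 h =>
    hn0 (eq_of_toV hn (by norm_num) (h.trans (show (0 : V) = toV 0 by decide)))
  obtain ⟨A, hA, hAe⟩ := exists_to_e1 (hinj hp hp0) ((qN_zero_iff (by omega)).1 hpp)
  set q' := act A (toV q) with hq'
  have hq'0 : y1 q' = 0 := by
    rw [← bf_e1, hq', ← hAe, act_bf, bf_comm]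
    exact (pN_zero_iff (by omega) (by omega)).1 hpq'
  have hq'q : qf q' = 0 := by rw [hq', act_qf]; exact (qN_zero_iff (by omega)).1 hqq
  obtain ⟨m, hm, hmz, -, hmw⟩ := S.exists_m (pw_mem q')
  obtain ⟨⟨c0, hc0⟩, hc0A⟩ := S.F.lift A hA
  have hc0z := mem_centralizer_singleton_iff.1 hc0
  have hA' : S.act' c0 = A := by rw [S.act'_def hc0z]; exact hc0A
  set c1 := c0⁻¹ * m * c0 with hc1
  have hc1z : c1 * z = z * c1 := mul_z (mul_z (inv_z hc0z) hmz) hc0z
  have hX : ∀ v, act (S.act' c1) v = XV (toV p) (toV q) v := fun v => by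
    rw [hc1, S.act'_mul (mul_z (inv_z hc0z) hmz) hc0z, S.act'_mul (inv_z hc0z) hmz, S.act'_inv hc0z, hA',
      line_act rfl hq'0 hq'q (fun v => by rw [(S.inRad hm hmz).act_eq, hmw]) v, hq', act_inv_self]
    conv_lhs => rw [← hAe, act_inv_self]
  obtain ⟨d, -, hd⟩ := exists_bits fun i => bz f i + bz ((code S c1).getD i 0) 6
  obtain ⟨j, hj, hjv⟩ := S.F.surj (act (S.act' c1)
    (SuzukiType.mk (y1 (toV d)) (x1 (toV d)) (y2 (toV d)) (x2 (toV d)) (zb (toV d)) (za (toV d))))
  have hjz := mul_z (S.qz hj) hc1z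
  refine ⟨j * c1, hjz, code_eq S hjz _ fun i hi => ?_⟩
  obtain ⟨h1, h2, h3⟩ := mk_entry hp hq hf hi
  obtain ⟨h4, h5⟩ := code_spec S hc1z hi
  refine ⟨h1, ?_⟩
  have hd' : ∀ d : ℕ, ∀ i < 6, bz (ofN 0 (toV d)) i = bz d i := fun d i hi => by
    rw [toV, bits_mk _ _ _ _ _ _ i hi]
    interval_cases i <;> rfl
  rw [show j * c1 * el S (2 ^ i) * (j * c1)⁻¹ = j * el S ((code S c1).getD i 0) * j⁻¹ by rw [h5]; group,
    el_conj S hj (el_mem S _), el_vec, act_eq_code S hc1z hi, hjv, act_bf, swap_dual _ i hi, hd' d i hi,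
    hd i hi, el, el, zz_mul S, act_eq_code S hc1z hi, h2, hX, h3, add_assoc, CharTwo.add_self_eq_zero,
    add_zero]

/-- The elements with code in the list are conjugate to `z`. -/
theorem conj_of_code {u : G} (huz : u * z = z * u) (hu : code S u ∈ allC) : IsConj z u := by
  rw [allC, List.mem_append] at hu
  rcases hu with hu | hu
  · obtain ⟨v, hv, hvu⟩ := List.mem_map.1 hu
    rw [List.mem_filter, List.mem_range] at hv
    obtain ⟨hv, hv'⟩ := hv
    simp only [Bool.and_eq_true, decide_eq_true_eq, beq_iff_eq] at hv'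
    obtain ⟨huQ, huv⟩ := code_inner_inv S huz (by omega) hvu.symm
    refine (S.conj_of_mem huQ ?_ ?_).symm
    · rw [S.F.sq huQ, huv, (qN_zero_iff (by omega)).1 hv'.2, zp_zero]
    · intro e
      have := eq_of_toV hv (by norm_num : 0 < 64) (by rw [← huv, e, S.F.vec_one]; decide)
      omega
  obtain ⟨⟨p, q⟩, hl, hf⟩ := List.mem_flatMap.1 hu
  obtain ⟨hp, hq, hp0, hq0, hpq, hpp, hqq, hpq'⟩ := lines_valid _ hl
  rw [List.mem_filter, List.mem_map] at hf
  obtain ⟨⟨f, hf, hfu⟩, htriv⟩ := hf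
  rw [List.mem_range] at hf
  have hX : ∀ v, act (S.act' u) v = XV (toV p) (toV q) v :=
    eq_of_basis (act_add _) (XV_add _ _) fun i hi => by
      rw [← act_eq_code S huz hi, ← hfu, mkC, getD_range _ hi]
      exact (mk_entry hp hq hf hi).2.1
  have hinj : ∀ {n}, n < 64 → n ≠ 0 → toV n ≠ 0 := fun hn hn0 h =>
    hn0 (eq_of_toV hn (by norm_num) (h.trans (show (0 : V) = toV 0 by decide)))
  have hP := hinj hp hp0
  have hR := hinj hq hq0
  have hne : toV p ≠ toV q := fun h => hpq (eq_of_toV hp hq h)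
  have hfixv : ∀ {x : G}, x ∈ Q → act (S.act' u) (S.F.vec x) = S.F.vec x → u * x * u⁻¹ = x := by
    intro x hx hfix
    obtain ⟨n, hn, rfl⟩ := el_surj S hx
    obtain ⟨v, hv, hvn⟩ := exists_num (toV n)
    rw [el_vec, hX, XV_fix hP hR hne, ← hvn] at hfix
    rw [trivFix, List.all_eq_true] at htriv
    have h1 := htriv v (List.mem_range.2 hv)
    simp only [Bool.or_eq_true, bne_iff_ne, beq_iff_eq,
      (pN_zero_iff (show v < 128 by omega) (show p < 128 by omega)).2 hfix.1,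
      (pN_zero_iff (show v < 128 by omega) (show q < 128 by omega)).2 hfix.2, ne_eq, not_true_eq_false,
      false_or] at h1
    obtain ⟨-, h2⟩ := conj_el S huz (n := v) (by omega)
    rw [h1] at h2
    rw [el_split S n hv hvn, ← mul_assoc u, zp_comm huz, mul_assoc _ u, mul_assoc, ← h2]
  have hA : S.act' u ≠ 1 := fun h => by
    obtain ⟨v, hv⟩ : ∃ v, bf v (toV p) = 1 := by
      have hall : ∀ P : V, P ≠ 0 → ∃ v, bf v P = 1 := by decide +kernel
      exact hall _ hP
    have := hX v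
    rw [h, act_one, eq_comm, XV_fix hP hR hne, hv] at this
    exact one_ne_zero this.1
  have hinv : S.act' (u * u) = 1 := ext_act fun v => by
    rw [S.act'_mul huz huz, act_mul, hX, hX, act_one]
    have hs : ∀ P R : V, qf P = 0 → qf R = 0 → bf P R = 0 → ∀ v, XV P R (XV P R v) = v := by
      intro P R _ _ hPR v
      simp only [XV, bf_add_left]
      have h1 : ∀ t, bf (sm t R) P = 0 := fun t => by
        rcases z2 t with rfl | rfl
        · rw [sm_zero, bf_zero_left]
        · rw [sm_one, bf_comm, hPR]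
      have h2 : ∀ t, bf (sm t P) P = 0 := fun t => by
        rcases z2 t with rfl | rfl
        · rw [sm_zero, bf_zero_left]
        · rw [sm_one, bf_self]
      have h3 : ∀ t, bf (sm t R) R = 0 := fun t => by
        rcases z2 t with rfl | rfl
        · rw [sm_zero, bf_zero_left]
        · rw [sm_one, bf_self]
      have h4 : ∀ t, bf (sm t P) R = 0 := fun t => by
        rcases z2 t with rfl | rfl
        · rw [sm_zero, bf_zero_left]
        · rw [sm_one, hPR]
      rw [h1, h2, h3, h4, add_zero, add_zero, add_zero, add_zero]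
      calc v + sm (bf v P) R + sm (bf v R) P + sm (bf v P) R + sm (bf v R) P
          = v + ((sm (bf v P) R + sm (bf v P) R) + (sm (bf v R) P + sm (bf v R) P)) := by abel
        _ = v := by rw [add_self_V, add_self_V, add_zero, add_zero]
    exact hs _ _ ((qN_zero_iff (by omega)).1 hpp) ((qN_zero_iff (by omega)).1 hqq)
      ((pN_zero_iff (by omega) (by omega)).1 hpq') v
  have huu : u * u = 1 ∨ u * u = z := by
    have hmem := (S.act'_one_iff (mul_z huz huz)).1 hinv
    refine S.F.vec_cases hmem ?_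
    -- `u` centralizes the fixed part, so `u * u` is orthogonal to everything
    obtain ⟨n, hn⟩ : ∃ n, n = S.F.vec (u * u) := ⟨_, rfl⟩
    have horth : ∀ v, bf n v = 0 := by
      intro v
      obtain ⟨x, hx, rfl⟩ := S.F.surj v
      have hx1 : u * x * u⁻¹ ∈ Q := S.h.conj_mem huz hx
      set d := u * x * u⁻¹ * x⁻¹ with hd
      have hdQ : d ∈ Q := Q.mul_mem hx1 (Q.inv_mem hx)
      have hdv : S.F.vec d = act (S.act' u) (S.F.vec x) + S.F.vec x := by
        rw [hd, S.F.vec_mul hx1 (Q.inv_mem hx), S.vec_conj huz hx, S.vec_inv hx]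
      have h2 : act (S.act' u) (act (S.act' u) (S.F.vec x)) = S.F.vec x := by
        rw [← act_mul, ← S.act'_mul huz huz, hinv, act_one]
      have hdfix : u * d * u⁻¹ = d := hfixv hdQ (by rw [hdv, act_add, h2, add_comm])
      have hdx : u * u * x * (u * u)⁻¹ = d * d * x := by
        calc u * u * x * (u * u)⁻¹ = u * (d * x) * u⁻¹ := by rw [hd]; group
          _ = (u * d * u⁻¹) * (u * x * u⁻¹) := by group
          _ = _ := by rw [hdfix, hd]; group
      rw [el_conj S hmem hx, ← hn, S.F.sq hdQ, hdv, hX] at hdx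
      have hq0' := zp_inj S hdx
      rw [hq0', XV]
      have hs : qf (S.F.vec x + sm (bf (S.F.vec x) (toV p)) (toV q) + sm (bf (S.F.vec x) (toV q)) (toV p) +
          S.F.vec x) = qf (sm (bf (S.F.vec x) (toV p)) (toV q) + sm (bf (S.F.vec x) (toV q)) (toV p)) := by
        congr 1
        rw [add_comm _ (S.F.vec x), ← add_assoc, ← add_assoc, add_self_V, zero_add]
      rw [hs, qf_add, bf_sm]
      have hsm : ∀ t, ∀ {P : V}, qf P = 0 → qf (sm t P) = 0 := fun t P hP' => by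
        rcases z2 t with rfl | rfl
        · rw [sm_zero]; decide
        · rw [sm_one, hP']
      rw [hsm _ ((qN_zero_iff (show q < 128 by omega)).1 hqq),
        hsm _ ((qN_zero_iff (show p < 128 by omega)).1 hpp), bf_comm (toV q),
        (pN_zero_iff (by omega) (by omega)).1 hpq', mul_zero, add_zero, add_zero]
    rw [← hn]
    have hall : ∀ n : V, (∀ v, bf n v = 0) → n = 0 := by decide +kernel
    exact hall n horth
  obtain ⟨c, k, m, hcz, hk, hk0, hm, hmz, hw, e, hB, hsq, hq'⟩ := square_form S huz hA huu 0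
    fun x hx hfix => by rw [bf_zero_left, zp_zero, one_mul]; exact hfixv hx hfix
  have hqw : qf (wof (S.act' m)) = 0 := by
    have h := hq' (act (S.act' c)⁻¹ f1)
    rw [← act_mul (S.act' c), mul_inv_cancel, act_one, y1_f1, one_mul, hX] at h
    rw [← h, XV]
    generalize act (S.act' c)⁻¹ f1 = v
    have h2 : v + sm (bf v (toV p)) (toV q) + sm (bf v (toV q)) (toV p) + v =
        sm (bf v (toV p)) (toV q) + sm (bf v (toV q)) (toV p) := by
      rw [add_comm _ v, ← add_assoc, ← add_assoc, add_self_V, zero_add]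
    have hsm : ∀ t, ∀ {P : V}, qf P = 0 → qf (sm t P) = 0 := fun t P hP' => by
      rcases z2 t with rfl | rfl
      · rw [sm_zero]; decide
      · rw [sm_one, hP']
    rw [h2, qf_add, bf_sm, hsm _ ((qN_zero_iff (show q < 128 by omega)).1 hqq),
      hsm _ ((qN_zero_iff (show p < 128 by omega)).1 hpp), bf_comm (toV q),
      (pN_zero_iff (by omega) (by omega)).1 hpq', mul_zero, add_zero, add_zero]
  rw [hqw, show qf 0 = 0 by decide, add_zero, zp_zero] at hsq
  have hkm : k * m * (k * m) = 1 := by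
    rw [← e]
    calc c * u * c⁻¹ * (c * u * c⁻¹) = c * (u * u) * c⁻¹ := by group
      _ = 1 := by rw [hsq]; group
  exact ((isConj_iff.2 ⟨c, e⟩).trans (S.conj_type_zero hk hk0 hm hmz hw hkm (hB.trans hqw))).symm

end Cfsg.Agent.SuzukiLocal.CZ
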