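import Cfsg.Agent.Lib.SuzukiLocal.CountModel
import Cfsg.Agent.Lib.SuzukiType.Classes

/-!
The action of `C(z)` on `Q`, read in the model of `CountModel`.
-/

set_option autoImplicit false
set_option maxRecDepth 20000
set_option synthInstance.maxSize 4096

namespace Cfsg.Agent.SuzukiLocal.CZ

open Subgroup Cfsg.Agent.SuzukiType Cfsg.Agent.OctadInv.Orbits

/-! ### Numbers -/

theorem bz_xor (a b i : ℕ) : bz (a ^^^ b) i = bz a i + bz b i := by
  simp only [bz, Nat.testBit_xor]
  cases a.testBit i <;> cases b.testBit i <;> decide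

theorem bz_shift_low (k : ℕ) {i : ℕ} (hi : i < 6) : bz (k <<< 6) i = 0 := by
  simp [bz, Nat.testBit_shiftLeft, show ¬ 6 ≤ i by omega]

theorem bz_shift_six : ∀ k < 2, bz (k <<< 6) 6 = (k : ZMod 2) := by decide

theorem toV_xor (a b : ℕ) : toV (a ^^^ b) = toV a + toV b := by
  rw [eq_iff_coord]
  simp only [x1_add, y1_add, x2_add, y2_add, za_add, zb_add]
  exact ⟨bz_xor a b 0, bz_xor a b 1, bz_xor a b 2, bz_xor a b 3, bz_xor a b 4, bz_xor a b 5⟩

theorem toV_shift (k : ℕ) : toV (k <<< 6) = 0 := by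
  simp only [toV, bz_shift_low k (show 0 < 6 by omega), bz_shift_low k (show 1 < 6 by omega),
    bz_shift_low k (show 2 < 6 by omega), bz_shift_low k (show 3 < 6 by omega),
    bz_shift_low k (show 4 < 6 by omega), bz_shift_low k (show 5 < 6 by omega)]
  decide

theorem bN_cast : ∀ a < 128, ∀ b < 128, bN a b < 2 ∧ (bN a b : ZMod 2) = bV (toV a) (toV b) := by
  decide +kernel

theorem bV_polar : ∀ v w : V, bV v w + bV w v = bf v w := by decide +kernel

theorem bV_zero_left : ∀ w : V, bV 0 w = 0 := by decide +kernel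

theorem xor_cast : ∀ a < 2, ∀ b < 2, a ^^^ b < 2 ∧ ((a ^^^ b : ℕ) : ZMod 2) = a + b := by decide

theorem pN_cast {a b : ℕ} (ha : a < 128) (hb : b < 128) :
    pN a b < 2 ∧ (pN a b : ZMod 2) = bf (toV a) (toV b) := by
  obtain ⟨h1, h2⟩ := bN_cast a ha b hb
  obtain ⟨h3, h4⟩ := bN_cast b hb a ha
  obtain ⟨h5, h6⟩ := xor_cast _ h1 _ h3
  exact ⟨h5, by rw [pN, h6, h2, h4, bV_polar]⟩

theorem nat_bit : ∀ k : ℕ, k < 2 → ((k : ZMod 2) = 0 ↔ k = 0) ∧ ((k : ZMod 2) = 1 ↔ k = 1) := by decide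

theorem bV_self : ∀ v : V, bV v v = qf v := by decide +kernel

theorem qN_cast {a : ℕ} (ha : a < 128) : qN a < 2 ∧ (qN a : ZMod 2) = qf (toV a) := by
  obtain ⟨h1, h2⟩ := bN_cast a ha a ha
  exact ⟨h1, by rw [qN, h2, bV_self]⟩

theorem pN_zero_iff {a b : ℕ} (ha : a < 128) (hb : b < 128) : pN a b = 0 ↔ bf (toV a) (toV b) = 0 := by
  rw [← (pN_cast ha hb).2, (nat_bit _ (pN_cast ha hb).1).1]

theorem qN_zero_iff {a : ℕ} (ha : a < 128) : qN a = 0 ↔ qf (toV a) = 0 := by
  rw [← (qN_cast ha).2, (nat_bit _ (qN_cast ha).1).1]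

theorem shift_lt : ∀ k : ℕ, k < 2 → k <<< 6 < 128 := by decide

theorem qm_lt {a b : ℕ} (ha : a < 128) (hb : b < 128) : qm a b < 128 :=
  Nat.xor_lt_two_pow (n := 7) (Nat.xor_lt_two_pow (n := 7) ha hb) (shift_lt _ (bN_cast a ha b hb).1)

theorem toV_qm (a b : ℕ) : toV (qm a b) = toV a + toV b := by
  rw [qm, toV_xor, toV_xor, toV_shift, add_zero]

theorem bz_qm {a b : ℕ} (ha : a < 128) (hb : b < 128) :
    bz (qm a b) 6 = bz a 6 + bz b 6 + bV (toV a) (toV b) := by
  rw [qm, bz_xor, bz_xor, bz_shift_six _ (bN_cast a ha b hb).1, (bN_cast a ha b hb).2]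

theorem eq_of_parts {a b : ℕ} (ha : a < 128) (hb : b < 128) (h1 : toV a = toV b) (h2 : bz a 6 = bz b 6) :
    a = b := by
  rw [← ofN_self a ha, ← ofN_self b hb, h1, h2]

theorem bz_six_small : ∀ n < 64, bz n 6 = 0 := by decide

theorem eq_of_toV {a b : ℕ} (ha : a < 64) (hb : b < 64) (h : toV a = toV b) : a = b :=
  eq_of_parts (by omega) (by omega) h (by rw [bz_six_small a ha, bz_six_small b hb])

theorem exists_num (v : V) : ∃ n < 64, toV n = v := ⟨ofN 0 v, ofN_small v, (ofN_spec 0 v).2.2⟩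

theorem getD_range (f : ℕ → ℕ) {i : ℕ} (hi : i < 6) : ((List.range 6).map f).getD i 0 = f i := by
  simp [List.getD, hi]

theorem pow_lt {i : ℕ} (hi : i < 6) : 2 ^ i < 64 :=
  Nat.pow_lt_pow_right (by norm_num) (show i < 6 from hi)

theorem pe_lt {h : List ℕ} (hh : ∀ i < 6, h.getD i 0 < 128) (n : ℕ) : pe h n < 128 := by
  unfold pe
  suffices H : ∀ (l : List ℕ), (∀ i ∈ l, i < 6) → ∀ r < 128,
      l.foldl (fun r i => if n.testBit i then qm r (h.getD i 0) else r) r < 128 from
    H _ (fun i hi => List.mem_range.1 hi) 0 (by norm_num)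
  intro l
  induction l with
  | nil => exact fun _ r hr => hr
  | cons i l ih =>
    intro hl r hr
    rw [List.foldl_cons]
    refine ih (fun j hj => hl j (List.mem_cons_of_mem _ hj)) _ ?_
    split_ifs
    · exact qm_lt hr (hh i (hl i List.mem_cons_self))
    · exact hr

theorem toV_lin (h : List ℕ) (n : ℕ) : toV (lin h n) = toV (pe h n) := by
  unfold lin pe
  suffices H : ∀ (l : List ℕ) (r r' : ℕ), toV r = toV r' →
      toV (l.foldl (fun r i => if n.testBit i then r ^^^ (h.getD i 0 &&& 63) else r) r) =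
      toV (l.foldl (fun r i => if n.testBit i then qm r (h.getD i 0) else r) r') from
    H _ 0 0 rfl
  intro l
  induction l with
  | nil => exact fun r r' e => e
  | cons i l ih =>
    intro r r' e
    rw [List.foldl_cons, List.foldl_cons]
    refine ih _ _ ?_
    split_ifs
    · rw [toV_xor, toV_qm, e]
      congr 1
      simp [toV, bz, Nat.testBit_and,  show (63 : ℕ).testBit 1 = true by decide, show (63 : ℕ).testBit 2 = true by decide,
        show (63 : ℕ).testBit 3 = true by decide, show (63 : ℕ).testBit 4 = true by decide,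
        show (63 : ℕ).testBit 5 = true by decide]
    · exact e

theorem lin_lt (h : List ℕ) (n : ℕ) : lin h n < 64 := by
  unfold lin
  suffices H : ∀ (l : List ℕ), ∀ r < 64,
      l.foldl (fun r i => if n.testBit i then r ^^^ (h.getD i 0 &&& 63) else r) r < 64 from
    H _ 0 (by norm_num)
  intro l
  induction l with
  | nil => exact fun r hr => hr
  | cons i l ih =>
    intro r hr
    rw [List.foldl_cons]
    refine ih _ ?_
    split_ifs
    · exact Nat.xor_lt_two_pow (n := 6) hr (Nat.lt_succ_of_le (Nat.and_le_right))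
    · exact hr

theorem sm_add_s (s t : ZMod 2) (v : V) : sm (s + t) v = sm s v + sm t v := by
  rw [sm_eq, sm_eq, sm_eq, add_smul]

theorem bf_sm (s t : ZMod 2) (v w : V) : bf (sm s v) (sm t w) = s * t * bf v w := by
  rcases z2 s with rfl | rfl <;> rcases z2 t with rfl | rfl <;>
    simp [sm_zero, sm_one, bf_zero_left, bf_zero_right]

/-! ### The section -/

variable {G : Type*} [Group G]
variable {Q Q' : Subgroup G} {z a : G} (S : St Q Q' z a)

/-- A chosen element with the given vector. -/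
noncomputable def bas (v : V) : G := Classical.choose (S.F.surj v)

theorem bas_mem (v : V) : bas S v ∈ Q := (Classical.choose_spec (S.F.surj v)).1

theorem bas_vec (v : V) : S.F.vec (bas S v) = v := (Classical.choose_spec (S.F.surj v)).2

/-- The ordered product of basis elements. -/
noncomputable def sec (v : V) : G :=
  zp (bas S f1) (y1 v) * zp a (x1 v) * (zp (bas S h2) (y2 v) * zp (bas S h1) (x2 v)) *
    (zp (bas S w0) (zb v) * zp (bas S k0) (za v))

/-- The element of a number. -/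
noncomputable def el (n : ℕ) : G := zp z (bz n 6) * sec S (toV n)

theorem zpx_mem {x : G} (hx : x ∈ Q) (t : ZMod 2) : zp x t ∈ Q := Q.pow_mem hx _

theorem zpx_vec {x : G} (hx : x ∈ Q) (t : ZMod 2) : S.F.vec (zp x t) = sm t (S.F.vec x) := by
  rcases z2 t with rfl | rfl
  · rw [zp_zero, S.F.vec_one, sm_zero]
  · rw [zp_one, sm_one]

theorem zpx_mul {x : G} (hx : x ∈ Q) (s t : ZMod 2) :
    zp x s * zp x t = zp z (s * t * qf (S.F.vec x)) * zp x (s + t) := by
  rcases z2 s with rfl | rfl <;> rcases z2 t with rfl | rfl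
  · simp [zp_zero]
  · simp [zp_zero]
  · simp [zp_zero]
  · rw [show (1 : ZMod 2) + 1 = 0 from rfl, zp_zero, zp_one, mul_one, one_mul, one_mul, S.F.sq hx]

include S in
theorem zc {x : G} (hx : x ∈ Q) (t : ZMod 2) (y : G) : x * (zp z t * y) = zp z t * (x * y) := by
  rw [← mul_assoc, zp_comm (S.qz hx), mul_assoc]

include S in
theorem zz_mul (s t : ZMod 2) (y : G) : zp z s * (zp z t * y) = zp z (s + t) * y := by
  rw [← mul_assoc, ← zp_add S.h.zz]

include S in
theorem triple {A B : G} (hA : A ∈ Q) (hB : B ∈ Q) (r s t : ZMod 2) (C : G) :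
    zp z r * A * (zp z s * B * (zp z t * C)) = zp z (r + s + t) * (A * B * C) := by
  rw [mul_assoc (zp z s), zc S hB, zz_mul S, mul_assoc (zp z r), zc S hA, zz_mul S, ← mul_assoc A,
    add_assoc]

theorem pair_mem' {p q : G} (hp : p ∈ Q) (hq : q ∈ Q) (s t : ZMod 2) : zp q s * zp p t ∈ Q :=
  Q.mul_mem (zpx_mem hq s) (zpx_mem hp t)

theorem pair_vec {p q : G} (hp : p ∈ Q) (hq : q ∈ Q) (s t : ZMod 2) :
    S.F.vec (zp q s * zp p t) = sm s (S.F.vec q) + sm t (S.F.vec p) := by
  rw [S.F.vec_mul (zpx_mem hq s) (zpx_mem hp t), zpx_vec S hq, zpx_vec S hp]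

theorem pair_mul {p q : G} (hp : p ∈ Q) (hq : q ∈ Q) (hb : bf (S.F.vec p) (S.F.vec q) = 1)
    (a1 b1 a2 b2 : ZMod 2) :
    zp q b1 * zp p a1 * (zp q b2 * zp p a2) =
      zp z (a1 * b2 + b1 * b2 * qf (S.F.vec q) + a1 * a2 * qf (S.F.vec p)) *
        (zp q (b1 + b2) * zp p (a1 + a2)) := by
  have hpm := zpx_mem hp a1
  have hqm := zpx_mem hq b2
  have hsw : zp p a1 * zp q b2 = zp z (a1 * b2) * (zp q b2 * zp p a1) := by
    rw [S.F.comm hpm hqm, zpx_vec S hp, zpx_vec S hq, bf_sm, hb, mul_one]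
  calc zp q b1 * zp p a1 * (zp q b2 * zp p a2)
      = zp q b1 * (zp p a1 * zp q b2) * zp p a2 := by group
    _ = zp q b1 * (zp z (a1 * b2) * (zp q b2 * zp p a1)) * zp p a2 := by rw [hsw]
    _ = zp z (a1 * b2) * (zp q b1 * zp q b2 * (zp p a1 * zp p a2)) := by
        rw [zc S (zpx_mem hq b1)]; group
    _ = zp z (a1 * b2) * (zp z (b1 * b2 * qf (S.F.vec q)) * (zp q (b1 + b2) *
          (zp z (a1 * a2 * qf (S.F.vec p)) * zp p (a1 + a2)))) := by
        rw [zpx_mul S hq, zpx_mul S hp]; group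
    _ = _ := by rw [zc S (zpx_mem hq _), zz_mul S, zz_mul S, add_assoc]

theorem sec_vec_aux : ∀ v : V,
    sm (y1 v) f1 + sm (x1 v) e1 + (sm (y2 v) h2 + sm (x2 v) h1) + (sm (zb v) w0 + sm (za v) k0) = v := by
  decide +kernel

theorem orth_pairs : ∀ s t s' t' : ZMod 2,
    bf (sm s h2 + sm t h1) (sm s' f1 + sm t' e1) = 0 ∧ bf (sm s w0 + sm t k0) (sm s' f1 + sm t' e1) = 0 ∧
      bf (sm s w0 + sm t k0) (sm s' h2 + sm t' h1) = 0 := by decide

theorem sec_mem (v : V) : sec S v ∈ Q :=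
  Q.mul_mem (Q.mul_mem (pair_mem' S.mem_a (bas_mem S f1) _ _) (pair_mem' (bas_mem S h1) (bas_mem S h2) _ _))
    (pair_mem' (bas_mem S k0) (bas_mem S w0) _ _)

theorem sec_vec (v : V) : S.F.vec (sec S v) = v := by
  rw [sec, S.F.vec_mul (Q.mul_mem (pair_mem' S.mem_a (bas_mem S f1) _ _)
      (pair_mem' (bas_mem S h1) (bas_mem S h2) _ _)) (pair_mem' (bas_mem S k0) (bas_mem S w0) _ _),
    S.F.vec_mul (pair_mem' S.mem_a (bas_mem S f1) _ _) (pair_mem' (bas_mem S h1) (bas_mem S h2) _ _),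
    pair_vec S S.mem_a (bas_mem S f1), pair_vec S (bas_mem S h1) (bas_mem S h2),
    pair_vec S (bas_mem S k0) (bas_mem S w0), bas_vec, bas_vec, bas_vec, bas_vec, bas_vec, S.F.vec_a]
  exact sec_vec_aux v

theorem sec_zero : sec S 0 = 1 := by
  rw [sec, show x1 0 = 0 from rfl, show y1 0 = 0 from rfl, show x2 0 = 0 from rfl, show y2 0 = 0 from rfl,
    show za 0 = 0 from rfl, show zb 0 = 0 from rfl]
  simp [zp_zero]

theorem sec_mul (v w : V) : sec S v * sec S w = zp z (bV v w) * sec S (v + w) := by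
  have hb : ∀ v, bas S v ∈ Q := bas_mem S
  set A1 := zp (bas S f1) (y1 v) * zp a (x1 v) with hA1
  set B1 := zp (bas S h2) (y2 v) * zp (bas S h1) (x2 v) with hB1
  set C1 := zp (bas S w0) (zb v) * zp (bas S k0) (za v) with hC1
  set A2 := zp (bas S f1) (y1 w) * zp a (x1 w) with hA2
  set B2 := zp (bas S h2) (y2 w) * zp (bas S h1) (x2 w) with hB2
  set C2 := zp (bas S w0) (zb w) * zp (bas S k0) (za w) with hC2
  have mA : A2 ∈ Q := pair_mem' S.mem_a (hb _) _ _
  have mB1 : B1 ∈ Q := pair_mem' (hb _) (hb _) _ _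
  have mC1 : C1 ∈ Q := pair_mem' (hb _) (hb _) _ _
  have mB2 : B2 ∈ Q := pair_mem' (hb _) (hb _) _ _
  have e1' : C1 * A2 = A2 * C1 := (S.comm_iff mC1 mA).2 (by
    rw [hC1, hA2, pair_vec S (hb _) (hb _), pair_vec S S.mem_a (hb _), bas_vec, bas_vec, bas_vec, S.F.vec_a]
    exact (orth_pairs _ _ _ _).2.1)
  have e2' : B1 * A2 = A2 * B1 := (S.comm_iff mB1 mA).2 (by
    rw [hB1, hA2, pair_vec S (hb _) (hb _), pair_vec S S.mem_a (hb _), bas_vec, bas_vec, bas_vec, S.F.vec_a]
    exact (orth_pairs _ _ _ _).1)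
  have e3' : C1 * B2 = B2 * C1 := (S.comm_iff mC1 mB2).2 (by
    rw [hC1, hB2, pair_vec S (hb _) (hb _), pair_vec S (hb _) (hb _), bas_vec, bas_vec, bas_vec, bas_vec]
    exact (orth_pairs _ _ _ _).2.2)
  calc sec S v * sec S w = A1 * B1 * (C1 * A2) * B2 * C2 := by
        rw [sec, sec, ← hA1, ← hB1, ← hC1, ← hA2, ← hB2, ← hC2]; group
    _ = A1 * (B1 * A2) * (C1 * B2) * C2 := by rw [e1']; group
    _ = (A1 * A2) * ((B1 * B2) * (C1 * C2)) := by rw [e2', e3']; group
    _ = _ := by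
      rw [hA1, hA2, pair_mul S S.mem_a (hb _) (by rw [S.F.vec_a, bas_vec]; decide),
        hB1, hB2, pair_mul S (hb _) (hb _) (by rw [bas_vec, bas_vec]; decide),
        hC1, hC2, pair_mul S (hb _) (hb _) (by rw [bas_vec, bas_vec]; decide),
        bas_vec, bas_vec, bas_vec, bas_vec, bas_vec, S.F.vec_a,
        show qf e1 = 0 by decide, show qf f1 = 0 by decide, show qf h1 = 0 by decide,
        show qf h2 = 0 by decide, show qf k0 = 1 by decide, show qf w0 = 1 by decide,
        triple S (pair_mem' S.mem_a (hb _) _ _) (pair_mem' (hb _) (hb _) _ _)]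
      unfold sec
      rw [x1_add, y1_add, x2_add, y2_add, za_add, zb_add, bV]
      congr 2
      ring

theorem el_mem (n : ℕ) : el S n ∈ Q := Q.mul_mem (S.zp_mem _) (sec_mem S _)

theorem el_vec (n : ℕ) : S.F.vec (el S n) = toV n := by
  rw [el, S.F.vec_mul (S.zp_mem _) (sec_mem S _), S.vec_zp, sec_vec, zero_add]

theorem el_zero : el S 0 = 1 := by
  rw [el, show bz 0 6 = 0 from rfl, show toV 0 = 0 by decide, sec_zero, zp_zero, one_mul]

theorem el_64 : el S 64 = z := by
  rw [el, show bz 64 6 = 1 from rfl, show toV 64 = 0 by decide, sec_zero, zp_one, mul_one]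

theorem el_qm {m n : ℕ} (hm : m < 128) (hn : n < 128) : el S (qm m n) = el S m * el S n := by
  rw [el, el, el, toV_qm, bz_qm hm hn, mul_assoc, zc S (sec_mem S _), zz_mul S, sec_mul, zz_mul S]

theorem el_inj {m n : ℕ} (hm : m < 128) (hn : n < 128) (h : el S m = el S n) : m = n := by
  have hv : toV m = toV n := by rw [← el_vec S m, h, el_vec]
  refine eq_of_parts hm hn hv ?_
  rw [el, el, hv] at h
  have h' := mul_right_cancel h
  have h2 : zp z (bz m 6 + bz n 6) = 1 := by
    rw [zp_add S.h.zz, h', ← zp_add S.h.zz, CharTwo.add_self_eq_zero, zp_zero]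
  have := (zp_eq_one_iff S.h.ne_one).1 h2
  exact (CharTwo.add_eq_zero).1 this

theorem el_surj {x : G} (hx : x ∈ Q) : ∃ n < 128, el S n = x := by
  have h1 : x * (sec S (S.F.vec x))⁻¹ ∈ Q := Q.mul_mem hx (Q.inv_mem (sec_mem S _))
  have h2 : S.F.vec (x * (sec S (S.F.vec x))⁻¹) = 0 := by
    rw [S.F.vec_mul hx (Q.inv_mem (sec_mem S _)), S.vec_inv (sec_mem S _), sec_vec, add_self_V]
  obtain ⟨s, hs⟩ : ∃ s, x * (sec S (S.F.vec x))⁻¹ = zp z s := by
    rcases S.F.vec_cases h1 h2 with e | e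
    · exact ⟨0, by rw [e, zp_zero]⟩
    · exact ⟨1, by rw [e, zp_one]⟩
  obtain ⟨h3, h4, h5⟩ := ofN_spec s (S.F.vec x)
  exact ⟨ofN s (S.F.vec x), h3, by rw [el, h4, h5, ← hs, inv_mul_cancel_right]⟩

theorem el_shift {k : ℕ} (hk : k < 2) {n : ℕ} (hn : n < 128) :
    el S (qm (k <<< 6) n) = zp z (k : ZMod 2) * el S n := by
  rw [el_qm S (shift_lt k hk) hn]
  congr 1
  rw [el, bz_shift_six k hk, toV_shift, sec_zero, mul_one]

/-! ### Codes -/

/-- The number of an element. -/
noncomputable def idx (x : G) : ℕ :=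
  haveI := _root_.Classical.propDecidable (x ∈ Q)
  if hx : x ∈ Q then Classical.choose (el_surj S hx) else 0

theorem idx_lt (x : G) : idx S x < 128 := by
  unfold idx
  split_ifs with hx
  · exact (Classical.choose_spec (el_surj S hx)).1
  · norm_num

theorem el_idx {x : G} (hx : x ∈ Q) : el S (idx S x) = x := by
  unfold idx
  rw [dif_pos hx]
  exact (Classical.choose_spec (el_surj S hx)).2

/-- The code of an element of `C(z)`. -/
noncomputable def code (c : G) : List ℕ := (List.range 6).map fun i => idx S (c * el S (2 ^ i) * c⁻¹)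

theorem code_spec {c : G} (hc : c * z = z * c) {i : ℕ} (hi : i < 6) :
    (code S c).getD i 0 < 128 ∧ el S ((code S c).getD i 0) = c * el S (2 ^ i) * c⁻¹ := by
  rw [code, getD_range _ hi]
  exact ⟨idx_lt S _, el_idx S (S.h.conj_mem hc (el_mem S _))⟩

theorem code_eq {c : G} (hc : c * z = z * c) (f : ℕ → ℕ)
    (h : ∀ i < 6, f i < 128 ∧ el S (f i) = c * el S (2 ^ i) * c⁻¹) : code S c = (List.range 6).map f := by
  refine List.map_congr_left fun i hi => ?_
  rw [List.mem_range] at hi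
  exact el_inj S (idx_lt S _) (h i hi).1 (by rw [el_idx S (S.h.conj_mem hc (el_mem S _)), (h i hi).2])

theorem img_lt {h : List ℕ} (hh : ∀ i < 6, h.getD i 0 < 128) {n : ℕ} (hn : n < 128) : img h n < 128 :=
  qm_lt ((expand n hn).2.elim (fun e => by rw [e]; norm_num) fun e => by rw [e]; norm_num) (pe_lt hh n)

/-- The action of an element on every element of `Q`. -/
theorem conj_el {c : G} (hc : c * z = z * c) {n : ℕ} (hn : n < 128) :
    img (code S c) n < 128 ∧ el S (img (code S c) n) = c * el S n * c⁻¹ := by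
  have hh : ∀ i < 6, (code S c).getD i 0 < 128 := fun i hi => (code_spec S hc hi).1
  refine ⟨img_lt hh hn, ?_⟩
  obtain ⟨he, hcorr⟩ := expand n hn
  have hcl : corr n < 128 := by rcases hcorr with e | e <;> omega
  have hid : ∀ i < 6, idC.getD i 0 = 2 ^ i := by decide
  have hidl : ∀ i < 6, idC.getD i 0 < 128 := by decide
  have key : el S (pe (code S c) n) = c * el S (pe idC n) * c⁻¹ := by
    suffices H : ∀ (l : List ℕ), (∀ i ∈ l, i < 6) → ∀ r < 128, ∀ r' < 128, el S r' = c * el S r * c⁻¹ →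
        el S (l.foldl (fun r i => if n.testBit i then qm r ((code S c).getD i 0) else r) r') =
          c * el S (l.foldl (fun r i => if n.testBit i then qm r (idC.getD i 0) else r) r) * c⁻¹ from
      H _ (fun i hi => List.mem_range.1 hi) 0 (by norm_num) 0 (by norm_num) (by rw [el_zero]; group)
    intro l
    induction l with
    | nil => exact fun _ r _ r' _ e => e
    | cons i l ih =>
      intro hl r hr r' hr' e
      have hi := hl i List.mem_cons_self
      rw [List.foldl_cons, List.foldl_cons]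
      by_cases hb : n.testBit i
      · rw [if_pos hb, if_pos hb]
        refine ih (fun j hj => hl j (List.mem_cons_of_mem _ hj)) _ (qm_lt hr (hidl i hi)) _
          (qm_lt hr' (hh i hi)) ?_
        rw [el_qm S hr' (hh i hi), el_qm S hr (hidl i hi), e, (code_spec S hc hi).2, hid i hi]
        group
      · rw [if_neg hb, if_neg hb]
        exact ih (fun j hj => hl j (List.mem_cons_of_mem _ hj)) _ hr _ hr' e
  have hz0 : el S (corr n) = c * el S (corr n) * c⁻¹ := by
    rcases hcorr with e | e <;> rw [e]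
    · rw [el_zero]; group
    · rw [el_64, hc, mul_inv_cancel_right]
  conv_rhs => rw [← he, el_qm S hcl (pe_lt hidl n)]
  rw [img, el_qm S hcl (pe_lt hh n), key]
  calc el S (corr n) * (c * el S (pe idC n) * c⁻¹)
      = c * el S (corr n) * c⁻¹ * (c * el S (pe idC n) * c⁻¹) := by rw [← hz0]
    _ = _ := by group

theorem code_mul {c d : G} (hc : c * z = z * c) (hd : d * z = z * d) :
    code S (c * d) = mulC (code S c) (code S d) := by
  have hcd : c * d * z = z * (c * d) := mul_z hc hd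
  rw [show mulC (code S c) (code S d) =
    (List.range 6).map fun i => img (code S c) ((code S d).getD i 0) by
      rw [mulC]; conv_lhs => arg 2; rw [code]
      rw [List.map_map]
      refine List.map_congr_left fun i hi => ?_
      rw [Function.comp_apply, show (code S d).getD i 0 = _ from getD_range _ (List.mem_range.1 hi)]]
  refine code_eq S hcd _ fun i hi => ?_
  obtain ⟨h1, h2⟩ := conj_el S hc (code_spec S hd hi).1
  exact ⟨h1, by rw [h2, (code_spec S hd hi).2]; group⟩

theorem code_one : code S 1 = idC := by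
  rw [code_eq S (show 1 * z = z * 1 by rw [one_mul, mul_one]) (fun i => 2 ^ i)
    (fun i hi => ⟨by have := pow_lt hi; omega, by group⟩)]
  rfl

theorem code_pow {c : G} (hc : c * z = z * c) (n : ℕ) : code S (c ^ n) = powC (code S c) n := by
  induction n with
  | zero => rw [pow_zero]; exact code_one S
  | succ n ih =>
    rw [pow_succ, code_mul S ((show Commute c z from hc).pow_left n).eq hc, ih]
    rfl

/-- The code determines the element up to `z`. -/
theorem code_inj [Finite G] {c d : G} (hc : c * z = z * c) (hd : d * z = z * d)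
    (h : code S c = code S d) : d = c ∨ d = c * z := by
  have hi := inv_z hc
  have hx : code S (c⁻¹ * d) = idC := by
    rw [code_mul S hi hd, ← h, ← code_mul S hi hc, inv_mul_cancel, code_one]
  have hxz : c⁻¹ * d * z = z * (c⁻¹ * d) := mul_z hi hd
  have hmem : c⁻¹ * d ∈ centralizer (Q : Set G) := by
    rw [mem_centralizer_iff]
    intro y hy
    obtain ⟨n, hn, rfl⟩ := el_surj S hy
    have h1 := (conj_el S hxz hn).2
    rw [hx, img, (expand n hn).1] at h1
    exact mul_inv_eq_iff_eq_mul.1 h1.symm |>.symm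
  rw [S.h.cent] at hmem
  rcases S.h.mem_zpowers_cases hmem with e | e
  · exact Or.inl (inv_mul_eq_one.1 e).symm
  · exact Or.inr (inv_mul_eq_iff_eq_mul.1 e)

theorem code_mul_z (c : G) : code S (c * z) = code S c := by
  refine List.map_congr_left fun i _ => ?_
  congr 1
  calc c * z * el S (2 ^ i) * (c * z)⁻¹ = c * (z * el S (2 ^ i) * z⁻¹) * c⁻¹ := by group
    _ = _ := by rw [← S.qz (el_mem S _), mul_inv_cancel_right]

theorem el_conj {x y : G} (hx : x ∈ Q) (hy : y ∈ Q) :
    x * y * x⁻¹ = zp z (bf (S.F.vec x) (S.F.vec y)) * y := by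
  rw [S.F.comm hx hy]; group

theorem code_el {v : ℕ} (hv : v < 128) : code S (el S v) = innC v := by
  refine code_eq S (S.qz (el_mem S v)) _ fun i hi => ?_
  have hp : 2 ^ i < 128 := by have := pow_lt hi; omega
  obtain ⟨h1, h2⟩ := pN_cast hv hp
  refine ⟨qm_lt (shift_lt _ h1) hp, ?_⟩
  rw [el_shift S h1 hp, h2, el_conj S (el_mem S v) (el_mem S _), el_vec, el_vec]

theorem act_lin {c : G} (hc : c * z = z * c) {n : ℕ} (hn : n < 128) :
    act (S.act' c) (toV n) = toV (lin (code S c) n) := by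
  obtain ⟨-, h2⟩ := conj_el S hc hn
  have h3 := congrArg S.F.vec h2
  rw [el_vec, S.vec_conj hc (el_mem S n), el_vec] at h3
  rw [← h3, toV_lin, img, toV_qm]
  rcases (expand n hn).2 with e | e <;> rw [e]
  · rw [show toV 0 = 0 by decide, zero_add]
  · rw [show toV 64 = 0 by decide, zero_add]

theorem code_m [Finite G] {m : G} (hm : m ∈ Q') (hmz : m * z = z * m) (hw : wof (S.act' m) = w0) :
    ∃ ff < 2, code S m = mC ff := by
  have h1 : m * el S 2 * m⁻¹ ∈ Q := S.h.conj_mem hmz (el_mem S 2)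
  obtain ⟨n, hn, hne⟩ := el_surj S h1
  have hv : toV n = toV 35 := by
    rw [← el_vec S n, hne, S.vec_conj hmz (el_mem S 2), el_vec, (S.inRad hm hmz).act_eq, hw]
    decide +kernel
  have hpat : ∀ n < 128, toV n = toV 35 → n = 35 ^^^ (bn n 6 <<< 6) ∧ bn n 6 < 2 := by decide +kernel
  obtain ⟨hn', hff⟩ := hpat n hn hv
  refine ⟨bn n 6, hff, ?_⟩
  refine code_eq S hmz _ fun i hi => ?_
  by_cases hi1 : i = 1
  · subst hi1
    rw [if_pos rfl, ← hn']
    exact ⟨hn, hne⟩
  · rw [if_neg hi1]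
    have hp : 2 ^ i < 128 := by have := pow_lt hi; omega
    obtain ⟨h2, h3⟩ := pN_cast (a := 32) (by norm_num) hp
    have hB : pN 32 (2 ^ i) < 128 := by omega
    have h0 : y1 (toV (2 ^ i)) = 0 := by
      have hall : ∀ i < 6, i ≠ 1 → y1 (toV (2 ^ i)) = 0 := by decide
      exact hall i hi hi1
    refine ⟨qm_lt (qm_lt (shift_lt _ h2) hB) hp, ?_⟩
    have h4 := S.m_comm hm hmz (el_mem S (2 ^ i)) (by rw [el_vec]; exact h0)
    rw [hw, el_vec, show w0 = toV 32 by decide, ← h3] at h4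
    have hela : el S (pN 32 (2 ^ i)) = zp a ((pN 32 (2 ^ i) : ℕ) : ZMod 2) := by
      rcases (show pN 32 (2 ^ i) = 0 ∨ pN 32 (2 ^ i) = 1 by omega) with e | e <;> rw [e]
      · rw [el_zero, Nat.cast_zero, zp_zero]
      · rw [Nat.cast_one, el, show bz 1 6 = 0 from rfl, zp_zero, one_mul, sec]
        have hco : y1 (toV 1) = 0 ∧ x1 (toV 1) = 1 ∧ y2 (toV 1) = 0 ∧ x2 (toV 1) = 0 ∧ zb (toV 1) = 0 ∧
            za (toV 1) = 0 := by decide
        obtain ⟨c1, c2, c3, c4, c5, c6⟩ := hco
        simp [c1, c2, c3, c4, c5, c6, zp_zero]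
    rw [el_qm S (qm_lt (shift_lt _ h2) hB) hp, el_shift S h2 hB, hela, h4]
    group

end Cfsg.Agent.SuzukiLocal.CZ
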