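import Cfsg.Agent.Lib.SuzukiLocal.CountModel

/-!
The table for the count of conjugates of `z`, with the exponent, the value of `κ` and the decision.
-/

set_option autoImplicit false
set_option maxRecDepth 20000

namespace Cfsg.Agent.SuzukiLocal.CZ

def rows0_0 : List Row := [
  ([1, 66, 4, 8, 16, 32], 2, 16, false),
  ([65, 2, 4, 8, 16, 32], 2, 0, true),
  ([1, 2, 4, 72, 16, 32], 2, 20, false),
  ([1, 66, 4, 72, 16, 32], 2, 20, false),
  ([65, 2, 4, 72, 16, 32], 2, 0, true),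
  ([1, 2, 68, 8, 16, 32], 2, 24, false),
  ([1, 66, 68, 8, 16, 32], 2, 24, false),
  ([65, 2, 68, 8, 16, 32], 2, 0, true),
  ([65, 66, 68, 72, 16, 32], 2, 0, true),
  ([65, 66, 4, 8, 16, 96], 2, 0, true),
  ([65, 66, 4, 72, 16, 96], 2, 0, true),
  ([65, 66, 68, 8, 16, 96], 2, 0, true),
  ([1, 2, 68, 72, 16, 96], 2, 0, false),
  ([1, 66, 68, 72, 16, 96], 2, 0, false),
  ([65, 2, 68, 72, 16, 96], 2, 0, true),
  ([65, 66, 4, 8, 80, 32], 2, 0, true),
  ([65, 66, 4, 72, 80, 32], 2, 0, true),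
  ([65, 66, 68, 8, 80, 32], 2, 0, true),
  ([1, 2, 68, 72, 80, 32], 2, 28, true),
  ([1, 66, 68, 72, 80, 32], 2, 28, true),
  ([65, 2, 68, 72, 80, 32], 2, 0, true),
  ([65, 66, 4, 8, 80, 96], 2, 0, true),
  ([65, 66, 4, 72, 80, 96], 2, 0, true)]

theorem rows0_0_ok : rows0_0.all (rowOK 0) = true := by decide +kernel

def rows0_1 : List Row := [
  ([65, 66, 68, 8, 80, 96], 2, 0, true),
  ([1, 2, 68, 72, 80, 96], 2, 0, false),
  ([1, 66, 68, 72, 80, 96], 2, 0, false),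
  ([65, 2, 68, 72, 80, 96], 2, 0, true),
  ([1, 6, 4, 9, 16, 32], 2, 20, false),
  ([1, 70, 4, 9, 16, 32], 2, 20, false),
  ([1, 6, 4, 73, 16, 32], 2, 16, false),
  ([1, 70, 4, 73, 16, 32], 2, 16, false),
  ([1, 10, 5, 8, 16, 32], 2, 24, false),
  ([1, 74, 5, 8, 16, 32], 2, 24, false),
  ([1, 10, 69, 8, 16, 32], 2, 16, false),
  ([1, 74, 69, 8, 16, 32], 2, 16, false),
  ([1, 30, 5, 9, 16, 33], 2, 12, true),
  ([1, 94, 5, 9, 16, 33], 2, 12, true),
  ([1, 30, 69, 73, 16, 97], 2, 0, false),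
  ([1, 94, 69, 73, 16, 97], 2, 0, false),
  ([1, 46, 5, 9, 17, 32], 2, 0, false),
  ([1, 110, 5, 9, 17, 32], 2, 0, false),
  ([1, 46, 69, 73, 81, 32], 2, 0, false),
  ([1, 110, 69, 73, 81, 32], 2, 0, false),
  ([1, 62, 5, 9, 17, 33], 2, 0, false),
  ([1, 126, 5, 9, 17, 33], 2, 0, false),
  ([1, 62, 69, 73, 81, 97], 2, 12, true)]

theorem rows0_1_ok : rows0_1.all (rowOK 0) = true := by decide +kernel

def rows0_2 : List Row := [
  ([1, 126, 69, 73, 81, 97], 2, 12, true),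
  ([5, 2, 4, 10, 16, 32], 4, 0, false),
  ([69, 2, 4, 10, 16, 32], 4, 0, false),
  ([5, 2, 4, 74, 16, 32], 4, 0, false),
  ([69, 2, 4, 74, 16, 32], 4, 0, false),
  ([9, 2, 6, 8, 16, 32], 4, 0, false),
  ([73, 2, 6, 8, 16, 32], 4, 0, false),
  ([9, 2, 70, 8, 16, 32], 4, 0, false),
  ([73, 2, 70, 8, 16, 32], 4, 0, false),
  ([29, 2, 6, 10, 16, 34], 6, 12, true),
  ([93, 2, 6, 10, 16, 34], 6, 12, true),
  ([29, 2, 70, 74, 16, 98], 6, 12, true),
  ([93, 2, 70, 74, 16, 98], 6, 12, true),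
  ([45, 2, 6, 10, 18, 32], 4, 2, true),
  ([109, 2, 6, 10, 18, 32], 4, 2, true),
  ([45, 2, 70, 74, 82, 32], 4, 2, true),
  ([109, 2, 70, 74, 82, 32], 4, 2, true),
  ([61, 2, 6, 10, 18, 34], 6, 12, true),
  ([125, 2, 6, 10, 18, 34], 6, 12, true),
  ([61, 2, 70, 74, 82, 98], 6, 12, true),
  ([125, 2, 70, 74, 82, 98], 6, 12, true),
  ([5, 6, 4, 27, 16, 36], 4, 0, false),
  ([5, 6, 4, 91, 16, 36], 4, 0, false)]

theorem rows0_2_ok : rows0_2.all (rowOK 0) = true := by decide +kernel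

def rows0_3 : List Row := [
  ([69, 70, 4, 27, 16, 100], 4, 0, false),
  ([69, 70, 4, 91, 16, 100], 4, 0, false),
  ([5, 6, 4, 43, 20, 32], 4, 0, false),
  ([5, 6, 4, 107, 20, 32], 4, 0, false),
  ([69, 70, 4, 43, 84, 32], 4, 0, false),
  ([69, 70, 4, 107, 84, 32], 4, 0, false),
  ([5, 6, 4, 59, 20, 36], 4, 0, false),
  ([5, 6, 4, 123, 20, 36], 4, 0, false),
  ([69, 70, 4, 59, 84, 100], 4, 0, false),
  ([69, 70, 4, 123, 84, 100], 4, 0, false),
  ([4, 8, 1, 2, 16, 32], 4, 0, false),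
  ([68, 8, 65, 2, 16, 32], 4, 0, false),
  ([4, 72, 1, 66, 16, 32], 4, 0, false),
  ([68, 72, 65, 66, 16, 32], 4, 0, false),
  ([4, 92, 1, 19, 16, 37], 4, 0, false),
  ([4, 28, 1, 83, 16, 37], 4, 0, false),
  ([68, 28, 65, 19, 16, 101], 4, 0, false),
  ([68, 92, 65, 83, 16, 101], 4, 0, false),
  ([4, 108, 1, 35, 21, 32], 4, 0, false),
  ([4, 44, 1, 99, 21, 32], 4, 0, false),
  ([68, 44, 65, 35, 85, 32], 4, 0, false),
  ([68, 108, 65, 99, 85, 32], 4, 0, false),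
  ([4, 124, 1, 51, 21, 37], 4, 0, false)]

theorem rows0_3_ok : rows0_3.all (rowOK 0) = true := by decide +kernel

def rows0_4 : List Row := [
  ([4, 60, 1, 115, 21, 37], 4, 0, false),
  ([68, 60, 65, 51, 85, 101], 4, 0, false),
  ([68, 124, 65, 115, 85, 101], 4, 0, false),
  ([8, 4, 2, 1, 16, 32], 4, 0, false),
  ([8, 68, 66, 1, 16, 32], 4, 0, false),
  ([72, 4, 2, 65, 16, 32], 4, 0, false),
  ([72, 68, 66, 65, 16, 32], 4, 0, false),
  ([28, 4, 2, 19, 16, 38], 6, 12, true),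
  ([92, 4, 2, 83, 16, 38], 6, 12, true),
  ([92, 68, 66, 19, 16, 102], 6, 12, true),
  ([28, 68, 66, 83, 16, 102], 6, 12, true),
  ([44, 4, 2, 35, 22, 32], 4, 6, true),
  ([108, 4, 2, 99, 22, 32], 4, 6, true),
  ([108, 68, 66, 35, 86, 32], 4, 6, true),
  ([44, 68, 66, 99, 86, 32], 4, 6, true),
  ([60, 4, 2, 51, 22, 38], 6, 12, true),
  ([124, 4, 2, 115, 22, 38], 6, 12, true),
  ([124, 68, 66, 51, 86, 102], 6, 12, true),
  ([60, 68, 66, 115, 86, 102], 6, 12, true),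
  ([9, 10, 23, 8, 16, 40], 4, 0, false),
  ([9, 10, 87, 8, 16, 40], 4, 0, false),
  ([73, 74, 23, 8, 16, 104], 4, 0, false),
  ([73, 74, 87, 8, 16, 104], 4, 0, false)]

theorem rows0_4_ok : rows0_4.all (rowOK 0) = true := by decide +kernel

def rows0_5 : List Row := [
  ([9, 10, 39, 8, 24, 32], 4, 0, false),
  ([9, 10, 103, 8, 24, 32], 4, 0, false),
  ([73, 74, 39, 8, 88, 32], 4, 0, false),
  ([73, 74, 103, 8, 88, 32], 4, 0, false),
  ([9, 10, 55, 8, 24, 40], 4, 0, false),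
  ([9, 10, 119, 8, 24, 40], 4, 0, false),
  ([73, 74, 55, 8, 88, 104], 4, 0, false),
  ([73, 74, 119, 8, 88, 104], 4, 0, false),
  ([8, 28, 19, 1, 16, 41], 4, 0, false),
  ([8, 92, 83, 1, 16, 41], 4, 0, false),
  ([72, 92, 19, 65, 16, 105], 4, 0, false),
  ([72, 28, 83, 65, 16, 105], 4, 0, false),
  ([8, 44, 35, 1, 25, 32], 4, 0, false),
  ([8, 108, 99, 1, 25, 32], 4, 0, false),
  ([72, 108, 35, 65, 89, 32], 4, 0, false),
  ([72, 44, 99, 65, 89, 32], 4, 0, false),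
  ([8, 60, 51, 1, 25, 41], 4, 0, false),
  ([8, 124, 115, 1, 25, 41], 4, 0, false),
  ([72, 124, 51, 65, 89, 105], 4, 0, false),
  ([72, 60, 115, 65, 89, 105], 4, 0, false),
  ([92, 8, 19, 2, 16, 42], 6, 12, true),
  ([28, 8, 83, 2, 16, 42], 6, 12, true),
  ([28, 72, 19, 66, 16, 106], 6, 12, true)]

theorem rows0_5_ok : rows0_5.all (rowOK 0) = true := by decide +kernel

def rows0_6 : List Row := [
  ([92, 72, 83, 66, 16, 106], 6, 12, true),
  ([108, 8, 35, 2, 26, 32], 4, 6, true),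
  ([44, 8, 99, 2, 26, 32], 4, 6, true),
  ([44, 72, 35, 66, 90, 32], 4, 6, true),
  ([108, 72, 99, 66, 90, 32], 4, 6, true),
  ([124, 8, 51, 2, 26, 42], 6, 12, true),
  ([60, 8, 115, 2, 26, 42], 6, 12, true),
  ([60, 72, 51, 66, 90, 106], 6, 12, true),
  ([124, 72, 115, 66, 90, 106], 6, 12, true),
  ([29, 30, 23, 27, 16, 47], 6, 12, true),
  ([93, 94, 87, 91, 16, 47], 6, 12, true),
  ([93, 94, 23, 27, 16, 111], 6, 12, true),
  ([29, 30, 87, 91, 16, 111], 6, 12, true),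
  ([45, 46, 39, 43, 31, 32], 4, 2, true),
  ([109, 110, 103, 107, 31, 32], 4, 2, true),
  ([109, 110, 39, 43, 95, 32], 4, 2, true),
  ([45, 46, 103, 107, 95, 32], 4, 2, true),
  ([61, 62, 55, 59, 31, 47], 6, 12, true),
  ([125, 126, 119, 123, 31, 47], 6, 12, true),
  ([125, 126, 55, 59, 95, 111], 6, 12, true),
  ([61, 62, 119, 123, 95, 111], 6, 12, true),
  ([108, 60, 87, 91, 3, 13], 4, 19, true),
  ([108, 124, 23, 27, 67, 13], 4, 19, true)]

theorem rows0_6_ok : rows0_6.all (rowOK 0) = true := by decide +kernel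

def rows0_7 : List Row := [
  ([44, 124, 87, 91, 3, 77], 4, 19, true),
  ([44, 60, 23, 27, 67, 77], 4, 19, true),
  ([124, 108, 87, 91, 3, 14], 6, 12, true),
  ([60, 108, 23, 27, 67, 14], 6, 12, true),
  ([60, 44, 87, 91, 3, 78], 6, 12, true),
  ([124, 44, 23, 27, 67, 78], 6, 12, true),
  ([61, 62, 83, 99, 7, 11], 6, 12, true),
  ([125, 126, 19, 99, 71, 11], 6, 12, true),
  ([125, 126, 83, 35, 7, 75], 6, 12, true),
  ([61, 62, 19, 35, 71, 75], 6, 12, true),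
  ([109, 110, 83, 115, 7, 12], 4, 23, true),
  ([109, 110, 19, 51, 71, 12], 4, 23, true),
  ([45, 46, 83, 51, 7, 76], 4, 23, true),
  ([45, 46, 19, 115, 71, 76], 4, 23, true),
  ([125, 126, 99, 83, 11, 7], 6, 12, true),
  ([61, 62, 99, 19, 75, 7], 6, 12, true),
  ([61, 62, 35, 83, 11, 71], 6, 12, true),
  ([125, 126, 35, 19, 75, 71], 6, 12, true),
  ([109, 110, 51, 83, 11, 12], 4, 23, true),
  ([109, 110, 115, 19, 75, 12], 4, 23, true),
  ([45, 46, 115, 83, 11, 76], 4, 23, true),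
  ([45, 46, 51, 19, 75, 76], 4, 23, true),
  ([93, 94, 99, 51, 12, 7], 6, 12, true)]

theorem rows0_7_ok : rows0_7.all (rowOK 0) = true := by decide +kernel

def rows0_8 : List Row := [
  ([29, 30, 99, 115, 76, 7], 6, 12, true),
  ([93, 94, 35, 115, 12, 71], 6, 12, true),
  ([29, 30, 35, 51, 76, 71], 6, 12, true),
  ([93, 94, 115, 99, 12, 11], 6, 12, true),
  ([29, 30, 51, 99, 76, 11], 6, 12, true),
  ([93, 94, 51, 35, 12, 75], 6, 12, true),
  ([29, 30, 115, 35, 76, 75], 6, 12, true),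
  ([92, 124, 103, 107, 13, 3], 6, 12, true),
  ([28, 60, 103, 107, 77, 3], 6, 12, true),
  ([92, 60, 39, 43, 13, 67], 6, 12, true),
  ([28, 124, 39, 43, 77, 67], 6, 12, true),
  ([92, 108, 55, 59, 13, 14], 6, 12, true),
  ([28, 108, 119, 123, 77, 14], 6, 12, true),
  ([92, 44, 119, 123, 13, 78], 6, 12, true),
  ([28, 44, 55, 59, 77, 78], 6, 12, true),
  ([60, 92, 103, 107, 14, 3], 6, 12, true),
  ([124, 28, 103, 107, 78, 3], 6, 12, true),
  ([124, 92, 39, 43, 14, 67], 6, 12, true),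
  ([60, 28, 39, 43, 78, 67], 6, 12, true),
  ([108, 92, 119, 123, 14, 13], 4, 19, true),
  ([108, 28, 55, 59, 78, 13], 4, 19, true),
  ([44, 92, 55, 59, 14, 77], 4, 19, true),
  ([44, 28, 119, 123, 78, 77], 4, 19, true)]

theorem rows0_8_ok : rows0_8.all (rowOK 0) = true := by decide +kernel

def rows0 : List Row :=
  rows0_0 ++
  rows0_1 ++
  rows0_2 ++
  rows0_3 ++
  rows0_4 ++
  rows0_5 ++
  rows0_6 ++
  rows0_7 ++
  rows0_8

theorem rows0_ok : rows0.all (rowOK 0) = true := by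
  simp only [rows0, List.all_append, rows0_0_ok, rows0_1_ok, rows0_2_ok, rows0_3_ok, rows0_4_ok, rows0_5_ok, rows0_6_ok, rows0_7_ok, rows0_8_ok, Bool.and_self]

def rows1_0 : List Row := [
  ([1, 66, 4, 8, 16, 32], 2, 16, false),
  ([65, 2, 4, 8, 16, 32], 2, 0, true),
  ([1, 2, 4, 72, 16, 32], 2, 20, false),
  ([1, 66, 4, 72, 16, 32], 2, 20, false),
  ([65, 2, 4, 72, 16, 32], 2, 0, true),
  ([1, 2, 68, 8, 16, 32], 2, 24, false),
  ([1, 66, 68, 8, 16, 32], 2, 24, false),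
  ([65, 2, 68, 8, 16, 32], 2, 0, true),
  ([65, 66, 68, 72, 16, 32], 2, 0, true),
  ([65, 66, 4, 8, 16, 96], 2, 0, true),
  ([65, 66, 4, 72, 16, 96], 2, 0, true),
  ([65, 66, 68, 8, 16, 96], 2, 0, true),
  ([1, 2, 68, 72, 16, 96], 2, 0, false),
  ([1, 66, 68, 72, 16, 96], 2, 0, false),
  ([65, 2, 68, 72, 16, 96], 2, 0, true),
  ([65, 66, 4, 8, 80, 32], 2, 0, true),
  ([65, 66, 4, 72, 80, 32], 2, 0, true),
  ([65, 66, 68, 8, 80, 32], 2, 0, true),
  ([1, 2, 68, 72, 80, 32], 2, 28, true),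
  ([1, 66, 68, 72, 80, 32], 2, 28, true),
  ([65, 2, 68, 72, 80, 32], 2, 0, true),
  ([65, 66, 4, 8, 80, 96], 2, 0, true),
  ([65, 66, 4, 72, 80, 96], 2, 0, true)]

theorem rows1_0_ok : rows1_0.all (rowOK 1) = true := by decide +kernel

def rows1_1 : List Row := [
  ([65, 66, 68, 8, 80, 96], 2, 0, true),
  ([1, 2, 68, 72, 80, 96], 2, 0, false),
  ([1, 66, 68, 72, 80, 96], 2, 0, false),
  ([65, 2, 68, 72, 80, 96], 2, 0, true),
  ([1, 6, 4, 9, 16, 32], 2, 20, false),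
  ([1, 70, 4, 9, 16, 32], 2, 20, false),
  ([1, 6, 4, 73, 16, 32], 2, 16, false),
  ([1, 70, 4, 73, 16, 32], 2, 16, false),
  ([1, 10, 5, 8, 16, 32], 2, 24, false),
  ([1, 74, 5, 8, 16, 32], 2, 24, false),
  ([1, 10, 69, 8, 16, 32], 2, 16, false),
  ([1, 74, 69, 8, 16, 32], 2, 16, false),
  ([1, 30, 5, 9, 16, 33], 2, 12, true),
  ([1, 94, 5, 9, 16, 33], 2, 12, true),
  ([1, 30, 69, 73, 16, 97], 2, 0, false),
  ([1, 94, 69, 73, 16, 97], 2, 0, false),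
  ([1, 46, 5, 9, 17, 32], 2, 0, false),
  ([1, 110, 5, 9, 17, 32], 2, 0, false),
  ([1, 46, 69, 73, 81, 32], 2, 0, false),
  ([1, 110, 69, 73, 81, 32], 2, 0, false),
  ([1, 62, 5, 9, 17, 33], 2, 0, false),
  ([1, 126, 5, 9, 17, 33], 2, 0, false),
  ([1, 62, 69, 73, 81, 97], 2, 12, true)]

theorem rows1_1_ok : rows1_1.all (rowOK 1) = true := by decide +kernel

def rows1_2 : List Row := [
  ([1, 126, 69, 73, 81, 97], 2, 12, true),
  ([5, 2, 4, 10, 16, 32], 4, 0, false),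
  ([69, 2, 4, 10, 16, 32], 4, 0, false),
  ([5, 2, 4, 74, 16, 32], 4, 0, false),
  ([69, 2, 4, 74, 16, 32], 4, 0, false),
  ([9, 2, 6, 8, 16, 32], 4, 0, false),
  ([73, 2, 6, 8, 16, 32], 4, 0, false),
  ([9, 2, 70, 8, 16, 32], 4, 0, false),
  ([73, 2, 70, 8, 16, 32], 4, 0, false),
  ([29, 2, 6, 10, 16, 34], 6, 12, true),
  ([93, 2, 6, 10, 16, 34], 6, 12, true),
  ([29, 2, 70, 74, 16, 98], 6, 12, true),
  ([93, 2, 70, 74, 16, 98], 6, 12, true),
  ([45, 2, 6, 10, 18, 32], 4, 2, true),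
  ([109, 2, 6, 10, 18, 32], 4, 2, true),
  ([45, 2, 70, 74, 82, 32], 4, 2, true),
  ([109, 2, 70, 74, 82, 32], 4, 2, true),
  ([61, 2, 6, 10, 18, 34], 6, 12, true),
  ([125, 2, 6, 10, 18, 34], 6, 12, true),
  ([61, 2, 70, 74, 82, 98], 6, 12, true),
  ([125, 2, 70, 74, 82, 98], 6, 12, true),
  ([5, 6, 4, 27, 16, 36], 4, 0, false),
  ([5, 6, 4, 91, 16, 36], 4, 0, false)]

theorem rows1_2_ok : rows1_2.all (rowOK 1) = true := by decide +kernel

def rows1_3 : List Row := [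
  ([69, 70, 4, 27, 16, 100], 4, 0, false),
  ([69, 70, 4, 91, 16, 100], 4, 0, false),
  ([5, 6, 4, 43, 20, 32], 4, 0, false),
  ([5, 6, 4, 107, 20, 32], 4, 0, false),
  ([69, 70, 4, 43, 84, 32], 4, 0, false),
  ([69, 70, 4, 107, 84, 32], 4, 0, false),
  ([5, 6, 4, 59, 20, 36], 4, 0, false),
  ([5, 6, 4, 123, 20, 36], 4, 0, false),
  ([69, 70, 4, 59, 84, 100], 4, 0, false),
  ([69, 70, 4, 123, 84, 100], 4, 0, false),
  ([4, 8, 1, 2, 16, 32], 4, 0, false),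
  ([68, 8, 65, 2, 16, 32], 4, 0, false),
  ([4, 72, 1, 66, 16, 32], 4, 0, false),
  ([68, 72, 65, 66, 16, 32], 4, 0, false),
  ([4, 92, 1, 19, 16, 37], 4, 0, false),
  ([4, 28, 1, 83, 16, 37], 4, 0, false),
  ([68, 28, 65, 19, 16, 101], 4, 0, false),
  ([68, 92, 65, 83, 16, 101], 4, 0, false),
  ([4, 108, 1, 35, 21, 32], 4, 0, false),
  ([4, 44, 1, 99, 21, 32], 4, 0, false),
  ([68, 44, 65, 35, 85, 32], 4, 0, false),
  ([68, 108, 65, 99, 85, 32], 4, 0, false),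
  ([4, 124, 1, 51, 21, 37], 4, 0, false)]

theorem rows1_3_ok : rows1_3.all (rowOK 1) = true := by decide +kernel

def rows1_4 : List Row := [
  ([4, 60, 1, 115, 21, 37], 4, 0, false),
  ([68, 60, 65, 51, 85, 101], 4, 0, false),
  ([68, 124, 65, 115, 85, 101], 4, 0, false),
  ([8, 4, 2, 1, 16, 32], 4, 0, false),
  ([8, 68, 66, 1, 16, 32], 4, 0, false),
  ([72, 4, 2, 65, 16, 32], 4, 0, false),
  ([72, 68, 66, 65, 16, 32], 4, 0, false),
  ([28, 4, 2, 19, 16, 38], 6, 12, true),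
  ([92, 4, 2, 83, 16, 38], 6, 12, true),
  ([92, 68, 66, 19, 16, 102], 6, 12, true),
  ([28, 68, 66, 83, 16, 102], 6, 12, true),
  ([44, 4, 2, 35, 22, 32], 4, 6, true),
  ([108, 4, 2, 99, 22, 32], 4, 6, true),
  ([108, 68, 66, 35, 86, 32], 4, 6, true),
  ([44, 68, 66, 99, 86, 32], 4, 6, true),
  ([60, 4, 2, 51, 22, 38], 6, 12, true),
  ([124, 4, 2, 115, 22, 38], 6, 12, true),
  ([124, 68, 66, 51, 86, 102], 6, 12, true),
  ([60, 68, 66, 115, 86, 102], 6, 12, true),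
  ([9, 10, 23, 8, 16, 40], 4, 0, false),
  ([9, 10, 87, 8, 16, 40], 4, 0, false),
  ([73, 74, 23, 8, 16, 104], 4, 0, false),
  ([73, 74, 87, 8, 16, 104], 4, 0, false)]

theorem rows1_4_ok : rows1_4.all (rowOK 1) = true := by decide +kernel

def rows1_5 : List Row := [
  ([9, 10, 39, 8, 24, 32], 4, 0, false),
  ([9, 10, 103, 8, 24, 32], 4, 0, false),
  ([73, 74, 39, 8, 88, 32], 4, 0, false),
  ([73, 74, 103, 8, 88, 32], 4, 0, false),
  ([9, 10, 55, 8, 24, 40], 4, 0, false),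
  ([9, 10, 119, 8, 24, 40], 4, 0, false),
  ([73, 74, 55, 8, 88, 104], 4, 0, false),
  ([73, 74, 119, 8, 88, 104], 4, 0, false),
  ([8, 28, 19, 1, 16, 41], 4, 0, false),
  ([8, 92, 83, 1, 16, 41], 4, 0, false),
  ([72, 92, 19, 65, 16, 105], 4, 0, false),
  ([72, 28, 83, 65, 16, 105], 4, 0, false),
  ([8, 44, 35, 1, 25, 32], 4, 0, false),
  ([8, 108, 99, 1, 25, 32], 4, 0, false),
  ([72, 108, 35, 65, 89, 32], 4, 0, false),
  ([72, 44, 99, 65, 89, 32], 4, 0, false),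
  ([8, 60, 51, 1, 25, 41], 4, 0, false),
  ([8, 124, 115, 1, 25, 41], 4, 0, false),
  ([72, 124, 51, 65, 89, 105], 4, 0, false),
  ([72, 60, 115, 65, 89, 105], 4, 0, false),
  ([92, 8, 19, 2, 16, 42], 6, 12, true),
  ([28, 8, 83, 2, 16, 42], 6, 12, true),
  ([28, 72, 19, 66, 16, 106], 6, 12, true)]

theorem rows1_5_ok : rows1_5.all (rowOK 1) = true := by decide +kernel

def rows1_6 : List Row := [
  ([92, 72, 83, 66, 16, 106], 6, 12, true),
  ([108, 8, 35, 2, 26, 32], 4, 6, true),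
  ([44, 8, 99, 2, 26, 32], 4, 6, true),
  ([44, 72, 35, 66, 90, 32], 4, 6, true),
  ([108, 72, 99, 66, 90, 32], 4, 6, true),
  ([124, 8, 51, 2, 26, 42], 6, 12, true),
  ([60, 8, 115, 2, 26, 42], 6, 12, true),
  ([60, 72, 51, 66, 90, 106], 6, 12, true),
  ([124, 72, 115, 66, 90, 106], 6, 12, true),
  ([29, 30, 23, 27, 16, 47], 6, 12, true),
  ([93, 94, 87, 91, 16, 47], 6, 12, true),
  ([93, 94, 23, 27, 16, 111], 6, 12, true),
  ([29, 30, 87, 91, 16, 111], 6, 12, true),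
  ([45, 46, 39, 43, 31, 32], 4, 2, true),
  ([109, 110, 103, 107, 31, 32], 4, 2, true),
  ([109, 110, 39, 43, 95, 32], 4, 2, true),
  ([45, 46, 103, 107, 95, 32], 4, 2, true),
  ([61, 62, 55, 59, 31, 47], 6, 12, true),
  ([125, 126, 119, 123, 31, 47], 6, 12, true),
  ([125, 126, 55, 59, 95, 111], 6, 12, true),
  ([61, 62, 119, 123, 95, 111], 6, 12, true),
  ([108, 60, 87, 91, 3, 13], 4, 19, true),
  ([108, 124, 23, 27, 67, 13], 4, 19, true)]

theorem rows1_6_ok : rows1_6.all (rowOK 1) = true := by decide +kernel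

def rows1_7 : List Row := [
  ([44, 124, 87, 91, 3, 77], 4, 19, true),
  ([44, 60, 23, 27, 67, 77], 4, 19, true),
  ([124, 108, 87, 91, 3, 14], 6, 12, true),
  ([60, 108, 23, 27, 67, 14], 6, 12, true),
  ([60, 44, 87, 91, 3, 78], 6, 12, true),
  ([124, 44, 23, 27, 67, 78], 6, 12, true),
  ([61, 62, 83, 99, 7, 11], 6, 12, true),
  ([125, 126, 19, 99, 71, 11], 6, 12, true),
  ([125, 126, 83, 35, 7, 75], 6, 12, true),
  ([61, 62, 19, 35, 71, 75], 6, 12, true),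
  ([109, 110, 83, 115, 7, 12], 4, 23, true),
  ([109, 110, 19, 51, 71, 12], 4, 23, true),
  ([45, 46, 83, 51, 7, 76], 4, 23, true),
  ([45, 46, 19, 115, 71, 76], 4, 23, true),
  ([125, 126, 99, 83, 11, 7], 6, 12, true),
  ([61, 62, 99, 19, 75, 7], 6, 12, true),
  ([61, 62, 35, 83, 11, 71], 6, 12, true),
  ([125, 126, 35, 19, 75, 71], 6, 12, true),
  ([109, 110, 51, 83, 11, 12], 4, 23, true),
  ([109, 110, 115, 19, 75, 12], 4, 23, true),
  ([45, 46, 115, 83, 11, 76], 4, 23, true),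
  ([45, 46, 51, 19, 75, 76], 4, 23, true),
  ([93, 94, 99, 51, 12, 7], 6, 12, true)]

theorem rows1_7_ok : rows1_7.all (rowOK 1) = true := by decide +kernel

def rows1_8 : List Row := [
  ([29, 30, 99, 115, 76, 7], 6, 12, true),
  ([93, 94, 35, 115, 12, 71], 6, 12, true),
  ([29, 30, 35, 51, 76, 71], 6, 12, true),
  ([93, 94, 115, 99, 12, 11], 6, 12, true),
  ([29, 30, 51, 99, 76, 11], 6, 12, true),
  ([93, 94, 51, 35, 12, 75], 6, 12, true),
  ([29, 30, 115, 35, 76, 75], 6, 12, true),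
  ([92, 124, 103, 107, 13, 3], 6, 12, true),
  ([28, 60, 103, 107, 77, 3], 6, 12, true),
  ([92, 60, 39, 43, 13, 67], 6, 12, true),
  ([28, 124, 39, 43, 77, 67], 6, 12, true),
  ([92, 108, 55, 59, 13, 14], 6, 12, true),
  ([28, 108, 119, 123, 77, 14], 6, 12, true),
  ([92, 44, 119, 123, 13, 78], 6, 12, true),
  ([28, 44, 55, 59, 77, 78], 6, 12, true),
  ([60, 92, 103, 107, 14, 3], 6, 12, true),
  ([124, 28, 103, 107, 78, 3], 6, 12, true),
  ([124, 92, 39, 43, 14, 67], 6, 12, true),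
  ([60, 28, 39, 43, 78, 67], 6, 12, true),
  ([108, 92, 119, 123, 14, 13], 4, 19, true),
  ([108, 28, 55, 59, 78, 13], 4, 19, true),
  ([44, 92, 55, 59, 14, 77], 4, 19, true),
  ([44, 28, 119, 123, 78, 77], 4, 19, true)]

theorem rows1_8_ok : rows1_8.all (rowOK 1) = true := by decide +kernel

def rows1 : List Row :=
  rows1_0 ++
  rows1_1 ++
  rows1_2 ++
  rows1_3 ++
  rows1_4 ++
  rows1_5 ++
  rows1_6 ++
  rows1_7 ++
  rows1_8

theorem rows1_ok : rows1.all (rowOK 1) = true := by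
  simp only [rows1, List.all_append, rows1_0_ok, rows1_1_ok, rows1_2_ok, rows1_3_ok, rows1_4_ok, rows1_5_ok, rows1_6_ok, rows1_7_ok, rows1_8_ok, Bool.and_self]

theorem rows0_codes : rows0.map (·.1) = allC := by decide +kernel

theorem rows1_codes : rows1.map (·.1) = rows0.map (·.1) := by decide +kernel

theorem rows_good : ((rows0.filter (·.2.2.2)).length = 118 ∧ (rows1.filter (·.2.2.2)).length = 118) := by
  decide +kernel

theorem rows_nodup : (rows0.map (·.1)).Nodup := by decide +kernel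

end Cfsg.Agent.SuzukiLocal.CZ
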