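import Cfsg.Agent.Lib.SuzukiType.Isometry

/-!
Automorphisms of the extraspecial group of order `2^7` of minus type as lists of six numbers below 128
(bits 0-5: coordinates, bit 6: sign), and the finite computation behind the count of conjugates of `z`.
-/

set_option autoImplicit false
set_option maxRecDepth 20000
set_option synthInstance.maxSize 4096

namespace Cfsg.Agent.SuzukiLocal.CZ

open Cfsg.Agent.SuzukiType

/-- A bit, as a number. -/
def bn (n i : ℕ) : ℕ := (n >>> i) &&& 1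

/-- The sum of the bits 0, 2, 4 and 5. -/
def par4 (c : ℕ) : ℕ := (c ^^^ (c >>> 2) ^^^ (c >>> 4) ^^^ (c >>> 5)) &&& 1

/-- The cocycle. -/
def bN (a b : ℕ) : ℕ := par4 (a &&& (((b >>> 1) &&& 21) ^^^ (b &&& 48)))

/-- The form and its polar. -/
def qN (a : ℕ) : ℕ := bN a a
def pN (a b : ℕ) : ℕ := bN a b ^^^ bN b a

/-- The product. -/
def qm (a b : ℕ) : ℕ := a ^^^ b ^^^ (bN a b <<< 6)

def idC : List ℕ := [1, 2, 4, 8, 16, 32]

/-- The image of the ordered product of basis elements. -/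
def pe (h : List ℕ) (n : ℕ) : ℕ :=
  (List.range 6).foldl (fun r i => if n.testBit i then qm r (h.getD i 0) else r) 0

/-- The sign of an element against the ordered product of basis elements. -/
def corr (n : ℕ) : ℕ := (((n >>> 6) ^^^ par4 (n &&& (n >>> 1) &&& 21)) &&& 1) <<< 6

/-- The image of an element. -/
def img (h : List ℕ) (n : ℕ) : ℕ := qm (corr n) (pe h n)

/-- The image of the vector. -/
def lin (h : List ℕ) (n : ℕ) : ℕ :=
  (List.range 6).foldl (fun r i => if n.testBit i then r ^^^ (h.getD i 0 &&& 63) else r) 0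

def mulC (g h : List ℕ) : List ℕ := h.map (img g)

def powC (h : List ℕ) : ℕ → List ℕ
  | 0 => idC
  | n + 1 => mulC (powC h n) h

/-- An inner automorphism. -/
def innC (v : ℕ) : List ℕ := (List.range 6).map fun i => qm (pN v (2 ^ i) <<< 6) (2 ^ i)

/-- The element of the totally singular line through `p` and `q`. -/
def XN (p q v : ℕ) : ℕ := v ^^^ (if pN v p = 1 then q else 0) ^^^ (if pN v q = 1 then p else 0)

def mkC (p q f : ℕ) : List ℕ := (List.range 6).map fun i => XN p q (2 ^ i) ^^^ (bn f i <<< 6)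

/-- No sign on the vectors orthogonal to `p` and `q`. -/
def trivFix (p q : ℕ) (h : List ℕ) : Bool :=
  (List.range 64).all fun v => pN v p != 0 || pN v q != 0 || img h v == v

/-- The totally singular lines, once each. -/
def lineList : List (ℕ × ℕ) :=
  (List.range 64).flatMap fun p => (List.range 64).filterMap fun q =>
    if 0 < p ∧ p < q ∧ q < p ^^^ q ∧ qN p = 0 ∧ qN q = 0 ∧ pN p q = 0 then some (p, q) else none

def outC : List (List ℕ) :=
  lineList.flatMap fun l => ((List.range 64).map (mkC l.1 l.2)).filter (trivFix l.1 l.2)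

def inC : List (List ℕ) :=
  ((List.range 64).filter fun v => 0 < v && qN v == 0).map innC

def allC : List (List ℕ) := inC ++ outC

/-- The second involution. -/
def mC (ff : ℕ) : List ℕ :=
  (List.range 6).map fun i =>
    if i = 1 then 35 ^^^ (ff <<< 6) else qm (qm (pN 32 (2 ^ i) <<< 6) (pN 32 (2 ^ i))) (2 ^ i)

def tC (ff : ℕ) : List ℕ := mulC (innC 16) (mC ff)

/-- The order modulo inner automorphisms, when at most 12. -/
def ordC (h : List ℕ) : ℕ :=
  ((List.range 13).find? fun n => 0 < n && (powC h n).map (· % 64) == idC).getD 0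

/-- The vector of an inner automorphism. -/
def vOf (h : List ℕ) : ℕ :=
  bn (h.getD 1 0) 6 ^^^ (bn (h.getD 0 0) 6 <<< 1) ^^^ (bn (h.getD 3 0) 6 <<< 2) ^^^
    (bn (h.getD 2 0) 6 <<< 3) ^^^ (bn (h.getD 5 0) 6 <<< 4) ^^^ (bn (h.getD 4 0) 6 <<< 5)

/-- The sign function on the fixed vectors is given by `κ`. -/
def kapOK (y : List ℕ) (κ : ℕ) : Bool :=
  (List.range 64).all fun v => lin y v != v || img y v == qm (pN κ v <<< 6) v

def del (y : List ℕ) : ℕ :=
  if (List.range 64).any (fun v => qN (lin y v ^^^ v) == 1) then 1 else 0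

/-- A row of the table: a code, an exponent, a value of `κ` and the decision. -/
abbrev Row : Type := List ℕ × ℕ × ℕ × Bool

/-- The test for a row. -/
def rowOK (ff : ℕ) (r : Row) : Bool :=
  powC (mulC r.1 (tC ff)) r.2.1 == innC (vOf (powC (mulC r.1 (tC ff)) r.2.1)) &&
    if qN (vOf (powC (mulC r.1 (tC ff)) r.2.1)) = 1 then r.2.2.2
    else if vOf (powC (mulC r.1 (tC ff)) r.2.1) ≠ 0 then !r.2.2.2
    else if r.2.1 % 2 = 1 then r.2.2.2
    else (List.range 6).any (fun i => lin (powC (mulC r.1 (tC ff)) (r.2.1 / 2)) (2 ^ i) != 2 ^ i) &&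
      kapOK (powC (mulC r.1 (tC ff)) (r.2.1 / 2)) r.2.2.1 &&
      r.2.2.2 == (qN r.2.2.1 ^^^ del (powC (mulC r.1 (tC ff)) (r.2.1 / 2)) == 1)

/-! ### The dictionary -/

/-- A bit, in the field. -/
def bz (n i : ℕ) : ZMod 2 := if n.testBit i then 1 else 0

/-- The vector. -/
def toV (n : ℕ) : V := SuzukiType.mk (bz n 0) (bz n 1) (bz n 2) (bz n 3) (bz n 4) (bz n 5)

/-- The number of a sign and a vector. -/
def ofN (s : ZMod 2) (v : V) : ℕ :=
  (x1 v).val ^^^ ((y1 v).val <<< 1) ^^^ ((x2 v).val <<< 2) ^^^ ((y2 v).val <<< 3) ^^^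
    ((za v).val <<< 4) ^^^ ((zb v).val <<< 5) ^^^ (s.val <<< 6)

/-- The cocycle on vectors. -/
def bV (v w : V) : ZMod 2 :=
  x1 v * y1 w + x2 v * y2 w + (za v * za w + za v * zb w + zb v * zb w)

theorem ofN_spec : ∀ (s : ZMod 2) (v : V),
    ofN s v < 128 ∧ bz (ofN s v) 6 = s ∧ toV (ofN s v) = v := by decide +kernel

theorem ofN_self : ∀ n < 128, ofN (bz n 6) (toV n) = n := by decide +kernel

theorem ofN_small : ∀ v : V, ofN 0 v < 64 := by decide +kernel

theorem tables : ∀ a < 64, ∀ b < 64, (bN a b : ZMod 2) = bV (toV a) (toV b) ∧ bN a b < 2 ∧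
    (pN a b : ZMod 2) = bf (toV a) (toV b) ∧ pN a b < 2 ∧ (qN a : ZMod 2) = qf (toV a) := by
  decide +kernel

theorem expand : ∀ n < 128, qm (corr n) (pe idC n) = n ∧ (corr n = 0 ∨ corr n = 64) := by
  decide +kernel

theorem lines_cover : ∀ p < 64, ∀ q < 64, p ≠ 0 → q ≠ 0 → p ≠ q → qN p = 0 → qN q = 0 → pN p q = 0 →
    lineList.any (fun l => (List.range 6).map (fun i => XN l.1 l.2 (2 ^ i)) ==
      (List.range 6).map (fun i => XN p q (2 ^ i))) = true := by decide +kernel

theorem lines_valid : ∀ l ∈ lineList, l.1 < 64 ∧ l.2 < 64 ∧ l.1 ≠ 0 ∧ l.2 ≠ 0 ∧ l.1 ≠ l.2 ∧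
    qN l.1 = 0 ∧ qN l.2 = 0 ∧ pN l.1 l.2 = 0 := by decide +kernel

end Cfsg.Agent.SuzukiLocal.CZ
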