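import Cfsg.Agent.Lib.SuzukiLocal.CountClass
import Cfsg.Agent.Lib.SuzukiLocal.CountData

/-!
The number of conjugates `u` of `z` in `C(z)` with `z` a power of `u * t`, for `t` of the second class.
-/

set_option autoImplicit false
set_option maxRecDepth 20000
set_option synthInstance.maxSize 4096

namespace Cfsg.Agent.SuzukiLocal.CZ

open Subgroup Cfsg.Agent.SuzukiType Cfsg.Agent.OctadInv.Orbits

theorem kap_bound : rows0.all (fun r => decide (r.2.2.1 < 64)) = true ∧
    rows1.all (fun r => decide (r.2.2.1 < 64)) = true := by decide +kernel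

/-- The table for a value of the free sign. -/
def rows (ff : ℕ) : List Row := if ff = 0 then rows0 else rows1

theorem rows_ok {ff : ℕ} (h : ff < 2) : (rows ff).all (rowOK ff) = true ∧
    (rows ff).map (·.1) = allC ∧ ((rows ff).filter (·.2.2.2)).length = 118 ∧
    (rows ff).all (fun r => decide (r.2.2.1 < 64)) = true := by
  rcases (show ff = 0 ∨ ff = 1 by omega) with rfl | rfl
  · exact ⟨rows0_ok, rows0_codes, rows_good.1, kap_bound.1⟩
  · exact ⟨rows1_ok, rows1_codes.trans rows0_codes, rows_good.2, kap_bound.2⟩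

theorem vOf_lt (h : List ℕ) : vOf h < 64 := by
  have hall : ∀ a < 2, ∀ b < 2, ∀ c < 2, ∀ d < 2, ∀ e < 2, ∀ f < 2,
      a ^^^ (b <<< 1) ^^^ (c <<< 2) ^^^ (d <<< 3) ^^^ (e <<< 4) ^^^ (f <<< 5) < 64 := by decide +kernel
  have hb : ∀ n, bn n 6 < 2 := fun n => Nat.lt_succ_of_le Nat.and_le_right
  exact hall _ (hb _) _ (hb _) _ (hb _) _ (hb _) _ (hb _) _ (hb _)

variable {G : Type*} [Group G] [Finite G]

/-- A finite cyclic group has one involution. -/
theorem unique_two {x g h : G} (hg : g ∈ zpowers x) (hh : h ∈ zpowers x) (gg : g * g = 1) (hh2 : h * h = 1)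
    (g1 : g ≠ 1) (h1 : h ≠ 1) : g = h := by
  have key : ∀ {g : G}, g ∈ zpowers x → g * g = 1 → g ≠ 1 →
      ∃ i, g = x ^ i ∧ 2 * i = orderOf x := by
    intro g hg gg g1
    obtain ⟨i, hi⟩ : ∃ i : ℕ, x ^ i = g :=
      (isOfFinOrder_of_finite x).mem_powers_iff_mem_zpowers.2 hg
    refine ⟨i % orderOf x, by rw [pow_mod_orderOf, hi], ?_⟩
    have h2 : orderOf x ∣ 2 * (i % orderOf x) :=
      orderOf_dvd_of_pow_eq_one (by rw [pow_mul', pow_mod_orderOf, hi, pow_two, gg])
    have h3 : i % orderOf x ≠ 0 := fun e => g1 (by rw [← hi, ← pow_mod_orderOf, e, pow_zero])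
    have h4 : i % orderOf x < orderOf x := Nat.mod_lt _ (orderOf_pos x)
    obtain ⟨j, hj⟩ := h2
    have h5 : j = 1 := by
      rcases j with _ | _ | j
      · omega
      · rfl
      · exfalso
        have : orderOf x * 2 ≤ orderOf x * (j + 1 + 1) := Nat.mul_le_mul_left _ (by omega)
        omega
    rw [hj, h5, mul_one]
  obtain ⟨i, rfl, hi⟩ := key hg gg g1
  obtain ⟨j, rfl, hj⟩ := key hh hh2 h1
  rw [show i = j by omega]

omit [Finite G] in
/-- Two involutions whose product has odd order are conjugate. -/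
theorem conj_of_odd {u t : G} (uu : u * u = 1) (tt : t * t = 1) {n : ℕ} (hn : n % 2 = 1)
    (h : (u * t) ^ n = 1) : IsConj u t := by
  have hui : u⁻¹ = u := inv_eq_of_mul_eq_one_right uu
  have hti : t⁻¹ = t := inv_eq_of_mul_eq_one_right tt
  set x := u * t with hx
  have hux : u * x * u⁻¹ = x⁻¹ := by rw [hx, mul_inv_rev, hui, hti, ← mul_assoc u u, uu, one_mul]
  have hj : u * (x ^ (n / 2))⁻¹ = x ^ (n / 2) * u := by
    have h1 : u * x ^ (n / 2) * u⁻¹ = (x ^ (n / 2))⁻¹ := by rw [← conj_pow, hux, inv_pow]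
    rw [← h1]
    calc u * (u * x ^ (n / 2) * u⁻¹) = (u * u) * x ^ (n / 2) * u⁻¹ := by group
      _ = _ := by rw [uu, one_mul, hui]
  refine isConj_iff.2 ⟨x ^ (n / 2), ?_⟩
  have h2 : x ^ (n / 2) * x ^ (n / 2) = x⁻¹ := by
    rw [← pow_add]
    apply eq_inv_of_mul_eq_one_left
    rw [← pow_succ, show n / 2 + n / 2 + 1 = n by omega, h]
  calc x ^ (n / 2) * u * (x ^ (n / 2))⁻¹ = x ^ (n / 2) * (u * (x ^ (n / 2))⁻¹) := by group
    _ = x⁻¹ * u := by rw [hj, ← mul_assoc, h2]
    _ = t := by rw [hx, mul_inv_rev, hui, hti, mul_assoc, uu, mul_one]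

variable {Q Q' : Subgroup G} {z a : G} (S : St Q Q' z a)

/-- A row decides whether `z` is a power of `u * t`. -/
theorem row_iff {t u : G} (htz : t * z = z * t) (huz : u * z = z * u) (tt : t * t = 1) (uu : u * u = 1)
    (hnc : ¬ IsConj u t) {ff : ℕ} (ht : code S t = tC ff) {r : Row} (hu : code S u = r.1)
    (hr : rowOK ff r = true) (hκ : r.2.2.1 < 64) : z ∈ zpowers (u * t) ↔ r.2.2.2 = true := by
  obtain ⟨c, n, κ, g⟩ := r
  change κ < 64 at hκ
  change code S u = c at hu
  set x := u * t with hx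
  have hxz : x * z = z * x := mul_z huz htz
  have hh : code S x = mulC c (tC ff) := by rw [hx, code_mul S huz htz, hu, ht]
  have hpz : ∀ j : ℕ, x ^ j * z = z * x ^ j := fun j => ((show Commute x z from hxz).pow_left j).eq
  set V := vOf (powC (mulC c (tC ff)) n) with hV
  have hV64 : V < 64 := vOf_lt _
  simp only [rowOK, Bool.and_eq_true, beq_iff_eq, ← hV] at hr
  obtain ⟨hp, hr⟩ := hr
  obtain ⟨hgQ, hgv⟩ := code_inner_inv S (hpz n) (show V < 128 by omega)
    (by rw [code_pow S hxz, hh, hp])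
  have hpow : ∀ j : ℕ, x ^ j ∈ zpowers x := fun j => pow_mem (mem_zpowers x) j
  show _ ↔ g = true
  by_cases hq1 : qN V = 1
  · rw [if_pos hq1] at hr
    refine iff_of_true ?_ hr
    have h1 : x ^ n * x ^ n = z := by
      rw [S.F.sq hgQ, hgv, ← (qN_cast (show V < 128 by omega)).2, hq1, Nat.cast_one, zp_one]
    rw [← h1]
    exact mul_mem (hpow n) (hpow n)
  rw [if_neg hq1] at hr
  have hq0 : qf (toV V) = 0 := by
    rw [← (qN_cast (show V < 128 by omega)).2,
      show qN V = 0 by have := (qN_cast (show V < 128 by omega)).1; omega, Nat.cast_zero]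
  by_cases hv0 : V ≠ 0
  · rw [if_pos hv0, Bool.not_eq_true'] at hr
    refine iff_of_false (fun hz => ?_) (by simp [hr])
    have hvec : S.F.vec (x ^ n) ≠ 0 := by
      rw [hgv]
      exact fun e => hv0 (eq_of_toV hV64 (by norm_num) (e.trans (by decide)))
    have h1 : x ^ n * x ^ n = 1 := by rw [S.F.sq hgQ, hgv, hq0, zp_zero]
    have h2 := unique_two (hpow n) hz h1 S.h.zz (fun e => hvec (by rw [e, S.F.vec_one])) S.h.ne_one
    exact hvec (by rw [h2, S.F.vec_z])
  rw [if_neg hv0] at hr
  simp only [ne_eq, not_not] at hv0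
  have hg2 : x ^ n = 1 ∨ x ^ n = z := S.F.vec_cases hgQ (by rw [hgv, hv0]; decide)
  by_cases hodd : n % 2 = 1
  · rw [if_pos hodd] at hr
    refine iff_of_true ?_ hr
    rcases hg2 with e | e
    · exact absurd (conj_of_odd uu tt hodd e) hnc
    · rw [← e]; exact hpow n
  rw [if_neg hodd] at hr
  simp only [Bool.and_eq_true, beq_iff_eq, List.any_eq_true, bne_iff_ne, ne_eq, List.mem_range] at hr
  obtain ⟨⟨⟨i, hi, hne⟩, hk⟩, hgd⟩ := hr
  set y := x ^ (n / 2) with hy
  have hyz : y * z = z * y := hpz _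
  have hcy : code S y = powC (mulC c (tC ff)) (n / 2) := by rw [hy, code_pow S hxz, hh]
  rw [← hcy] at hne hk hgd
  have hyy : y * y = x ^ n := by rw [hy, ← pow_add, show n / 2 + n / 2 = n by omega]
  have hA : S.act' y ≠ 1 := by
    intro e
    have hi' : 2 ^ i < 64 := pow_lt hi
    refine hne (eq_of_toV (lin_lt _ _) hi' ?_)
    rw [← act_lin S hyz (show 2 ^ i < 128 by omega), e, act_one]
  rw [kapOK, List.all_eq_true] at hk
  obtain ⟨c', k, m, -, -, -, -, -, -, -, -, hsq, hform⟩ :=
    square_form S hyz hA (hyy ▸ hg2) (toV κ) fun w hw hfix => by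
      obtain ⟨j, hj, rfl⟩ := el_surj S hw
      obtain ⟨v, hv, hvj⟩ := exists_num (toV j)
      rw [el_vec, ← hvj, act_lin S hyz (show v < 128 by omega)] at hfix
      have h1 := hk v (List.mem_range.2 hv)
      simp only [Bool.or_eq_true, bne_iff_ne, beq_iff_eq,
        eq_of_toV (lin_lt _ _) hv hfix, ne_eq, not_true_eq_false, false_or] at h1
      obtain ⟨h2, h3⟩ := pN_cast (show κ < 128 by omega) (show v < 128 by omega)
      obtain ⟨-, h4⟩ := conj_el S hyz (show v < 128 by omega)
      rw [h1, el_shift S h2 (by omega), h3] at h4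
      have h5 : y * el S v * y⁻¹ = zp z (bf (toV κ) (toV v)) * el S v := h4.symm
      rw [el_vec, el_split S j hv hvj, ← mul_assoc y, zp_comm hyz, mul_assoc _ y, mul_assoc, h5,
        zz_mul S, zz_mul S, add_comm, hvj]
  -- the invariant of the action
  have hdel : (del (code S y) : ZMod 2) = qf (wof (S.act' m)) := by
    rcases z2 (qf (wof (S.act' m))) with e | e <;> rw [e]
    · rw [del, if_neg, Nat.cast_zero]
      intro h
      simp only [List.any_eq_true, List.mem_range, beq_iff_eq] at h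
      obtain ⟨v, hv, hv1⟩ := h
      have hl := lin_lt (code S y) v
      have hb : lin (code S y) v ^^^ v < 128 := Nat.xor_lt_two_pow (n := 7) (by omega) (by omega)
      have h1 := (qN_cast hb).2
      rw [hv1, toV_xor, ← act_lin S hyz (show v < 128 by omega), hform, e, mul_zero, Nat.cast_one] at h1
      exact one_ne_zero h1
    · rw [del, if_pos, Nat.cast_one]
      simp only [List.any_eq_true, List.mem_range, beq_iff_eq]
      obtain ⟨v, hv, hv'⟩ := exists_num (act (S.act' c')⁻¹ f1)
      refine ⟨v, hv, ?_⟩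
      have hl := lin_lt (code S y) v
      have hb : lin (code S y) v ^^^ v < 128 := Nat.xor_lt_two_pow (n := 7) (by omega) (by omega)
      obtain ⟨h0, h1⟩ := qN_cast hb
      rw [toV_xor, ← act_lin S hyz (show v < 128 by omega), hform, e, hv', ← act_mul, mul_inv_cancel,
        act_one, y1_f1, mul_one] at h1
      exact (nat_bit _ h0).2.1 h1
  obtain ⟨hq, hqc⟩ := qN_cast (show κ < 128 by omega)
  have hd2 : del (code S y) < 2 := by rw [del]; split_ifs <;> norm_num
  obtain ⟨hx2, hxc⟩ := xor_cast _ hq _ hd2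
  rw [← hdel, ← hqc, ← hxc] at hsq
  rcases (show qN κ ^^^ del (code S y) = 0 ∨ qN κ ^^^ del (code S y) = 1 by omega) with e | e
  · rw [e] at hgd
    rw [e, Nat.cast_zero, zp_zero] at hsq
    refine iff_of_false (fun hz => ?_) (by rw [hgd]; decide)
    have hy1 : y ≠ 1 := fun h => hA (by rw [h, S.act'_q Q.one_mem])
    refine hA ((S.act'_one_iff hyz).2 ?_)
    rw [show y = z from unique_two (hpow _) hz hsq S.h.zz hy1 S.h.ne_one]
    exact S.h.z_mem
  · rw [e] at hgd
    rw [e, Nat.cast_one, zp_one] at hsq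
    refine iff_of_true ?_ (by rw [hgd]; decide)
    rw [← hsq]
    exact mul_mem (hpow _) (hpow _)

include S in
/-- There are 236 conjugates `u` of `z` in `C(z)` with `z` a power of `u * t`. -/
theorem count_z (hcard : Nat.card ↥Q = 128) {k m : G} (hk : k ∈ Q) (hkv : S.F.vec k = k0) (hm : m ∈ Q')
    (hmz : m * z = z * m) (hmw : wof (S.act' m) = w0) (hsq : k * m * (k * m) = 1) :
    Nat.card {u : G // IsConj z u ∧ u * z = z * u ∧ z ∈ Subgroup.zpowers (u * (k * m))} = 236 := by
  classical
  haveI := Fintype.ofFinite G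
  set t := k * m with ht
  have htz : t * z = z * t := mul_z (S.qz hk) hmz
  have hnc : ¬ IsConj z t := S.not_conj hk hkv hm hmz hmw (by omega)
  have ht1 : t ≠ 1 := by
    intro e
    have h1 := congrArg S.act' e
    rw [ht, S.act'_mul (S.qz hk) hmz, S.act'_q hk, one_mul, S.act'_q Q.one_mem] at h1
    have h2 := congrArg wof h1
    rw [hmw, wof, act_one, pw_f1] at h2
    exact absurd h2 (by decide)
  obtain ⟨ff, hff, hmC⟩ := code_m S hm hmz hmw
  have htC : code S t = tC ff := by
    rw [ht, code_mul S (S.qz hk) hmz, code_inner S hk (show 16 < 128 by norm_num) (hkv.trans (by decide)),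
      hmC]
    rfl
  obtain ⟨hok, hcodes, hlen, hkb⟩ := rows_ok hff
  set good : Finset (List ℕ) := (((rows ff).filter (·.2.2.2)).map (·.1)).toFinset with hgood
  have hnd : (rows ff).map (·.1) = allC := hcodes
  have hgc : good.card = 118 := by
    rw [hgood, List.toFinset_card_of_nodup, List.length_map, hlen]
    refine List.Nodup.sublist (List.Sublist.map _ List.filter_sublist) ?_
    rw [hcodes, ← rows0_codes]
    exact rows_nodup
  have huu : ∀ {u : G}, IsConj z u → u * u = 1 := fun {u} h => by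
    obtain ⟨g, rfl⟩ := isConj_iff.1 h
    calc g * z * g⁻¹ * (g * z * g⁻¹) = g * (z * z) * g⁻¹ := by group
      _ = 1 := by rw [S.h.zz]; group
  have hrow : ∀ r ∈ rows ff, ∀ {u : G}, u * z = z * u → code S u = r.1 → IsConj z u →
      (z ∈ zpowers (u * t) ↔ r.2.2.2 = true) := fun r hr u huz hu hconj =>
    row_iff S htz huz hsq (huu hconj) (fun h => hnc (hconj.trans h)) htC hu
      (List.all_eq_true.1 hok r hr) (by simpa using List.all_eq_true.1 hkb r hr)
  have hP : ∀ u : G, (IsConj z u ∧ u * z = z * u ∧ z ∈ zpowers (u * t)) ↔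
      (u * z = z * u ∧ code S u ∈ good) := by
    intro u
    constructor
    · rintro ⟨hconj, huz, hz⟩
      have hne : u ≠ z := by
        rintro rfl
        have h2 : u * t * (u * t) = 1 := by
          calc u * t * (u * t) = u * (t * u) * t := by group
            _ = (u * u) * (t * t) := by rw [htz]; group
            _ = 1 := by rw [S.h.zz, hsq, mul_one]
        have hne1 : u * t ≠ 1 := fun e => hnc (by
          rw [show t = u by
            calc t = (u * u) * t := by rw [S.h.zz, one_mul]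
              _ = u * (u * t) := mul_assoc _ _ _
              _ = u := by rw [e, mul_one]])
        have h3 := unique_two (mem_zpowers _) hz h2 S.h.zz hne1 S.h.ne_one
        exact ht1 (mul_eq_left.1 h3)
      have h1 := code_mem S hk hkv hm hmz hmw (by omega) huz hconj hne
      rw [← hcodes, List.mem_map] at h1
      obtain ⟨r, hr, hru⟩ := h1
      refine ⟨huz, ?_⟩
      rw [hgood, List.mem_toFinset, List.mem_map]
      exact ⟨r, List.mem_filter.2 ⟨hr, (hrow r hr huz hru.symm hconj).1 hz⟩, hru⟩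
    · rintro ⟨huz, hu⟩
      rw [hgood, List.mem_toFinset, List.mem_map] at hu
      obtain ⟨r, hr, hru⟩ := hu
      obtain ⟨hr, hrg⟩ := List.mem_filter.1 hr
      have hall : code S u ∈ allC := by rw [← hcodes, List.mem_map]; exact ⟨r, hr, hru⟩
      have hconj := conj_of_code S huz hall
      exact ⟨hconj, huz, (hrow r hr huz hru.symm hconj).2 hrg⟩
  rw [Nat.card_congr (Equiv.subtypeEquivRight hP), Nat.card_eq_fintype_card, Fintype.card_subtype]
  rw [Finset.card_eq_sum_card_fiberwise (f := code S) (t := good)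
    (fun u hu => (Finset.mem_filter.1 hu).2.2)]
  rw [Finset.sum_congr rfl (g := fun _ => 2) ?_, Finset.sum_const, hgc]
  · rfl
  intro c hc
  have hcA : c ∈ allC := by
    rw [hgood, List.mem_toFinset, List.mem_map] at hc
    obtain ⟨r, hr, rfl⟩ := hc
    rw [← hcodes]
    exact List.mem_map.2 ⟨r, (List.mem_filter.1 hr).1, rfl⟩
  obtain ⟨u0, hu0z, hu0⟩ := code_exists S hcA
  have hne : u0 ≠ u0 * z := fun e => S.h.ne_one (mul_eq_left.1 e.symm)
  rw [← Finset.card_pair hne]
  congr 1
  ext u
  simp only [Finset.mem_filter, Finset.mem_univ, true_and, Finset.mem_insert, Finset.mem_singleton]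
  constructor
  · rintro ⟨⟨huz, -⟩, huc⟩
    exact code_inj S hu0z huz (hu0.trans huc.symm)
  · rintro (rfl | rfl)
    · exact ⟨⟨hu0z, hu0 ▸ hc⟩, hu0⟩
    · exact ⟨⟨mul_z hu0z rfl, by rw [code_mul_z, hu0]; exact hc⟩, by rw [code_mul_z, hu0]⟩

end Cfsg.Agent.SuzukiLocal.CZ
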