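import Mathlib

/-!
Pairs of involutions: the conjugating power for an odd product, the central involution for an even one.
-/

set_option autoImplicit false

namespace Cfsg.Agent.SuzukiLocal

variable {G : Type*} [Group G] {u v : G}

theorem prod_flip (hu : u * u = 1) (hv : v * v = 1) (j : ℕ) : u * (u * v) ^ j * u = ((u * v) ^ j)⁻¹ := by
  induction j with
  | zero => simp [hu]
  | succ j ih =>
    have h1 : u * (u * v) * u = (u * v)⁻¹ := by
      rw [← mul_assoc, hu, one_mul, mul_inv_rev, inv_eq_of_mul_eq_one_right hu,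
        inv_eq_of_mul_eq_one_right hv]
    generalize u * v = r at h1 ih ⊢
    calc u * r ^ (j + 1) * u = u * (r ^ j * r) * u := by rw [pow_succ]
      _ = u * (r ^ j * (u * u) * r) * u := by rw [hu, mul_one]
      _ = (u * r ^ j * u) * (u * r * u) := by simp only [mul_assoc]
      _ = _ := by rw [ih, h1, pow_succ', mul_inv_rev]

theorem pow_conj (hu : u * u = 1) (hv : v * v = 1) (j : ℕ) :
    (u * v) ^ j * u * ((u * v) ^ j)⁻¹ = (u * v) ^ (j + j) * u := by
  rw [pow_add, mul_assoc, mul_assoc]
  congr 1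
  rw [← prod_flip hu hv j]
  simp only [mul_assoc]
  rw [← mul_assoc u u, hu, one_mul]

/-- For an odd product the two involutions are conjugate by a power of it. -/
theorem odd_conj (hu : u * u = 1) (hv : v * v = 1) (h : Odd (orderOf (u * v))) :
    ∃ j : ℕ, (u * v) ^ j * u * ((u * v) ^ j)⁻¹ = v := by
  obtain ⟨k, hk⟩ := h
  refine ⟨k, ?_⟩
  have hn := pow_orderOf_eq_one (u * v)
  rw [hk, pow_succ, two_mul] at hn
  rw [pow_conj hu hv, eq_inv_of_mul_eq_one_left hn, mul_inv_rev, inv_eq_of_mul_eq_one_right hu,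
    inv_eq_of_mul_eq_one_right hv, mul_assoc, hu, mul_one]

/-- For an even product its middle power is a central involution. -/
theorem middle [Finite G] (hu : u * u = 1) (hv : v * v = 1) (h : Even (orderOf (u * v))) :
    let w := (u * v) ^ (orderOf (u * v) / 2)
    w * w = 1 ∧ w ≠ 1 ∧ w * u = u * w ∧ w * v = v * w ∧
      ∃ j : ℕ, (Even (orderOf (u * v) / 2) ∧ (u * v) ^ j * u * ((u * v) ^ j)⁻¹ = w * u) ∨
        (Odd (orderOf (u * v) / 2) ∧ (u * v) ^ j * v * ((u * v) ^ j)⁻¹ = w * u) := by
  intro w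
  have hpos := orderOf_pos (u * v)
  obtain ⟨m, hm⟩ := h
  have hm2 : orderOf (u * v) / 2 = m := by omega
  have hww : w * w = 1 := by
    show (u * v) ^ (orderOf (u * v) / 2) * (u * v) ^ (orderOf (u * v) / 2) = 1
    rw [hm2, ← pow_add, ← hm, pow_orderOf_eq_one]
  have hw1 : w ≠ 1 := pow_ne_one_of_lt_orderOf (by omega) (by omega)
  have hwu : w * u = u * w := by
    have h1 : u * w * u = w⁻¹ := prod_flip hu hv _
    rw [inv_eq_of_mul_eq_one_right hww] at h1
    have h2 := congrArg (fun g => g * u) h1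
    simp only [mul_assoc, hu, mul_one] at h2
    exact h2.symm
  have hwr : Commute w (u * v) := (Commute.refl (u * v)).pow_left _
  have hwv : w * v = v * w := by
    rw [show v = u * (u * v) by rw [← mul_assoc, hu, one_mul]]
    exact ((show Commute w u from hwu).mul_right hwr).eq
  refine ⟨hww, hw1, hwu, hwv, ?_⟩
  rcases Nat.even_or_odd m with ⟨j, hj⟩ | ⟨j, hj⟩
  · refine ⟨j, Or.inl ⟨hm2 ▸ ⟨j, hj⟩, ?_⟩⟩
    rw [pow_conj hu hv, ← hj]
    show _ = (u * v) ^ (orderOf (u * v) / 2) * u
    rw [hm2]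
  · refine ⟨j + 1, Or.inr ⟨hm2 ▸ ⟨j, hj⟩, ?_⟩⟩
    show _ = (u * v) ^ (orderOf (u * v) / 2) * u
    rw [hm2, hj]
    have hur : u * (u * v) = v := by rw [← mul_assoc, hu, one_mul]
    have hc := pow_conj hu hv j
    calc (u * v) ^ (j + 1) * v * ((u * v) ^ (j + 1))⁻¹
        = (u * v) ^ j * (u * v) * (u * (u * v)) * ((u * v) ^ j * (u * v))⁻¹ := by rw [hur, pow_succ]
      _ = (u * v) ^ j * (u * v) * u * ((u * v) ^ j)⁻¹ := by
          generalize (u * v) ^ j = A
          group
      _ = (u * v) * ((u * v) ^ j * u * ((u * v) ^ j)⁻¹) := by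
          rw [← ((Commute.refl (u * v)).pow_right j).eq]
          simp only [mul_assoc]
      _ = _ := by rw [hc, ← mul_assoc, ← pow_succ', show 2 * j + 1 = j + j + 1 by omega]

/-- A power of a product of involutions commutes with whatever commutes with both. -/
theorem pow_prod_comm {x : G} (hu : x * u = u * x) (hv : x * v = v * x) (j : ℕ) :
    (u * v) ^ j * x = x * (u * v) ^ j :=
  ((((show Commute x u from hu).mul_right (show Commute x v from hv))).pow_right j).symm.eq

end Cfsg.Agent.SuzukiLocal
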