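import Mathlib

/-!
A group acting on an abelian group of order 25 and permuting three lines: the quotient of order 24.
-/

set_option autoImplicit false
set_option linter.all false

namespace Cfsg.Agent.SuzukiLocal

open Subgroup

universe u

variable {G : Type u} [Group G]

theorem map_conj_eq_iff (B : Subgroup G) (x : G) :
    B.map (MulAut.conj x).toMonoidHom = B ↔ x ∈ normalizer (B : Set G) := by
  rw [mem_normalizer_iff]
  constructor
  · intro h y
    nth_rw 2 [← h]
    rw [Subgroup.mem_map_equiv, MulAut.conj_symm_apply, show x⁻¹ * (x * y * x⁻¹) * x = y by group]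
  · intro h
    ext y
    rw [Subgroup.mem_map_equiv, MulAut.conj_symm_apply, h (x⁻¹ * y * x), show x * (x⁻¹ * y * x) * x⁻¹ = y by group]

theorem map_conj_mul (B : Subgroup G) (x y : G) :
    (B.map (MulAut.conj x).toMonoidHom).map (MulAut.conj y).toMonoidHom = B.map (MulAut.conj (y * x)).toMonoidHom := by
  rw [Subgroup.map_map]
  congr 1
  ext w
  simp [mul_assoc]

variable [Finite G]

/-- Subgroups of order five meet trivially. -/
theorem eq_of_five {A B : Subgroup G} (hA : Nat.card A = 5) (hB : Nat.card B = 5) {x : G} (hxA : x ∈ A) (hxB : x ∈ B)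
    (hx : x ≠ 1) : A = B := by
  haveI : Fact (Nat.card A).Prime := ⟨by rw [hA]; norm_num⟩
  haveI : Fact (Nat.card B).Prime := ⟨by rw [hB]; norm_num⟩
  rcases Subgroup.eq_bot_or_eq_top_of_prime_card ((A ⊓ B).subgroupOf A) with h | h
  · exact absurd (congrArg Subtype.val (show (⟨x, hxA⟩ : A) = 1 from mem_bot.1 (h ▸ mem_subgroupOf.2 ⟨hxA, hxB⟩))) hx
  · have h1 : A ≤ A ⊓ B := subgroupOf_eq_top.1 h
    exact eq_of_le_of_card_ge (h1.trans inf_le_right) (by rw [hA, hB])

/-- The structure of the quotient. -/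
theorem perm_quot {P : Subgroup G} (hP : Nat.card P = 25) (hab : ∀ x ∈ P, ∀ y ∈ P, x * y = y * x)
    (hC : centralizer (P : Set G) ≤ P) (hN : Nat.card (normalizer (P : Set G)) = 600) (B : Fin 3 → Subgroup G)
    (hB5 : ∀ i, Nat.card (B i) = 5) (hBP : ∀ i, B i ≤ P) (hinj : Function.Injective B)
    (hperm : ∀ x ∈ normalizer (P : Set G), ∀ i, ∃ j, (B i).map (MulAut.conj x).toMonoidHom = B j) :
    Nonempty (↥(normalizer (P : Set G)) ⧸ P.subgroupOf (normalizer (P : Set G)) ≃*
      Multiplicative (ZMod 4) × Equiv.Perm (Fin 3)) := by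
  classical
  haveI : Fact (Nat.Prime 5) := ⟨Nat.prime_five⟩
  haveI : Fact (1 < 5) := ⟨by norm_num⟩
  have hdis : ∀ i j, ∀ x : G, x ∈ B i → x ∈ B j → x ≠ 1 → i = j := fun i j x hi hj hx =>
    hinj (eq_of_five (hB5 i) (hB5 j) hi hj hx)
  -- every element of `P` is a product from the last two lines
  have hsplit : ∀ w ∈ P, ∃ u v : G, u ∈ B 1 ∧ v ∈ B 2 ∧ w = u * v := by
    let f : B 1 × B 2 → P := fun p => ⟨(p.1 : G) * p.2, mul_mem (hBP 1 p.1.2) (hBP 2 p.2.2)⟩
    have hf : Function.Injective f := by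
      rintro ⟨u, v⟩ ⟨u', v'⟩ h
      have h1 : (u : G) * v = u' * v' := congrArg Subtype.val h
      have h2 : (u' : G)⁻¹ * u = v' * (v : G)⁻¹ := by
        rw [eq_mul_inv_iff_mul_eq, mul_assoc, h1, inv_mul_cancel_left]
      have h3 : (u' : G)⁻¹ * u = 1 := by
        by_contra h4
        exact absurd (hdis 1 2 _ (mul_mem (inv_mem u'.2) u.2) (h2 ▸ mul_mem v'.2 (inv_mem v.2)) h4) (by decide)
      refine Prod.ext (Subtype.ext (inv_mul_eq_one.1 h3).symm) (Subtype.ext ?_)
      rw [h3] at h2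
      exact (mul_inv_eq_one.1 h2.symm).symm
    haveI := Fintype.ofFinite (B 1 × B 2)
    haveI := Fintype.ofFinite P
    have hb : Function.Bijective f := (Fintype.bijective_iff_injective_and_card f).2
      ⟨hf, by rw [← Nat.card_eq_fintype_card, ← Nat.card_eq_fintype_card, Nat.card_prod, hB5, hB5, hP]⟩
    intro w hw
    obtain ⟨⟨u, v⟩, h⟩ := hb.2 ⟨w, hw⟩
    exact ⟨u, v, u.2, v.2, (congrArg Subtype.val h).symm⟩
  -- three generators with product one
  obtain ⟨b₀, hb₀⟩ := exists_prime_orderOf_dvd_card' (G := B 0) 5 (by rw [hB5])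
  obtain ⟨b₁, b₂, hb₁, hb₂, hprod⟩ := hsplit (b₀ : G)⁻¹ (inv_mem (hBP 0 b₀.2))
  have hb₀1 : (b₀ : G) ≠ 1 := fun e => by
    rw [show b₀ = 1 from Subtype.ext e, orderOf_one] at hb₀; norm_num at hb₀
  have hb₁1 : b₁ ≠ 1 := fun e => by
    rw [e, one_mul] at hprod
    exact absurd (hdis 0 2 _ (inv_mem b₀.2) (hprod ▸ hb₂) (inv_ne_one.2 hb₀1)) (by decide)
  have hb₂1 : b₂ ≠ 1 := fun e => by
    rw [e, mul_one] at hprod
    exact absurd (hdis 0 1 _ (inv_mem b₀.2) (hprod ▸ hb₁) (inv_ne_one.2 hb₀1)) (by decide)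
  let b : Fin 3 → G := ![(b₀ : G), b₁, b₂]
  have hbB : ∀ i, b i ∈ B i := by
    intro i; fin_cases i
    · exact b₀.2
    · exact hb₁
    · exact hb₂
  have hb1 : ∀ i, b i ≠ 1 := by
    intro i; fin_cases i
    · exact hb₀1
    · exact hb₁1
    · exact hb₂1
  have hbo : ∀ i, orderOf (b i) = 5 := fun i => by
    have h := orderOf_dvd_natCard (⟨b i, hbB i⟩ : B i)
    rw [Subgroup.orderOf_mk, hB5] at h
    exact ((Nat.dvd_prime Nat.prime_five).1 h).resolve_left fun e => hb1 i (orderOf_eq_one_iff.1 e)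
  have hBz : ∀ i, B i = zpowers (b i) := fun i =>
    (eq_of_le_of_card_ge (zpowers_le.2 (hbB i)) (by rw [Nat.card_zpowers, hbo, hB5])).symm
  -- existence of the scalar and the permutation
  have hex : ∀ x : ↥(normalizer (P : Set G)), ∃ p : (ZMod 5)ˣ × Equiv.Perm (Fin 3),
      ∀ i, (x : G) * b i * (x : G)⁻¹ = b (p.2 i) ^ (p.1 : ZMod 5).val := by
    intro x
    choose π hπ using hperm x x.2
    have hπi : Function.Injective π := fun i j h =>
      hinj (Subgroup.map_injective (f := (MulAut.conj (x : G)).toMonoidHom) (MulAut.conj (x : G)).injective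
        (by rw [hπ i, hπ j, h]))
    let σ : Equiv.Perm (Fin 3) := Equiv.ofBijective π (Finite.injective_iff_bijective.1 hπi)
    let d : Fin 3 → G := fun j => (x : G) * b (σ.symm j) * (x : G)⁻¹
    have hdB : ∀ j, d j ∈ B j := fun j => by
      have : (MulAut.conj (x : G)).toMonoidHom (b (σ.symm j)) ∈ (B (σ.symm j)).map (MulAut.conj (x : G)).toMonoidHom :=
        mem_map_of_mem _ (hbB _)
      rw [hπ, show π (σ.symm j) = j from σ.apply_symm_apply j] at this
      exact this
    have hdd : d 0 * d 1 * d 2 = 1 := by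
      have hc : ∀ i j, Commute (b i) (b j) := fun i j => hab _ (hBP i (hbB i)) _ (hBP j (hbB j))
      have h0 : b 0 * b 1 * b 2 = 1 := by
        show (b₀ : G) * b₁ * b₂ = 1
        rw [mul_assoc, ← hprod, mul_inv_cancel]
      have hd : ∀ i j, d i * d j = (x : G) * (b (σ.symm i) * b (σ.symm j)) * (x : G)⁻¹ := fun i j => by
        show (x : G) * b (σ.symm i) * (x : G)⁻¹ * ((x : G) * b (σ.symm j) * (x : G)⁻¹) = _
        group
      have key : ∀ a c e : Fin 3, a ≠ c → a ≠ e → c ≠ e → b a * b c * b e = 1 := by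
        have c01 := (hc 0 1).eq; have c02 := (hc 0 2).eq; have c12 := (hc 1 2).eq
        intro a c e h1 h2 h3
        fin_cases a <;> fin_cases c <;> fin_cases e <;> first | exact absurd rfl h1 | exact absurd rfl h2 | exact absurd rfl h3 | skip
        · exact h0
        · show b 0 * b 2 * b 1 = 1
          rw [mul_assoc, ← c12, ← mul_assoc]; exact h0
        · show b 1 * b 0 * b 2 = 1
          rw [← c01]; exact h0
        · show b 1 * b 2 * b 0 = 1
          rw [mul_assoc, ← c02, ← mul_assoc, ← c01]; exact h0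
        · show b 2 * b 0 * b 1 = 1
          rw [← c02, mul_assoc, ← c12, ← mul_assoc]; exact h0
        · show b 2 * b 1 * b 0 = 1
          rw [← c12, mul_assoc, ← c02, ← mul_assoc, ← c01]; exact h0
      have hne : ∀ i j : Fin 3, i ≠ j → σ.symm i ≠ σ.symm j := fun i j h e => h (σ.symm.injective e)
      rw [hd, show d 2 = (x : G) * b (σ.symm 2) * (x : G)⁻¹ from rfl,
        show (x : G) * (b (σ.symm 0) * b (σ.symm 1)) * (x : G)⁻¹ * ((x : G) * b (σ.symm 2) * (x : G)⁻¹) =
          (x : G) * (b (σ.symm 0) * b (σ.symm 1) * b (σ.symm 2)) * (x : G)⁻¹ by group,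
        key _ _ _ (hne 0 1 (by decide)) (hne 0 2 (by decide)) (hne 1 2 (by decide)), mul_one, mul_inv_cancel]
    obtain ⟨k, hk⟩ : ∃ k : ℕ, b 0 ^ k = d 0 := by
      have h := hdB 0
      rw [hBz, mem_zpowers_iff_mem_range_orderOf, Finset.mem_image] at h
      obtain ⟨k, -, hk⟩ := h
      exact ⟨k, hk⟩
    have hd12 : d 1 * d 2 = b 1 ^ k * b 2 ^ k := by
      rw [← (show Commute (b 1) (b 2) from hab _ (hBP 1 (hbB 1)) _ (hBP 2 (hbB 2))).mul_pow,
        show b 1 * b 2 = (b 0)⁻¹ from hprod.symm, inv_pow, hk]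
      exact eq_inv_of_mul_eq_one_right (by rw [← mul_assoc]; exact hdd)
    have h1 : d 1 = b 1 ^ k := by
      have h2 : (b 1 ^ k)⁻¹ * d 1 = b 2 ^ k * (d 2)⁻¹ := by
        rw [eq_mul_inv_iff_mul_eq, mul_assoc, hd12, inv_mul_cancel_left]
      by_contra h3
      exact absurd (hdis 1 2 _ (mul_mem (inv_mem (pow_mem (hbB 1) k)) (hdB 1))
        (h2 ▸ mul_mem (pow_mem (hbB 2) k) (inv_mem (hdB 2))) fun e => h3 (inv_mul_eq_one.1 e).symm) (by decide)
    have h2 : d 2 = b 2 ^ k := by rw [h1] at hd12; exact mul_left_cancel hd12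
    have hk0 : (k : ZMod 5) ≠ 0 := fun e => by
      rw [ZMod.natCast_eq_zero_iff] at e
      rw [orderOf_dvd_iff_pow_eq_one.1 ((hbo 0).symm ▸ e)] at hk
      exact hb1 _ (conj_eq_one_iff.1 hk.symm)
    refine ⟨(Units.mk0 (k : ZMod 5) hk0, σ), fun i => ?_⟩
    have hall : ∀ j, d j = b j ^ ((k : ZMod 5)).val := by
      intro j
      rw [ZMod.val_natCast, show k % 5 = k % orderOf (b j) by rw [hbo], pow_mod_orderOf]
      fin_cases j
      · exact hk.symm
      · exact h1
      · exact h2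
    have := hall (σ i)
    simp only [d, Equiv.symm_apply_apply] at this
    exact this
  choose p hp using hex
  have huniq : ∀ (x : ↥(normalizer (P : Set G))) (q : (ZMod 5)ˣ × Equiv.Perm (Fin 3)),
      (∀ i, (x : G) * b i * (x : G)⁻¹ = b (q.2 i) ^ (q.1 : ZMod 5).val) → p x = q := by
    intro x q hq
    have h2 : ∀ i, (p x).2 i = q.2 i := fun i => by
      have h := (hp x i).symm.trans (hq i)
      refine hdis _ _ _ (pow_mem (hbB ((p x).2 i)) ((p x).1 : ZMod 5).val)
        (h.symm ▸ pow_mem (hbB (q.2 i)) (q.1 : ZMod 5).val) fun e => hb1 i ?_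
      have h' := hp x i
      rw [e] at h'
      exact conj_eq_one_iff.1 h'
    refine Prod.ext (Units.ext ?_) (Equiv.ext h2)
    have h := (hp x 0).symm.trans (hq 0)
    rw [h2, pow_eq_pow_iff_modEq, hbo] at h
    exact ZMod.val_injective 5 (Nat.ModEq.eq_of_lt_of_lt h (ZMod.val_lt _) (ZMod.val_lt _))
  let Φ : ↥(normalizer (P : Set G)) →* (ZMod 5)ˣ × Equiv.Perm (Fin 3) := MonoidHom.mk' p fun x y => by
    refine huniq _ _ fun i => ?_
    show (x : G) * (y : G) * b i * ((x : G) * y)⁻¹ = b ((p x).2 ((p y).2 i)) ^ (((p x).1 * (p y).1 : (ZMod 5)ˣ) : ZMod 5).val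
    rw [show (x : G) * (y : G) * b i * ((x : G) * y)⁻¹ = (x : G) * ((y : G) * b i * (y : G)⁻¹) * (x : G)⁻¹ by group,
      hp y i, ← conj_pow, hp x, ← pow_mul, Units.val_mul, ZMod.val_mul, pow_eq_pow_iff_modEq, hbo]
    exact (Nat.mod_modEq _ _).symm
  have hker : Φ.ker = P.subgroupOf (normalizer (P : Set G)) := by
    ext x
    rw [MonoidHom.mem_ker, mem_subgroupOf]
    constructor
    · intro h
      refine hC (mem_centralizer_iff.2 fun w hw => ?_)
      have hc : ∀ i, b i ∈ centralizer ({(x : G)} : Set G) := fun i => mem_centralizer_singleton_iff.2 (by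
        have h' := hp x i
        rw [show p x = 1 from h] at h'
        rw [Prod.fst_one, Units.val_one, ZMod.val_one, pow_one] at h'
        exact (mul_inv_eq_iff_eq_mul.1 h').symm)
      obtain ⟨u, v, hu, hv, rfl⟩ := hsplit w hw
      rw [hBz] at hu hv
      exact mem_centralizer_singleton_iff.1 (mul_mem (zpowers_le.2 (hc 1) hu) (zpowers_le.2 (hc 2) hv))
    · intro hx
      refine huniq x 1 fun i => ?_
      rw [Prod.fst_one, Units.val_one, ZMod.val_one, pow_one, Prod.snd_one,
        Equiv.Perm.coe_one, id, hab _ hx _ (hBP i (hbB i)), mul_inv_cancel_right]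
  have hrange : Φ.range = ⊤ := by
    refine Subgroup.eq_top_of_card_eq _ ?_
    rw [← Subgroup.index_ker, hker, Nat.card_prod, Nat.card_perm, Nat.card_fin, Nat.card_units, Nat.card_zmod]
    have h := (P.subgroupOf (normalizer (P : Set G))).card_mul_index
    rw [Nat.card_congr (subgroupOfEquivOfLe le_normalizer).toEquiv, hP, hN] at h
    norm_num [Nat.factorial]
    omega
  haveI : IsCyclic (ZMod 5)ˣ := inferInstance
  have h4 : Nat.card (ZMod 5)ˣ = Nat.card (Multiplicative (ZMod 4)) := by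
    rw [Nat.card_units, Nat.card_zmod, Nat.card_congr (Multiplicative.toAdd), Nat.card_zmod]
  exact ⟨(QuotientGroup.quotientMulEquivOfEq hker.symm).trans ((QuotientGroup.quotientKerEquivRange Φ).trans
    ((MulEquiv.subgroupCongr hrange).trans (Subgroup.topEquiv.trans
      (MulEquiv.prodCongr (mulEquivOfCyclicCardEq h4) (MulEquiv.refl _)))))⟩

end Cfsg.Agent.SuzukiLocal
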