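import Cfsg.Agent.Lib.SuzukiLocal.Centralizers
import Cfsg.Agent.Lib.SuzukiLocal.FivePerm

/-!
The Sylow 5-normalizer of a group of Suzuki sporadic type.
-/

set_option autoImplicit false
set_option linter.all false

namespace Cfsg.Agent.SuzukiLocal

open Subgroup

universe u

variable {G : Type u} [Group G] [Finite G]

/-- The subgroups of order five in a subgroup. -/
abbrev Line (P : Subgroup G) : Type u := {S : Subgroup G // Nat.card S = 5 ∧ S ≤ P}

theorem card_lines_le {P : Subgroup G} (hP : Nat.card P = 25) : Nat.card (Line P) ≤ 6 := by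
  classical
  haveI : Fact (Nat.Prime 5) := ⟨Nat.prime_five⟩
  haveI := Fintype.ofFinite P
  have hgen : ∀ S : Line P, ∃ g : S.1, orderOf g = 5 := fun S => exists_prime_orderOf_dvd_card' 5 (by rw [S.2.1])
  choose g hg using hgen
  have hgo : ∀ S : Line P, orderOf (g S : G) = 5 := fun S => by rw [Subgroup.orderOf_coe, hg]
  have hne : ∀ (S : Line P) (j : Fin 4), (g S : G) ^ ((j : ℕ) + 1) ≠ 1 := fun S j e => by
    have h := orderOf_dvd_of_pow_eq_one e
    rw [hgo] at h
    have := Nat.le_of_dvd (by omega) h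
    omega
  let f : Line P × Fin 4 → {x : P // x ≠ 1} := fun p =>
    ⟨⟨(g p.1 : G) ^ ((p.2 : ℕ) + 1), pow_mem (p.1.2.2 (g p.1).2) _⟩, fun e => hne p.1 p.2 (congrArg Subtype.val e)⟩
  have hf : Function.Injective f := by
    rintro ⟨S, j⟩ ⟨S', j'⟩ h
    have h1 : (g S : G) ^ ((j : ℕ) + 1) = (g S' : G) ^ ((j' : ℕ) + 1) := congrArg (fun x : {x : P // x ≠ 1} => ((x.1 : P) : G)) h
    have hS : S = S' := Subtype.ext (eq_of_five S.2.1 S'.2.1 (pow_mem (g S).2 _) (h1 ▸ pow_mem (g S').2 _) (hne S j))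
    subst hS
    rw [pow_eq_pow_iff_modEq, hgo] at h1
    refine Prod.ext rfl (Fin.ext ?_)
    have h2 := j.2; have h3 := j'.2
    unfold Nat.ModEq at h1
    show (j : ℕ) = j'
    omega
  have h := Nat.card_le_card_of_injective f hf
  rw [Nat.card_prod, Nat.card_fin, Nat.card_eq_fintype_card (α := {x : P // x ≠ 1}), Fintype.card_subtype_compl,
    Fintype.card_subtype_eq, ← Nat.card_eq_fintype_card, hP] at h
  omega

/-- The conjugates of a line under a subgroup normalizing `P`. -/
theorem exists_orbit {P : Subgroup G} (B : Line P) :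
    ∃ f : ↥(normalizer (P : Set G)) ⧸
        (normalizer (B.1 : Set G)).subgroupOf (normalizer (P : Set G)) → Line P,
      Function.Injective f ∧
      ∀ x : ↥(normalizer (P : Set G)), (f (QuotientGroup.mk x)).1 = B.1.map (MulAut.conj (x : G)).toMonoidHom := by
  set N := normalizer (P : Set G) with hN
  let m : N → Line P := fun x => ⟨B.1.map (MulAut.conj (x : G)).toMonoidHom, by
    rw [card_map_of_injective (f := (MulAut.conj (x : G)).toMonoidHom) (MulAut.conj (x : G)).injective, B.2.1], by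
    exact (map_mono B.2.2).trans (le_of_eq ((map_conj_eq_iff P x).2 x.2))⟩
  have key : ∀ x y : N, m x = m y ↔ x⁻¹ * y ∈ (normalizer (B.1 : Set G)).subgroupOf N := by
    intro x y
    rw [mem_subgroupOf, ← map_conj_eq_iff, Subgroup.coe_mul, Subgroup.coe_inv]
    constructor
    · intro h
      have h' : B.1.map (MulAut.conj (x : G)).toMonoidHom = B.1.map (MulAut.conj (y : G)).toMonoidHom :=
        congrArg Subtype.val h
      rw [← map_conj_mul, ← h', map_conj_mul, inv_mul_cancel, (map_conj_eq_iff _ _).2 (one_mem _)]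
    · intro h
      apply Subtype.ext
      show B.1.map _ = B.1.map _
      nth_rw 1 [← h]
      rw [map_conj_mul, mul_inv_cancel_left]
  refine ⟨fun q => Quotient.liftOn' q m fun x y h => (key x y).2 (QuotientGroup.leftRel_apply.1 h), ?_, fun x => rfl⟩
  intro q q'
  refine Quotient.inductionOn₂' q q' fun x y h => ?_
  exact Quotient.sound' (QuotientGroup.leftRel_apply.2 ((key x y).1 h))

theorem card_subgroupOf (H K : Subgroup G) : Nat.card (H.subgroupOf K) = Nat.card (H ⊓ K : Subgroup G) := by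
  rw [← inf_subgroupOf_right]
  exact Nat.card_congr (subgroupOfEquivOfLe inf_le_right).toEquiv

namespace Facts

variable {z t : G} {E : Subgroup G} (F : Facts z t E)
include F

theorem five_card (P : Sylow 5 G) : Nat.card (P : Subgroup G) = 25 := by
  haveI : Fact (Nat.Prime 5) := ⟨Nat.prime_five⟩
  rw [Sylow.card_eq_multiplicity, F.card_G, show (448345497600 : ℕ) = 5 ^ 2 * 17933819904 by norm_num,
    Nat.factorization_mul (by norm_num) (by norm_num), Finsupp.add_apply,
    Nat.Prime.factorization_pow Nat.prime_five, Nat.factorization_eq_zero_of_not_dvd (by norm_num : ¬ 5 ∣ 17933819904)]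
  simp

theorem five_comm (P : Sylow 5 G) : ∀ x ∈ (P : Subgroup G), ∀ y ∈ (P : Subgroup G), x * y = y * x := by
  haveI : Fact (Nat.Prime 5) := ⟨Nat.prime_five⟩
  haveI := IsPGroup.isMulCommutative_of_card_eq_prime_sq (p := 5) (G := (P : Subgroup G))
    (by rw [F.five_card P]; norm_num)
  exact fun x hx y hy => congrArg Subtype.val (mul_comm' (⟨x, hx⟩ : (P : Subgroup G)) ⟨y, hy⟩)

theorem sylow_cent {b : G} (hb : LineOK b) (P : Sylow 5 G) (hbP : b ∈ (P : Subgroup G)) :
    centralizer ((P : Subgroup G) : Set G) ≤ P ∧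
      Nat.card (normalizer ((P : Subgroup G) : Set G) ⊓ centralizer ({b} : Set G) : Subgroup G) = 50 := by
  haveI : Fact (Nat.Prime 5) := ⟨Nat.prime_five⟩
  set C := centralizer ({b} : Set G) with hC
  have hPC : (P : Subgroup G) ≤ C := fun x hx => mem_centralizer_singleton_iff.2 (F.five_comm P x hx b hbP)
  set P' := (P : Subgroup G).subgroupOf C with hP'
  have hP'c : Nat.card P' = 25 := by rw [Nat.card_congr (subgroupOfEquivOfLe hPC).toEquiv, F.five_card P]
  have hsurj : Function.Surjective (proj b) := QuotientGroup.mk'_surjective _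
  have hcomap : ∀ M : Subgroup (Quot' b), Nat.card (M.comap (proj b)) = Nat.card M * 5 := by
    intro M
    have h1 := (M.comap (proj b)).card_mul_index
    rw [Subgroup.index_comap_of_surjective M hsurj, card_quot, hb.order] at h1
    have h2 := M.card_mul_index
    refine Nat.eq_of_mul_eq_mul_right (Nat.pos_of_ne_zero M.index_ne_zero_of_finite) ?_
    rw [h1, ← h2]; ring
  have hker : (P'.map (proj b)).comap (proj b) = P' := by
    refine Subgroup.comap_map_eq_self ?_
    rw [QuotientGroup.ker_mk']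
    intro y hy
    rw [mem_subgroupOf] at hy ⊢
    exact zpowers_le.2 hbP hy
  have hM5 : Nat.card (P'.map (proj b)) = 5 := by
    have := hcomap (P'.map (proj b))
    rw [hker, hP'c] at this
    omega
  obtain ⟨l', hl'⟩ := exists_prime_orderOf_dvd_card' (G := P'.map (proj b)) 5 (by rw [hM5])
  set l : Quot' b := (l' : Quot' b) with hl0
  have hl : orderOf l = 5 := by rw [hl0, Subgroup.orderOf_coe, hl']
  have hM : zpowers l = P'.map (proj b) :=
    eq_of_le_of_card_ge (zpowers_le.2 l'.2) (by rw [Nat.card_zpowers, hl, hM5])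
  obtain ⟨hq1, hq2⟩ := hb.quot l hl
  constructor
  · intro x hx
    have hxC : x ∈ C := mem_centralizer_singleton_iff.2 (mem_centralizer_iff.1 hx b hbP).symm
    have hCl : centralizer ({l} : Set (Quot' b)) = P'.map (proj b) := by
      rw [← hM]
      exact (eq_of_le_of_card_ge (zpowers_le.2 (mem_centralizer_singleton_iff.2 rfl))
        (by rw [Nat.card_zpowers, hl, hq1])).symm
    obtain ⟨y, hy, hyl⟩ : ∃ y ∈ P', proj b y = l := mem_map.1 l'.2
    have h1 : (⟨x, hxC⟩ : C) ∈ (centralizer ({l} : Set (Quot' b))).comap (proj b) := by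
      rw [mem_comap, mem_centralizer_singleton_iff, ← hyl, ← map_mul, ← map_mul]
      exact congrArg _ (Subtype.ext (mem_centralizer_iff.1 hx _ (mem_subgroupOf.1 hy)).symm)
    rw [hCl, hker] at h1
    exact mem_subgroupOf.1 h1
  · have h1 : normalizer (P' : Set C) = (normalizer ((P : Subgroup G) : Set G)).subgroupOf C := by
      ext x
      rw [mem_subgroupOf, mem_normalizer_iff, mem_normalizer_iff]
      constructor
      · intro h y
        constructor
        · intro hy
          exact mem_subgroupOf.1 ((h ⟨y, hPC hy⟩).1 (mem_subgroupOf.2 hy))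
        · intro hy
          have hyC : y ∈ C := by
            rw [show y = (x : G)⁻¹ * ((x : G) * y * (x : G)⁻¹) * x by group]
            exact mul_mem (mul_mem (inv_mem x.2) (hPC hy)) x.2
          exact mem_subgroupOf.1 ((h ⟨y, hyC⟩).2 (mem_subgroupOf.2 hy))
      · intro h y
        exact h y
    have h2 : Nat.card (normalizer (P' : Set C)) = 50 := by
      rw [← hker, ← Subgroup.comap_normalizer_eq_of_surjective _ hsurj, hcomap, ← hM, hq2]
    rw [← h2, h1, card_subgroupOf]

/-- Every Sylow 5-subgroup holds a conjugate of a good element, with the same properties. -/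
theorem at_sylow {b₀ : G} (hb : LineOK b₀) (P : Sylow 5 G) :
    ∃ h : G, h * b₀ * h⁻¹ ∈ (P : Subgroup G) ∧ centralizer ((P : Subgroup G) : Set G) ≤ P ∧
      Nat.card (normalizer ((P : Subgroup G) : Set G) ⊓ centralizer ({h * b₀ * h⁻¹} : Set G) : Subgroup G) = 50 := by
  haveI : Fact (Nat.Prime 5) := ⟨Nat.prime_five⟩
  obtain ⟨P₀, hP₀⟩ := (IsPGroup.of_card (G := zpowers b₀) (n := 1)
    (by rw [Nat.card_zpowers, hb.order, pow_one])).exists_le_sylow
  obtain ⟨h1, h2⟩ := F.sylow_cent hb P₀ (hP₀ (mem_zpowers _))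
  obtain ⟨h, hh⟩ := MulAction.exists_smul_eq G P₀ P
  have hPm : (P : Subgroup G) = (P₀ : Subgroup G).map (MulAut.conj h).toMonoidHom := by rw [← hh]; rfl
  have hnm : normalizer ((P : Subgroup G) : Set G) =
      (normalizer ((P₀ : Subgroup G) : Set G)).map (MulAut.conj h).toMonoidHom := by
    rw [hPm, Subgroup.map_equiv_normalizer_eq]
  refine ⟨h, hPm ▸ mem_map_of_mem _ (hP₀ (mem_zpowers b₀)), ?_, ?_⟩
  · intro x hx
    rw [hPm, Subgroup.mem_map_equiv, MulAut.conj_symm_apply]
    refine h1 (mem_centralizer_iff.2 fun w hw => ?_)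
    have h3 := mem_centralizer_iff.1 hx (h * w * h⁻¹) (hPm ▸ mem_map_of_mem _ hw)
    calc w * (h⁻¹ * x * h) = h⁻¹ * ((h * w * h⁻¹) * x) * h := by group
      _ = h⁻¹ * (x * (h * w * h⁻¹)) * h := by rw [h3]
      _ = _ := by group
  · rw [hnm, ← map_centralizer_conj, ← map_inf _ _ (MulAut.conj h).toMonoidHom (MulAut.conj h).injective,
      card_map_of_injective (f := (MulAut.conj h).toMonoidHom) (MulAut.conj h).injective, h2]

/-- The Sylow 5-normalizer and the two classes. -/
theorem five_main (P : Sylow 5 G) :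
    ∃ b l : G, orderOf b = 5 ∧ orderOf l = 5 ∧ b ∈ (P : Subgroup G) ∧ l ∈ (P : Subgroup G) ∧
      centralizer ((P : Subgroup G) : Set G) ≤ P ∧
      ¬ 7 ∣ Nat.card (centralizer ({b} : Set G)) ∧ ¬ 7 ∣ Nat.card (centralizer ({l} : Set G)) ∧
      (∀ g : G, (zpowers b).map (MulAut.conj g).toMonoidHom ≠ zpowers l) ∧
      Nat.card (normalizer ((P : Subgroup G) : Set G)) = 600 ∧
      Nat.card (normalizer ((P : Subgroup G) : Set G) ⊓ normalizer (zpowers b : Set G) : Subgroup G) = 200 ∧
      ∀ S : Line (P : Subgroup G), ∃ x ∈ normalizer ((P : Subgroup G) : Set G),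
        (zpowers b).map (MulAut.conj x).toMonoidHom = S.1 ∨ (zpowers l).map (MulAut.conj x).toMonoidHom = S.1 := by
  classical
  haveI : Fact (Nat.Prime 5) := ⟨Nat.prime_five⟩
  obtain ⟨b₅, i, s, hb₅, hb₅z, hcard, hall, ⟨g, hg⟩, -, hib, hii, hsb, hss, hinv⟩ := F.exists_five
  have hL₅ : LineOK b₅ := F.five_line hb₅ hb₅z hcard hall hib hii hsb hss hinv
  obtain ⟨bt, hbt, hbtt, hbtE, hbtc⟩ := F.exists_t_elt 5 (Or.inl rfl)
  have hLt : LineOK bt := F.t_line hb₅ hb₅z hall hbt hbtt hbtE hbtc
  obtain ⟨h₁, hbP, hCP, hb50⟩ := F.at_sylow hL₅ P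
  obtain ⟨h₂, hlP, -, hl50⟩ := F.at_sylow hLt P
  set b := h₁ * b₅ * h₁⁻¹ with hbdef
  set l := h₂ * bt * h₂⁻¹ with hldef
  have hbo : orderOf b = 5 := by rw [hbdef, show h₁ * b₅ * h₁⁻¹ = MulAut.conj h₁ b₅ from rfl, MulEquiv.orderOf_eq, hb₅]
  have hlo : orderOf l = 5 := by rw [hldef, show h₂ * bt * h₂⁻¹ = MulAut.conj h₂ bt from rfl, MulEquiv.orderOf_eq, hbt]
  have hb7 : ¬ 7 ∣ Nat.card (centralizer ({b} : Set G)) := by rw [hbdef, card_cent_conj]; exact hL₅.not_seven
  have hl7 : ¬ 7 ∣ Nat.card (centralizer ({l} : Set G)) := by rw [hldef, card_cent_conj]; exact hLt.not_seven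
  have hnc : ∀ g : G, (zpowers b).map (MulAut.conj g).toMonoidHom ≠ zpowers l := by
    intro c hc
    rw [zpowers_conj, hbdef, hldef] at hc
    set d := h₂⁻¹ * (c * h₁) with hd
    have h3 : zpowers (d * b₅ * d⁻¹) = zpowers bt := by
      have := congrArg (Subgroup.map (MulAut.conj h₂⁻¹).toMonoidHom) hc
      rw [zpowers_conj, zpowers_conj] at this
      rw [show d * b₅ * d⁻¹ = h₂⁻¹ * (c * (h₁ * b₅ * h₁⁻¹) * c⁻¹) * (h₂⁻¹)⁻¹ by rw [hd]; group,
        show bt = h₂⁻¹ * (h₂ * bt * h₂⁻¹) * (h₂⁻¹)⁻¹ by group]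
      exact this
    set w := d⁻¹ * t * d with hw
    have hw2 : orderOf w = 2 := by
      rw [hw, show d⁻¹ * t * d = MulAut.conj d⁻¹ t by simp, MulEquiv.orderOf_eq, F.t_two]
    have hwb : w * b₅ = b₅ * w := by
      have h4 : t ∈ centralizer ({d * b₅ * d⁻¹} : Set G) := by
        rw [cent_congr h3]; exact mem_centralizer_singleton_iff.2 hbtt.symm
      have h5 := mem_centralizer_singleton_iff.1 h4
      rw [hw]
      calc d⁻¹ * t * d * b₅ = d⁻¹ * (t * (d * b₅ * d⁻¹)) * d := by group
        _ = d⁻¹ * (d * b₅ * d⁻¹ * t) * d := by rw [h5]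
        _ = _ := by group
    exact F.nconj ((hall w hw2 hwb).symm.trans (isConj_iff.2 ⟨d, by rw [hw]; group⟩))
  -- an element squaring `b` in the normalizer
  obtain ⟨x, hxN, hxb⟩ : ∃ x ∈ normalizer ((P : Subgroup G) : Set G), x * b * x⁻¹ = b ^ 2 := by
    set g' := h₁ * g * h₁⁻¹ with hg'
    have hg'b : g' * b * g'⁻¹ = b ^ 2 := by
      rw [hg', hbdef, conj_pow, ← hg]; group
    set C := centralizer ({b} : Set G) with hC
    have hPC : (P : Subgroup G) ≤ C := fun y hy => mem_centralizer_singleton_iff.2 (F.five_comm P y hy b hbP)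
    have hb2 : zpowers (b ^ 2) = zpowers b := eq_of_le_of_card_ge (zpowers_le.2 (pow_mem (mem_zpowers b) 2)) (by
      rw [Nat.card_zpowers, Nat.card_zpowers, orderOf_pow' b (by norm_num : 2 ≠ 0), hbo]; norm_num)
    have hgPC : (g' • P : Sylow 5 G).1 ≤ C := by
      rw [Sylow.coe_subgroup_smul]
      rintro _ ⟨y, hy, rfl⟩
      rw [hC, ← cent_congr hb2, mem_centralizer_singleton_iff, ← hg'b]
      show g' * y * g'⁻¹ * (g' * b * g'⁻¹) = g' * b * g'⁻¹ * (g' * y * g'⁻¹)
      rw [show g' * y * g'⁻¹ * (g' * b * g'⁻¹) = g' * (y * b) * g'⁻¹ by group, F.five_comm P y hy b hbP]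
      group
    obtain ⟨c, hc⟩ := MulAction.exists_smul_eq C ((g' • P).subtype hgPC) (P.subtype hPC)
    rw [Sylow.smul_subtype] at hc
    have hc' : (c : G) • g' • P = P := Sylow.subtype_injective hc
    refine ⟨(c : G) * g', ?_, ?_⟩
    · rw [← show ((P : Sylow 5 G) : Set G) = ((P : Subgroup G) : Set G) from rfl, ← Sylow.smul_eq_iff_mem_normalizer,
        mul_smul, hc']
    · rw [show (c : G) * g' * b * ((c : G) * g')⁻¹ = (c : G) * (g' * b * g'⁻¹) * (c : G)⁻¹ by group, hg'b, ← conj_pow,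
        (mem_centralizer_singleton_iff.1 c.2), mul_inv_cancel_right]
  set N := normalizer ((P : Subgroup G) : Set G) with hN
  have h200 : Nat.card (N ⊓ normalizer (zpowers b : Set G) : Subgroup G) = 200 := by
    set H := N ⊓ normalizer (zpowers b : Set G) with hH
    set C' := (N ⊓ centralizer ({b} : Set G)).subgroupOf H with hC'
    have hle : N ⊓ centralizer ({b} : Set G) ≤ H := inf_le_inf_left N (centralizer_le_normalizer_zpowers b)
    have hxH : x ∈ H := ⟨hxN, mem_normalizer_iff.2 fun y => by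
      have hm : (zpowers b).map (MulAut.conj x).toMonoidHom = zpowers b := by
        rw [zpowers_conj, hxb]
        exact eq_of_le_of_card_ge (zpowers_le.2 (pow_mem (mem_zpowers b) 2)) (by
          rw [Nat.card_zpowers, Nat.card_zpowers, orderOf_pow' b (by norm_num : 2 ≠ 0), hbo]; norm_num)
      exact mem_normalizer_iff.1 ((map_conj_eq_iff _ x).1 hm) y⟩
    have hmul := C'.card_mul_index
    rw [Nat.card_congr (subgroupOfEquivOfLe hle).toEquiv, hb50] at hmul
    have hd : Nat.card H ∣ 4 * 50 := by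
      have := card_normalizer_dvd N b
      rwa [hb50, hbo, Nat.totient_prime Nat.prime_five] at this
    rw [← hmul, mul_comm 4 50] at hd
    have hd4 : C'.index ∣ 4 := Nat.dvd_of_mul_dvd_mul_left (by norm_num) hd
    have hne : ∀ m : ℕ, m = 1 ∨ m = 2 → C'.index ≠ m := by
      intro m hm hi
      have hmem : (⟨x, hxH⟩ : H) * ⟨x, hxH⟩ ∈ C' := by
        rcases hm with rfl | rfl
        · rw [index_eq_one] at hi; rw [hi]; trivial
        · exact Subgroup.mul_self_mem_of_index_two hi _
      have h4 : x * x * b * (x * x)⁻¹ = b := mul_inv_eq_iff_eq_mul.2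
        (mem_centralizer_singleton_iff.1 (mem_subgroupOf.1 hmem).2)
      rw [show x * x * b * (x * x)⁻¹ = x * (x * b * x⁻¹) * x⁻¹ by group, hxb, ← conj_pow, hxb, ← pow_mul] at h4
      nth_rw 2 [← pow_one b] at h4
      rw [pow_eq_pow_iff_modEq, hbo] at h4
      exact absurd h4 (by decide)
    have hi4 : C'.index = 4 := by
      have := Nat.le_of_dvd (by norm_num) hd4
      have h1 := hne 1 (Or.inl rfl)
      have h2 := hne 2 (Or.inr rfl)
      interval_cases hci : C'.index <;> omega
    rw [← hmul, hi4]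
  -- counting lines
  have hLb : Nat.card (zpowers b) = 5 ∧ zpowers b ≤ (P : Subgroup G) := ⟨by rw [Nat.card_zpowers, hbo], zpowers_le.2 hbP⟩
  have hLl : Nat.card (zpowers l) = 5 ∧ zpowers l ≤ (P : Subgroup G) := ⟨by rw [Nat.card_zpowers, hlo], zpowers_le.2 hlP⟩
  set S₁ := (normalizer (zpowers b : Set G)).subgroupOf N with hS₁
  set S₂ := (normalizer (zpowers l : Set G)).subgroupOf N with hS₂
  obtain ⟨f₁, hf₁, hf₁v⟩ := exists_orbit (P := (P : Subgroup G)) ⟨zpowers b, hLb⟩
  obtain ⟨f₂, hf₂, hf₂v⟩ := exists_orbit (P := (P : Subgroup G)) ⟨zpowers l, hLl⟩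
  have hsum : Function.Injective (Sum.elim f₁ f₂) := by
    refine hf₁.sumElim hf₂ fun q q' h => ?_
    induction q using QuotientGroup.induction_on with | H x =>
    induction q' using QuotientGroup.induction_on with | H y =>
    have h2 := congrArg Subtype.val h
    rw [hf₁v, hf₂v] at h2
    refine hnc ((y : G)⁻¹ * x) ?_
    rw [← map_conj_mul, h2, map_conj_mul, inv_mul_cancel, (map_conj_eq_iff _ _).2 (one_mem _)]
  have hle6 : Nat.card (↥N ⧸ S₁) + Nat.card (↥N ⧸ S₂) ≤ 6 := by
    rw [← Nat.card_sum]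
    exact (Nat.card_le_card_of_injective _ hsum).trans (card_lines_le (F.five_card P))
  have hc₁ : Nat.card S₁ = 200 := by
    rw [hS₁, card_subgroupOf, inf_comm, h200]
  have hc₂ : Nat.card S₂ ∣ 200 := by
    rw [hS₂, card_subgroupOf, inf_comm]
    have := card_normalizer_dvd N l
    rwa [hl50, hlo, Nat.totient_prime Nat.prime_five] at this
  have hm₁ := S₁.card_mul_index
  have hm₂ := S₂.card_mul_index
  rw [← Subgroup.index_eq_card, ← Subgroup.index_eq_card] at hle6
  have hP5 := card_sylow_modEq_one 5 G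
  rw [Sylow.card_eq_index_normalizer P, show ((P : Sylow 5 G) : Set G) = ((P : Subgroup G) : Set G) from rfl, ← hN] at hP5
  have hGN := N.card_mul_index
  rw [F.card_G] at hGN
  obtain ⟨j, hj⟩ := hc₂
  have hk2 : S₁.index * j = S₂.index := by
    have h1 : Nat.card S₂ * S₂.index = Nat.card S₂ * (S₁.index * j) := by
      rw [hm₂, ← hm₁, hc₁]; nth_rw 1 [hj]; ring
    exact (Nat.eq_of_mul_eq_mul_left Nat.card_pos h1).symm
  have hjpos : 0 < j := Nat.pos_of_ne_zero fun e => by rw [e, mul_zero] at hj; norm_num at hj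
  have hk3 : S₁.index ≤ 3 := by
    have : S₁.index ≤ S₂.index := hk2 ▸ Nat.le_mul_of_pos_right _ hjpos
    omega
  have hi3 : S₁.index = 3 := by
    rw [← hm₁, hc₁] at hGN
    unfold Nat.ModEq at hP5
    have := S₁.index_ne_zero_of_finite
    generalize S₁.index = k at *
    generalize N.index = m at *
    interval_cases k <;> omega
  have hN600 : Nat.card N = 600 := by rw [← hm₁, hc₁, hi3]
  have hi2 : S₂.index = 3 := by
    have h1 : S₁.index ≤ S₂.index := hk2 ▸ Nat.le_mul_of_pos_right _ hjpos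
    omega
  refine ⟨b, l, hbo, hlo, hbP, hlP, hCP, hb7, hl7, hnc, hN600, h200, fun S => ?_⟩
  haveI : Fintype (Line (P : Subgroup G)) := Fintype.ofFinite _
  haveI : Fintype ((↥N ⧸ S₁) ⊕ (↥N ⧸ S₂)) := Fintype.ofFinite _
  have hbij : Function.Bijective (Sum.elim f₁ f₂) := (Fintype.bijective_iff_injective_and_card _).2 ⟨hsum, by
    rw [← Nat.card_eq_fintype_card, ← Nat.card_eq_fintype_card]
    refine le_antisymm (Nat.card_le_card_of_injective _ hsum) ?_
    rw [Nat.card_sum, ← Subgroup.index_eq_card, ← Subgroup.index_eq_card, hi3, hi2]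
    exact card_lines_le (F.five_card P)⟩
  obtain ⟨q, hq⟩ := hbij.2 S
  rcases q with q | q
  · induction q using QuotientGroup.induction_on with | H x =>
    exact ⟨x, x.2, Or.inl (by rw [← hq]; exact (hf₁v x).symm)⟩
  · induction q using QuotientGroup.induction_on with | H x =>
    exact ⟨x, x.2, Or.inr (by rw [← hq]; exact (hf₂v x).symm)⟩

/-- Every element of order five is, up to conjugation, in a given Sylow subgroup. -/
theorem into_sylow (P : Sylow 5 G) {C : Subgroup G} (hC : Nat.card C = 5) :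
    ∃ g : G, C.map (MulAut.conj g).toMonoidHom ≤ (P : Subgroup G) := by
  haveI : Fact (Nat.Prime 5) := ⟨Nat.prime_five⟩
  obtain ⟨R, hR⟩ := (IsPGroup.of_card (G := C) (n := 1) (by rw [hC, pow_one])).exists_le_sylow
  obtain ⟨g, hg⟩ := MulAction.exists_smul_eq G R P
  exact ⟨g, (map_mono hR).trans (le_of_eq (by rw [← hg]; rfl))⟩

/-- Centralizers of elements of order five have no elements of order seven. -/
theorem five_cent {x : G} (hx : orderOf x = 5) : ¬ 7 ∣ Nat.card (centralizer ({x} : Set G)) := by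
  haveI : Fact (Nat.Prime 5) := ⟨Nat.prime_five⟩
  obtain ⟨P⟩ : Nonempty (Sylow 5 G) := inferInstance
  obtain ⟨b, l, -, -, -, -, -, hb7, hl7, -, -, -, hall⟩ := F.five_main P
  obtain ⟨g, hg⟩ := F.into_sylow P (C := zpowers x) (by rw [Nat.card_zpowers, hx])
  obtain ⟨y, -, hy⟩ := hall ⟨(zpowers x).map (MulAut.conj g).toMonoidHom,
    by rw [card_map_of_injective (f := (MulAut.conj g).toMonoidHom) (MulAut.conj g).injective, Nat.card_zpowers, hx], hg⟩
  simp only [zpowers_conj] at hy
  rw [← card_cent_conj g x]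
  rcases hy with h | h
  · rw [← cent_congr h, card_cent_conj]; exact hb7
  · rw [← cent_congr h, card_cent_conj]; exact hl7

/-- The conclusion of the statement on the Sylow 5-normalizer. -/
theorem sylow_five (P : Sylow 5 G) :
    (∃ A B : Subgroup G, Nat.card A = 5 ∧ Nat.card B = 5 ∧ (∀ g : G, A.map (MulAut.conj g).toMonoidHom ≠ B) ∧
      ∀ C : Subgroup G, Nat.card C = 5 → ∃ g : G, C.map (MulAut.conj g).toMonoidHom = A ∨
        C.map (MulAut.conj g).toMonoidHom = B) ∧
    Nat.card (P : Subgroup G) = 25 ∧ Nat.card ↥(Subgroup.normalizer ((P : Subgroup G) : Set G)) = 600 ∧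
    Nonempty (↥(Subgroup.normalizer ((P : Subgroup G) : Set G)) ⧸
      (P : Subgroup G).subgroupOf (Subgroup.normalizer ((P : Subgroup G) : Set G)) ≃*
        Multiplicative (ZMod 4) × Equiv.Perm (Fin 3)) := by
  classical
  obtain ⟨b, l, hbo, hlo, hbP, hlP, hCP, -, -, hnc, h600, h200, hall⟩ := F.five_main P
  refine ⟨⟨zpowers b, zpowers l, by rw [Nat.card_zpowers, hbo], by rw [Nat.card_zpowers, hlo], hnc, fun C hC => ?_⟩,
    F.five_card P, h600, ?_⟩
  · obtain ⟨g, hg⟩ := F.into_sylow P hC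
    obtain ⟨y, -, hy⟩ := hall ⟨C.map (MulAut.conj g).toMonoidHom,
      by rw [card_map_of_injective (f := (MulAut.conj g).toMonoidHom) (MulAut.conj g).injective, hC], hg⟩
    refine ⟨y⁻¹ * g, ?_⟩
    rw [← map_conj_mul]
    simp only at hy
    rcases hy with h | h
    · left; rw [← h, map_conj_mul, inv_mul_cancel, (map_conj_eq_iff _ _).2 (one_mem _)]
    · right; rw [← h, map_conj_mul, inv_mul_cancel, (map_conj_eq_iff _ _).2 (one_mem _)]
  · set N := normalizer ((P : Subgroup G) : Set G) with hN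
    set S := (normalizer (zpowers b : Set G)).subgroupOf N with hS
    obtain ⟨f, hf, hfv⟩ := exists_orbit (P := (P : Subgroup G))
      ⟨zpowers b, (by rw [Nat.card_zpowers, hbo] : Nat.card (zpowers b) = 5), zpowers_le.2 hbP⟩
    have h3 : Nat.card (↥N ⧸ S) = 3 := by
      have hm := S.card_mul_index
      have hc : Nat.card S = 200 := by rw [hS, card_subgroupOf, inf_comm, h200]
      rw [hc, h600] at hm
      rw [← Subgroup.index_eq_card]; omega
    let ε := Finite.equivFinOfCardEq h3
    refine perm_quot (F.five_card P) (F.five_comm P) hCP h600 (fun i => (f (ε.symm i)).1) (fun i => (f _).2.1)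
      (fun i => (f _).2.2) (fun i j h => ε.symm.injective (hf (Subtype.ext h))) ?_
    intro x hx i
    obtain ⟨q, hq⟩ : ∃ q : N, QuotientGroup.mk q = ε.symm i := QuotientGroup.mk_surjective _
    refine ⟨ε (QuotientGroup.mk (⟨x, hx⟩ * q)), ?_⟩
    simp only [Equiv.symm_apply_apply, ← hq]
    rw [hfv, hfv, map_conj_mul]
    rfl

end Facts

end Cfsg.Agent.SuzukiLocal
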