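import Cfsg.Agent.Lib.SuzukiLocal.Second

/-!
`C(z) ∩ C(t)`, its involutions conjugate to `z`, and their fusion inside `C(t) ∩ N(E)`.
-/

set_option autoImplicit false
set_option maxRecDepth 8000
set_option synthInstance.maxSize 4096

namespace Cfsg.Agent.SuzukiLocal

open Subgroup Cfsg.Agent.LargeExtra Cfsg.Agent.OctadInv.Orbits Cfsg.Agent.SuzukiType Cfsg.Agent.SuzukiThree

variable {G : Type*} [Group G] [Finite G] {Q Q' : Subgroup G} {z a y : G}

/-- An involution with image of singular type. -/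
theorem singular_image (S : St Q Q' z a) (hcard : Nat.card ↥Q = 128) {x : G} (hxz : x * z = z * x)
    (hxx : x * x = 1) (hxQ : x ∉ Q) (hc : IsConj x z) (v : V) : qf (act (S.act' x) v + v) = 0 := by
  obtain ⟨c, k, m, hcz, hk, hk0, hm, hmz, hw, hcx, hsq⟩ := S.shape hxz hxQ hxx
  obtain ⟨k2, m2, hk2, hk2v, hm2, hm2z, hm2w, -⟩ := S.exists_second
  have hqw : qf (wof (S.act' m)) = 0 := by
    rw [(S.km_conditions hk hk0 hm hmz hsq).2]
    refine (z2 _).resolve_right fun e => S.not_conj hk2 hk2v hm2 hm2z hm2w (by omega) ?_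
    exact ((S.conj_type_one hk2 hk2v hm2 hm2z hm2w hk hk0 hm hmz hsq e).trans
      ((isConj_iff.2 ⟨c, hcx⟩ : IsConj x (k * m)).symm.trans hc)).symm
  set A := S.act' c with hA
  have hact : ∀ u, act (S.act' (c * x * c⁻¹)) u = T (wof (S.act' m)) u := fun u => by
    rw [hcx, S.act'_mul (S.qz hk) hmz, S.act'_q hk, one_mul, (S.inRad hm hmz).act_eq]
  have h1 : act (S.act' (c * x * c⁻¹)) (act A v) = act A (act (S.act' x) v) := by
    rw [S.act'_mul (SuzukiType.mul_z hcz hxz) (inv_z hcz), S.act'_mul hcz hxz, S.act'_inv hcz, act_mul,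
      act_mul, act_inv_self]
  rw [← act_qf A, act_add, ← h1, hact]
  exact singular_T _ (inW_wof _) hqw _

variable {D : Su Q Q' z a y} {t : G}

namespace Sec

variable (H : Sec D t)
include H

theorem t_not_conj : ¬ IsConj t z := by
  intro h
  obtain ⟨k, m, hk, hkv, hm, hmz, hmw, -⟩ := D.S.exists_second
  exact D.S.not_conj hk hkv hm hmz hmw (by rw [D.card]; norm_num)
    ((H.co.conj_t pT_facts.1 pT_facts.2.1 pT_facts.2.2.1 hk hkv hm hmz hmw).trans h).symm

/-- An element exchanging `a` and `za`. -/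
theorem exists_outer : ∃ c, c * z = z * c ∧ c * t = t * c ∧ c * a * c⁻¹ = z * a ∧
    c * (y * t * y⁻¹) * c⁻¹ = t * (y * t * y⁻¹) ∧ act (D.S.act' c) k0 = k0 + w0 := by
  obtain ⟨q, hq, hqv⟩ := D.S.exists_q
  obtain ⟨k, hkz, hka, hkA, hky⟩ := D.exists_inv
  obtain ⟨-, -, -, -, -, tk, tw, tkw, ik, iw, ikw, hf, -⟩ := pT_facts
  have hqy : y * q = q * y := (D.comm_iff_InX hq).2 (by rw [hqv]; exact hf)
  have hqa : q * a * q⁻¹ = z * a := (D.S.P.p.conj_a hq).resolve_left fun e => by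
    have := (D.S.comm_a_iff hq).1 (mul_inv_eq_iff_eq_mul.1 e)
    rw [hqv, y1_f1] at this
    exact one_ne_zero this
  have hyy : y * y * z = z * (y * y) := SuzukiType.mul_z D.yz D.yz
  have hcz : y * y * (k * q) * z = z * (y * y * (k * q)) :=
    SuzukiType.mul_z hyy (SuzukiType.mul_z hkz (D.S.qz hq))
  have hy : (y * y * (k * q)) * y * (y * y * (k * q))⁻¹ = y⁻¹ := by
    calc y * y * (k * q) * y * (y * y * (k * q))⁻¹ = y * y * (k * (q * y) * q⁻¹ * k⁻¹) * (y * y)⁻¹ := by group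
      _ = y * y * (k * y * k⁻¹) * (y * y)⁻¹ := by rw [← hqy]; group
      _ = y⁻¹ := by rw [hky]; group
  have h1 := H.co.conj_q hq hqv
  simp only [pT] at h1
  have h2 := h1.conj hkz hka
  simp only [hkA, (o_act _).2.2.2.2.1, ikw, iw, pw_eq inW_w0, pw_eq (inW_k0.add inW_w0)] at h2
  have h3 := co_rot D (co_rot D h2)
  simp only [tw, tkw, tk] at h3
  have ht : y * y * (k * q) * t * (y * y * (k * q))⁻¹ = t := by
    refine H.canon D ?_ (H.orb.conj D.y3 (Or.inr hy))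
    rw [show y * y * (k * q) * t * (y * y * (k * q))⁻¹ = y * (y * (k * (q * t * q⁻¹) * k⁻¹) * y⁻¹) * y⁻¹ by
      group]
    exact h3
  refine ⟨_, hcz, mul_inv_eq_iff_eq_mul.1 ht, ?_, ?_, ?_⟩
  · calc y * y * (k * q) * a * (y * y * (k * q))⁻¹ = y * y * (k * (q * a * q⁻¹) * k⁻¹) * (y * y)⁻¹ := by group
      _ = y * y * (z * a) * (y * y)⁻¹ := by
          rw [hqa, mul_inv_eq_iff_eq_mul.2 (show k * (z * a) = z * a * k from
            ((show Commute k z from hkz).mul_right (show Commute k a from hka)).eq)]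
      _ = _ := mul_inv_eq_iff_eq_mul.2 (((show Commute (y * y) z from hyy).mul_right
            (show Commute (y * y) a from SuzukiType.mul_z (z := a) D.ya D.ya)).eq)
  · have e : ∀ c : G, c * (y * t * y⁻¹) * c⁻¹ = (c * y * c⁻¹) * (c * t * c⁻¹) * (c * y * c⁻¹)⁻¹ := fun c => by
      group
    rw [e, hy, ht, ← H.orb.prod, show y * y = y⁻¹ from
      eq_inv_of_mul_eq_one_left (by rw [← D.y3, pow_succ, pow_two])]
  · rw [D.S.act'_mul hyy (SuzukiType.mul_z hkz (D.S.qz hq)), D.S.act'_mul hkz (D.S.qz hq), D.S.act'_q hq,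
      mul_one, D.S.act'_mul D.yz D.yz, hkA, act_mul, act_mul, D.act_y, D.act_y, (o_act _).2.2.2.2.1, ik, tk, tw]

variable {x : G}

theorem fix_e1 (hxz : x * z = z * x) (hxt : x * t = t * x) : act (D.S.act' x) e1 = e1 := by
  set A := D.S.act' x with hA
  have hAX : ∀ v, act A (T w0 v) = T w0 (act A v) := fun v => by
    rw [← H.act_t, ← H.act_t, ← act_mul, ← act_mul, hA, ← D.S.act'_mul hxz H.tz, hxt,
      D.S.act'_mul H.tz hxz]
  have h1 : act A e1 = T w0 (act A k0) + act A k0 := by rw [← hAX, ← act_add, T_w0.1]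
  rcases image_T (act A k0) (by rw [← h1, act_qf]; decide) with e | e <;> rw [← h1] at e
  · have := congrArg (act A⁻¹) e
    rw [act_inv_self, act_zero] at this
    exact absurd this (by decide)
  · exact e

theorem conj_a_cases (hxz : x * z = z * x) (hxt : x * t = t * x) : x * a = a * x ∨ x * a * x⁻¹ = z * a := by
  have hm : x * a * x⁻¹ ∈ Q := D.S.h.conj_mem hxz D.S.mem_a
  obtain ⟨s, hs⟩ := D.S.eq_zp (t := 1) hm (by
    rw [D.S.vec_conj hxz D.S.mem_a, D.S.F.vec_a, H.fix_e1 hxz hxt, sm_one])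
  rcases z2 s with rfl | rfl
  · left; rw [zp_zero, one_mul, zp_one] at hs; exact mul_inv_eq_iff_eq_mul.1 hs
  · right; rw [zp_one, zp_one] at hs; exact hs

/-- `C(z) ∩ C(a) ∩ C(t)` in coordinates. -/
theorem inner (hxz : x * z = z * x) (hxa : x * a = a * x) (hxt : x * t = t * x) :
    ∃ p, Co D.S x p ∧ cz p pT = 0 ∧ ca p pT = 0 := by
  set A := D.S.act' x with hA
  have hAe : act A e1 = e1 := H.fix_e1 hxz hxt
  have hy1A : ∀ v, y1 (act A v) = y1 v := fun v => by rw [← bf_e1, ← bf_e1 v]; conv_lhs => rw [← hAe, act_bf]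
  have hfix := (H.co.conj hxz hxa).unique (show Co D.S (x * t * x⁻¹) pT by
    rw [hxt, mul_inv_cancel_right]; exact H.co)
  simp only [pT, Prod.mk.injEq, ← hA] at hfix
  obtain ⟨hk, hw⟩ := hfix
  have hbf : ∀ v w : V, y1 v = 0 → y1 w = 0 → bf (pw (act A v)) (pw (act A w)) = bf v w := fun v w hv hw => by
    rw [bf_pw_pw (by rw [hy1A, hv]) (by rw [hy1A, hw]), act_bf]
  have him : ∀ v, InW v → v ≠ 0 → qf v = 0 → bf v k0 = 0 → bf v w0 = 0 →
      pw (act A v) = h1 ∨ pw (act A v) = h2 := fun v hv hv0 hq hvk hvw => by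
    have hz0 : y1 (act A v) = 0 := by rw [hy1A, hv.2]
    refine sing_h _ (pw_mem _) (by rw [qf_pw hz0, act_qf, hq]) ?_ ?_ fun e => hv0 ?_
    · rw [← hk, hbf _ _ hv.2 inW_k0.2, hvk]
    · rw [← hw, hbf _ _ hv.2 inW_w0.2, hvw]
    · refine hv.zero_left ?_
      rcases pw_cases hz0 e with e' | e' <;> have e'' := congrArg (act A⁻¹) e' <;> rw [act_inv_self] at e''
      · exact Or.inl (e''.trans (act_zero _))
      · refine Or.inr (e''.trans ?_)
        conv_lhs => rw [← hAe]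
        exact act_inv_self _ _
  obtain ⟨hW1, hn1, hW2, hn2, hh11⟩ := h1_out
  obtain ⟨q1, q2, b12, b1k, b1w, b2k, b2w, q12⟩ := basis_h
  have hlin : ∀ {B : O6}, act B e1 = e1 → pw (act B h1) = h1 → pw (act B h2) = h2 → pw (act B k0) = k0 →
      pw (act B w0) = w0 → InRad B := by
    intro B be b1 b2 bk bw
    have hy : ∀ v, y1 (act B v) = y1 v := fun v => by
      rw [← bf_e1, ← bf_e1 v]; conv_lhs => rw [← be, act_bf]
    refine ⟨be, fun v hv => pw_cases (by rw [y1_add, hy, hv, add_zero]) ?_⟩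
    conv_lhs => rw [decomp hv]
    simp only [pw_add, act_add, act_sm, pw_sm, be, b1, b2, bk, bw, pw_e1, pw_eq hW1, pw_eq hW2, pw_eq inW_k0,
      pw_eq inW_w0]
    exact add_self_V _
  have hfin : InRad A := by
    rcases him h1 hW1 hn1 q1 b1k b1w with e1' | e1'
    · have e2' : pw (act A h2) = h2 := by
        refine (him h2 hW2 hn2 q2 b2k b2w).resolve_left fun e => ?_
        have := hbf h1 h2 hW1.2 hW2.2
        rw [e1', e, b12, hh11] at this
        exact zero_ne_one this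
      exact hlin hAe e1' e2' hk hw
    · exfalso
      have e2' : pw (act A h2) = h1 := by
        refine (him h2 hW2 hn2 q2 b2k b2w).resolve_right fun e => ?_
        have := hbf h1 h2 hW1.2 hW2.2
        rw [e1', e, b12] at this
        exact absurd this (by decide)
      refine rfl'_notMem q12 ?_
      have hR : ∀ u : V, pw (R (h1 + h2) u) = R (h1 + h2) (pw u) := by decide +kernel
      have hRad : InRad (rfl' (h1 + h2) * A) := by
        refine hlin ?_ ?_ ?_ ?_ ?_ <;> rw [act_mul, act_rfl' q12]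
        · rw [hAe]; decide
        · rw [hR, e1']; decide
        · rw [hR, e2']; decide
        · rw [hR, hk]; decide
        · rw [hR, hw]; decide
      have h6 := mul_mem (D.S.inRad_omega hRad) (inv_mem (D.S.act'_omega x))
      rwa [← hA, mul_inv_cancel_right] at h6
  obtain ⟨p, hp⟩ := co_exists hxz hxa hfin
  refine ⟨p, hp, ?_⟩
  have h := hp.comm H.co
  rw [hxt] at h
  exact D.S.zp_pair_one (right_eq_mul.1 (h.trans rfl))

theorem comm_e (hxz : x * z = z * x) (hxa : x * a = a * x) (hxt : x * t = t * x) :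
    x * (y * t * y⁻¹) = y * t * y⁻¹ * x := by
  obtain ⟨p, hp, h1, h2⟩ := H.inner hxz hxa hxt
  obtain ⟨e1', e2'⟩ := perp_pE _ hp.inW.1 _ hp.inW.2 h1 h2
  rw [hp.comm H.co_e, e1', e2']
  simp [zz, zp_zero]

/-- `C(z) ∩ C(t) ∩ C(e)` is `C(z) ∩ C(a) ∩ C(t)`. -/
theorem comm_a (hxz : x * z = z * x) (hxt : x * t = t * x) (hxe : x * (y * t * y⁻¹) = y * t * y⁻¹ * x) :
    x * a = a * x := by
  refine (H.conj_a_cases hxz hxt).resolve_right fun hxa => ?_
  obtain ⟨c, hcz, hct, hca, hce, -⟩ := H.exists_outer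
  have hwz : c⁻¹ * x * z = z * (c⁻¹ * x) := SuzukiType.mul_z (inv_z hcz) hxz
  have hwt : c⁻¹ * x * t = t * (c⁻¹ * x) := SuzukiType.mul_z (z := t) (inv_z (z := t) hct) hxt
  have hwa : c⁻¹ * x * a = a * (c⁻¹ * x) := by
    calc c⁻¹ * x * a = c⁻¹ * (x * a * x⁻¹) * x := by group
      _ = c⁻¹ * (c * a * c⁻¹) * x := by rw [hxa, hca]
      _ = _ := by group
  have hwe := H.comm_e hwz hwa hwt
  have h1 : c * (y * t * y⁻¹) * c⁻¹ = y * t * y⁻¹ := by
    calc c * (y * t * y⁻¹) * c⁻¹ = c * ((c⁻¹ * x) * (y * t * y⁻¹) * (c⁻¹ * x)⁻¹) * c⁻¹ := by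
          rw [hwe, mul_inv_cancel_right]
      _ = x * (y * t * y⁻¹) * x⁻¹ := by group
      _ = _ := by rw [hxe, mul_inv_cancel_right]
  rw [hce] at h1
  exact H.ne_one (mul_eq_right.1 h1)

/-- An involution of `C(z) ∩ C(t)` conjugate to `z` commutes with `a` and with `y`. -/
theorem z_inner (hxz : x * z = z * x) (hxt : x * t = t * x) (hxx : x * x = 1) (hc : IsConj x z) :
    x * a = a * x := by
  refine (H.conj_a_cases hxz hxt).resolve_right fun hxa => ?_
  obtain ⟨c, hcz, hct, hca, -, hck⟩ := H.exists_outer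
  have hwz : c⁻¹ * x * z = z * (c⁻¹ * x) := SuzukiType.mul_z (inv_z hcz) hxz
  have hwt : c⁻¹ * x * t = t * (c⁻¹ * x) := SuzukiType.mul_z (z := t) (inv_z (z := t) hct) hxt
  have hwa : c⁻¹ * x * a = a * (c⁻¹ * x) := by
    calc c⁻¹ * x * a = c⁻¹ * (x * a * x⁻¹) * x := by group
      _ = c⁻¹ * (c * a * c⁻¹) * x := by rw [hxa, hca]
      _ = _ := by group
  obtain ⟨p, hp, -⟩ := H.inner hwz hwa hwt
  have hce : act (D.S.act' c) e1 = e1 := H.fix_e1 hcz hct
  have hk : act (D.S.act' x) k0 = k0 + w0 + sm (bf p.2 k0) e1 := by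
    rw [show x = c * (c⁻¹ * x) by group, D.S.act'_mul hcz hwz, act_mul, hp.act_eq, T,
      show y1 k0 = 0 from rfl, sm_zero, add_zero, act_add, act_sm, hck, hce]
  have hxQ : x ∉ Q := fun e => by
    rw [D.S.act'_q e, act_one] at hk
    have := moved_k0 (bf p.2 k0)
    rw [← hk, add_self_V] at this
    exact absurd this (by decide)
  have := singular_image D.S D.card hxz hxx hxQ hc k0
  rw [hk, moved_k0] at this
  exact one_ne_zero this

theorem zero_type (hxz : x * z = z * x) (hxt : x * t = t * x) (hxx : x * x = 1) (hc : IsConj x z) :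
    ∃ p, Co D.S x p ∧ cz p pT = 0 ∧ ca p pT = 0 ∧ qz p = 0 ∧ qa p = 0 ∧ bf p.2 p.1 = 0 := by
  obtain ⟨p, hp, h1, h2⟩ := H.inner hxz (H.z_inner hxz hxt hxx hc) hxt
  have hsq := hp.sq
  rw [hxx] at hsq
  obtain ⟨h3, h4⟩ := D.S.zp_pair_one hsq.symm
  refine ⟨p, hp, h1, h2, h3, h4, (z2 _).resolve_right fun hb => ?_⟩
  obtain ⟨k, m, hk, hkv, hm, hmz, hmw, -⟩ := D.S.exists_second
  exact D.S.not_conj hk hkv hm hmz hmw (by rw [D.card]; norm_num)
    ((hp.conj_t h3 h4 hb hk hkv hm hmz hmw).trans hc).symm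

theorem comm_y (hxz : x * z = z * x) (hxt : x * t = t * x) (hxx : x * x = 1) (hc : IsConj x z) :
    y * x = x * y := by
  obtain ⟨p, hp, h1, h2, h3, h4, h5⟩ := H.zero_type hxz hxt hxx hc
  obtain ⟨t1, t2, -⟩ := perp_zero _ hp.inW.1 _ hp.inW.2 h1 h2 h3 h4 h5
  have h := co_rot D hp
  simp only [t1, t2] at h
  have h0 := h.mul hp.inv
  rw [show p + p = (0 : V × V) from Prod.ext (add_self_V _) (add_self_V _)] at h0
  obtain ⟨s, u, hsu⟩ := h0.eq_zz
  have e1 : y * x * y⁻¹ = zz z a s u * x := by rw [← hsu, inv_mul_cancel_right]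
  have e2 : ∀ w : G, y * (zz z a s u * w) * y⁻¹ = zz z a s u * (y * w * y⁻¹) := fun w => by
    conv_rhs => rw [← zz_rot D s u]
    group
  have hz2 : zz z a s u * zz z a s u = 1 := by
    rw [zz_mul _ _ _ _ D.S, CharTwo.add_self_eq_zero, CharTwo.add_self_eq_zero]; simp [zz, zp_zero]
  have a2 : y * (y * x * y⁻¹) * y⁻¹ = x := by rw [e1, e2, e1, ← mul_assoc, hz2, one_mul]
  have e3 : y ^ 3 * x * (y ^ 3)⁻¹ = zz z a s u * x := by
    calc y ^ 3 * x * (y ^ 3)⁻¹ = y * (y * (y * x * y⁻¹) * y⁻¹) * y⁻¹ := by simp [pow_succ, mul_assoc]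
      _ = _ := by rw [a2, e1]
  rw [D.y3, one_mul, inv_one, mul_one] at e3
  rw [← e3] at e1
  exact mul_inv_eq_iff_eq_mul.1 e1

/-- Fusion of `z` to these involutions inside `C(y)`. -/
theorem fuse (hxz : x * z = z * x) (hxt : x * t = t * x) (hxx : x * x = 1) (hc : IsConj x z)
    (hne : x ≠ z) : ∃ g, g * y = y * g ∧ g * z * g⁻¹ = x := by
  have hx1 : x ≠ 1 := fun e => D.S.h.ne_one (isConj_one_right.1 (e ▸ hc : IsConj 1 z))
  have hxy := H.comm_y hxz hxt hxx hc
  obtain ⟨g, hgy, hgz, hga⟩ := exists_exchange D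
  have keyQ' : ∀ w : G, w ∈ Q' → w * w = 1 → w ≠ 1 → y * w = w * y → ∃ g, g * y = y * g ∧ g * z * g⁻¹ = w := by
    intro w hw hww hw1 hwy
    by_cases h0 : g⁻¹ * w * g = z
    · exact ⟨g, hgy, by rw [← h0]; group⟩
    have hgi : y * g⁻¹ = g⁻¹ * y := ((show Commute y g from hgy.symm).inv_right).eq
    obtain ⟨g', hg'y, hg'z⟩ := fuse_Q D ((D.S.P.p.link g hgz w).1 hw) (x := g⁻¹ * w * g)
      ((((show Commute y g⁻¹ from hgi).mul_right (show Commute y w from hwy))).mul_right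
        (show Commute y g from hgy.symm)).eq
      (by rw [show g⁻¹ * w * g * (g⁻¹ * w * g) = g⁻¹ * (w * w) * g by group, hww]; group)
      (fun e => hw1 (by rw [show w = g * (g⁻¹ * w * g) * g⁻¹ by group, e]; group)) h0
    refine ⟨g * g', ((show Commute g y from hgy).mul_left (show Commute g' y from hg'y)).eq, ?_⟩
    calc g * g' * z * (g * g')⁻¹ = g * (g' * z * g'⁻¹) * g⁻¹ := by group
      _ = w := by rw [hg'z]; group
  obtain ⟨p, hp, h1, h2, h3, h4, h5⟩ := H.zero_type hxz hxt hxx hc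
  obtain ⟨-, -, h6⟩ := perp_zero _ hp.inW.1 _ hp.inW.2 h1 h2 h3 h4 h5
  have memQ' : ∀ {w : G} {p : V × V}, Co D.S w p → p.1 = 0 → w ∈ Q' := by
    rintro w p ⟨k, m, hk, hk0, hm, -, rfl, e1', -⟩ e0
    obtain ⟨u, hu⟩ := sm_cases (pw_cases hk0 (e1'.trans e0))
    obtain ⟨s, rfl⟩ := D.S.eq_zp hk hu
    exact Q'.mul_mem (D.S.four_mem' _ _) hm
  rcases h6 with e | e | e
  · exact keyQ' x (memQ' hp e) hxx hx1 hxy
  · obtain ⟨k, m, hk, -, hm, hmz, hx, -, hmw⟩ := hp
    have hmQ : m ∈ Q := (D.S.act'_one_iff hmz).1 ((D.S.inRad hm hmz).eq_one (hmw.trans e))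
    exact fuse_Q D (hx ▸ Q.mul_mem hk hmQ) hxy hxx hx1 hne
  · obtain ⟨q, hq, hqv⟩ := D.S.exists_q
    have hqy : y * q = q * y := (D.comm_iff_InX hq).2 (by rw [hqv]; exact pT_facts.2.2.2.2.2.2.2.2.2.2.2.1)
    have h := hp.conj_q hq hqv
    obtain ⟨g', hg'y, hg'z⟩ := keyQ' _ (memQ' h (by show p.1 + p.2 = 0; rw [e, add_self_V]))
      (by rw [show q * x * q⁻¹ * (q * x * q⁻¹) = q * (x * x) * q⁻¹ by group, hxx]; group)
      (fun e0 => hx1 (conj_eq_one_iff.1 e0))
      ((((show Commute y q from hqy).mul_right (show Commute y x from hxy))).mul_right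
        (show Commute y q from hqy).inv_right).eq
    refine ⟨q⁻¹ * g', ((show Commute q⁻¹ y from (show Commute y q from hqy).inv_right.symm).mul_left
      (show Commute g' y from hg'y)).eq, ?_⟩
    calc q⁻¹ * g' * z * (q⁻¹ * g')⁻¹ = q⁻¹ * (g' * z * g'⁻¹) * q := by group
      _ = x := by rw [hg'z]; group

/-- Aligning an involution of `C(z)` with the orbit property. -/
theorem align (hxz : x * z = z * x) (ho : Orb y x) (hx1 : x ≠ 1) (hnc : ¬ IsConj x z) :
    ∃ c, c * z = z * c ∧ (c * y * c⁻¹ = y ∨ c * y * c⁻¹ = y⁻¹) ∧ c * x * c⁻¹ = t := by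
  obtain ⟨d, hdz, hd⟩ := to_second D.S hxz ho.sq hx1 hnc
  set A := D.S.act' d with hA
  have hAX : ∀ v, act A (act (D.S.act' x) v) = T w0 (act A v) := fun v => by
    rw [← hd.act_eq, D.S.act'_mul (SuzukiType.mul_z hdz hxz) (inv_z hdz), D.S.act'_mul hdz hxz,
      D.S.act'_inv hdz, act_mul, act_mul, act_inv_self]
  have hAi : ∀ v, act A (act A⁻¹ v) = v := fun v => by rw [← act_mul, mul_inv_cancel, act_one]
  set B := A * D.S.act' y * A⁻¹ with hB
  have hBv : ∀ v, act B (act A v) = act A (tau v) := fun v => by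
    rw [hB, act_mul, act_mul, act_inv_self, D.act_y]
  have hxy' : y * x * y⁻¹ * z = z * (y * x * y⁻¹) := SuzukiType.mul_z (SuzukiType.mul_z D.yz hxz) (inv_z D.yz)
  have hB' : ∀ u, act A (act (D.S.act' (y * x * y⁻¹)) (act A⁻¹ (act B u))) = act B (T w0 u) := fun u => by
    obtain ⟨v, rfl⟩ : ∃ v, u = act A v := ⟨act A⁻¹ u, (hAi u).symm⟩
    rw [hBv, act_inv_self, D.S.act'_mul (SuzukiType.mul_z D.yz hxz) (inv_z D.yz), D.S.act'_mul D.yz hxz,
      D.S.act'_inv D.yz, act_mul, act_mul, ← D.act_y v, act_inv_self, D.act_y, ← hAX, hBv]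
  set p' := act B e1 with hp'
  set w' := act B w0 with hw'
  have hTg : ∀ u, Tg p' w' (act B u) = act B (T w0 u) := fun u => by
    rw [Tg, T, hp', hw', act_bf, act_bf, act_qf, bf_comm e1 u, bf_e1]
    simp only [act_add, act_sm]
  have hXA : ∀ v, act A (act (D.S.act' (y * x * y⁻¹)) (act A⁻¹ v)) = Tg p' w' v := fun v => by
    obtain ⟨u, rfl⟩ : ∃ u, v = act B u := ⟨act B⁻¹ v, by rw [← act_mul, mul_inv_cancel, act_one]⟩
    rw [hB', hTg]
  have hXA' : ∀ v, act A (act (D.S.act' x) (act A⁻¹ v)) = T w0 v := fun v => by rw [hAX, hAi]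
  set p := act A⁻¹ e1 with hp
  have hp0 : p ≠ 0 := fun e => by
    have := congrArg (act A) e
    rw [hAi, act_zero] at this
    exact absurd this (by decide)
  have hpq : qf p = 0 := by rw [hp, act_qf]; decide
  have hfix : tau p = p := by
    have key : p' = e1 := by
      by_contra hne
      have hcomm : ∀ v, T w0 (Tg p' w' v) = Tg p' w' (T w0 v) := fun v => by
        rw [← hXA', ← hXA, act_inv_self, ← hXA, ← hXA', act_inv_self, ← act_mul (D.S.act' x), ← act_mul (D.S.act' (y * x * y⁻¹)),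
          ← D.S.act'_mul hxz hxy', ho.comm, D.S.act'_mul hxy' hxz]
      obtain ⟨u0, hu0⟩ := axis_image
      have h3 : T w0 (Tg p' w' (act B (act B u0))) + act B (act B u0) = act B (act B e1) := by
        obtain ⟨v0, hv0⟩ : ∃ v0, u0 = act A v0 := ⟨act A⁻¹ u0, (hAi u0).symm⟩
        have e0 : act B (act B u0) = act A (tau (tau v0)) := by rw [hv0, hBv, hBv]
        have e2 : act (D.S.act' x) (act (D.S.act' (y * x * y⁻¹)) (tau (tau v0))) =
            tau (tau (act (D.S.act' x) v0)) := by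
          rw [← act_mul, ← D.S.act'_mul hxz hxy', ← ho.prod,
            D.S.act'_mul (SuzukiType.mul_z (SuzukiType.mul_z D.yz D.yz) hxz) (inv_z (SuzukiType.mul_z D.yz D.yz)),
            D.S.act'_mul (SuzukiType.mul_z D.yz D.yz) hxz, D.S.act'_inv (SuzukiType.mul_z D.yz D.yz),
            D.S.act'_mul D.yz D.yz, act_mul, act_mul, act_mul]
          rw [show tau (tau v0) = act (D.S.act' y * D.S.act' y) v0 by rw [act_mul, D.act_y, D.act_y],
            act_inv_self, D.act_y, D.act_y]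
        rw [e0, ← hXA, ← hXA', act_inv_self, act_inv_self, e2]
        simp only [← hBv]
        rw [hAX, ← hv0, ← act_add, ← act_add, hu0]
      have hp'0 : p' ≠ 0 := fun e => by
        have := congrArg (act B⁻¹) e
        rw [hp', act_inv_self, act_zero] at this
        exact absurd this (by decide)
      have h4 := axis_sum p' (by rw [hp', act_qf]; decide) hp'0 hne w' (by rw [hw', act_qf]; decide)
        (by rw [hp', hw', act_bf]; decide) hcomm (act B (act B u0))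
        (by rw [h3, act_qf, act_qf]; decide) (by
          rw [h3]
          intro e
          have := congrArg (fun v => act B⁻¹ (act B⁻¹ v)) e
          simp only [act_inv_self, act_zero] at this
          exact absurd this (by decide))
      rw [h3] at h4
      have e5 : p + tau p + tau (tau p) = 0 := by
        rw [hp', show e1 = act A p from (hAi e1).symm, hBv, hBv, ← act_add] at h4
        have := congrArg (act A⁻¹) h4
        rw [act_inv_self, act_inv_self] at this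
        rw [this, add_self_V]
      exact hp0 (orbit_zero p hpq e5)
    have := congrArg (act A⁻¹) key
    rwa [hp', show e1 = act A p from (hAi e1).symm, hBv, act_inv_self, act_inv_self] at this
  obtain ⟨C, hC, hCp, hCk, hCw, c1, hc1z, hc1y, hc1A⟩ := exists_point D ((tau_fix p).1 hfix) hpq hp0
  have ho1 := ho.conj D.y3 (g := c1) (Or.inl (by rw [hc1y, mul_inv_cancel_right]))
  have hx1z : c1 * x * c1⁻¹ * z = z * (c1 * x * c1⁻¹) :=
    SuzukiType.mul_z (SuzukiType.mul_z hc1z hxz) (inv_z hc1z)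
  set x1 := c1 * x * c1⁻¹ with hx1d
  have hM : ∀ u, act (D.S.act' x1) (act (C * A⁻¹) u) = act (C * A⁻¹) (T w0 u) := fun u => by
    rw [hx1d, D.S.act'_mul (SuzukiType.mul_z hc1z hxz) (inv_z hc1z), D.S.act'_mul hc1z hxz,
      D.S.act'_inv hc1z, hc1A, act_mul, act_mul, act_mul C A⁻¹, act_inv_self, act_mul C A⁻¹, ← hXA', act_inv_self]
  have hMe : act (C * A⁻¹) e1 = e1 := by rw [act_mul, hCp]
  have hR : InRad (D.S.act' x1) := by
    refine ⟨?_, fun v hv => ?_⟩
    · conv_lhs => rw [← hMe]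
      rw [hM, show T w0 e1 = e1 by decide, hMe]
    · obtain ⟨u, rfl⟩ : ∃ u, v = act (C * A⁻¹) u :=
        ⟨act (C * A⁻¹)⁻¹ v, by rw [← act_mul, mul_inv_cancel, act_one]⟩
      have hu : y1 u = 0 := by rw [← bf_e1, ← act_bf (C * A⁻¹), hMe, bf_e1, hv]
      rw [hM, ← act_add, T_of_y1 _ hu, act_sm, hMe]
      rcases z2 (bf w0 u) with e | e <;> rw [e]
      · exact Or.inl (sm_zero _)
      · exact Or.inr (sm_one _)
  have hx1a : x1 * a = a * x1 := by
    have hm : x1 * a * x1⁻¹ ∈ Q := D.S.h.conj_mem hx1z D.S.mem_a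
    obtain ⟨s, hs⟩ := D.S.eq_zp (t := 1) hm (by
      rw [D.S.vec_conj hx1z D.S.mem_a, D.S.F.vec_a, hR.1, sm_one])
    rcases z2 s with rfl | rfl
    · rw [zp_zero, one_mul, zp_one] at hs; exact mul_inv_eq_iff_eq_mul.1 hs
    · exfalso
      rw [zp_one, zp_one] at hs
      have hya : y⁻¹ * a * y = a := by rw [mul_assoc, ← D.ya, inv_mul_cancel_left]
      have hyza : y * (z * a) * y⁻¹ = z * a := mul_inv_eq_iff_eq_mul.2
        (((show Commute y z from D.yz).mul_right (show Commute y a from D.ya)).eq)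
      have h1 : ∀ u : G, u * a * u⁻¹ = z * a → (y * u * y⁻¹) * a * (y * u * y⁻¹)⁻¹ = z * a := fun u hu => by
        calc (y * u * y⁻¹) * a * (y * u * y⁻¹)⁻¹ = y * (u * (y⁻¹ * a * y) * u⁻¹) * y⁻¹ := by group
          _ = z * a := by rw [hya, hu, hyza]
      have h2 := h1 _ (h1 _ hs)
      rw [show y * (y * x1 * y⁻¹) * y⁻¹ = y * y * x1 * (y * y)⁻¹ by group, ho1.prod] at h2
      have h3 : x1 * (y * x1 * y⁻¹) * a * (x1 * (y * x1 * y⁻¹))⁻¹ = a := by
        calc x1 * (y * x1 * y⁻¹) * a * (x1 * (y * x1 * y⁻¹))⁻¹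
            = x1 * ((y * x1 * y⁻¹) * a * (y * x1 * y⁻¹)⁻¹) * x1⁻¹ := by group
          _ = (x1 * z * x1⁻¹) * (x1 * a * x1⁻¹) := by rw [h1 _ hs]; group
          _ = a := by rw [hx1z, mul_inv_cancel_right, hs, D.S.P.p.z_za]
      rw [h3] at h2
      exact D.S.P.p.za_ne_a h2.symm
  obtain ⟨p1, hp1⟩ := co_exists hx1z hx1a hR
  have hsq := hp1.sq
  rw [ho1.sq] at hsq
  obtain ⟨q3, q4⟩ := D.S.zp_pair_one hsq.symm
  have hb : bf p1.2 p1.1 = 1 := (z2 _).resolve_left fun e => hnc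
    ((isConj_iff.2 ⟨c1, hx1d.symm⟩ : IsConj x x1).trans
      (hp1.conj_z q3 q4 e fun e0 => hx1 (conj_eq_one_iff.1 e0)))
  have hsum : p1.1 + tau p1.1 + tau (tau p1.1) = 0 ∧ p1.2 + tau p1.2 + tau (tau p1.2) = 0 := by
    have h1 := co_rot D hp1
    have h2 := co_rot D h1
    rw [show y * (y * x1 * y⁻¹) * y⁻¹ = y * y * x1 * (y * y)⁻¹ by group, ho1.prod] at h2
    obtain ⟨e1', e2'⟩ := Prod.ext_iff.1 (h2.unique (hp1.mul h1))
    simp only [Prod.fst_add, Prod.snd_add] at e1' e2'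
    exact ⟨by rw [← e1', add_self_V], by rw [← e2', add_self_V]⟩
  obtain ⟨-, -, -, -, -, tk, tw, tkw, ik, iw, ikw, -⟩ := pT_facts
  obtain ⟨k, hkz, hka, hkA, hky⟩ := D.exists_inv
  have hfinish : ∀ c, c * z = z * c → (c * y * c⁻¹ = y ∨ c * y * c⁻¹ = y⁻¹) → Co D.S (c * x1 * c⁻¹) pT →
      ∃ c, c * z = z * c ∧ (c * y * c⁻¹ = y ∨ c * y * c⁻¹ = y⁻¹) ∧ c * x * c⁻¹ = t := fun c hcz hcy hco => by
    refine ⟨c * c1, SuzukiType.mul_z hcz hc1z, ?_, ?_⟩
    · rwa [show c * c1 * y * (c * c1)⁻¹ = c * (c1 * y * c1⁻¹) * c⁻¹ by group, hc1y, mul_inv_cancel_right]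
    · rw [show c * c1 * x * (c * c1)⁻¹ = c * x1 * c⁻¹ by rw [hx1d]; group]
      exact H.canon D hco (ho1.conj D.y3 hcy)
  have hk' := fun {w : G} {pp : V × V} (h : Co D.S w pp) => h.conj hkz hka
  simp only [hkA, (o_act _).2.2.2.2.1] at hk'
  have hW := inW_k0.add inW_w0
  have hye : ∀ w : G, (y * y * w) * y * (y * y * w)⁻¹ = y * y * (w * y * w⁻¹) * (y * y)⁻¹ := fun w => by group
  rcases six _ hp1.inW.1 _ hp1.inW.2 hsum.1 hsum.2 q3 q4 hb with
    ⟨e, e'⟩ | ⟨e, e'⟩ | ⟨e, e'⟩ | ⟨e, e'⟩ | ⟨e, e'⟩ | ⟨e, e'⟩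
  · exact hfinish 1 (by simp) (Or.inl (by simp)) (by simpa [show p1 = pT from Prod.ext e e'] using hp1)
  · refine hfinish (y * y) (SuzukiType.mul_z D.yz D.yz) (Or.inl (by group)) ?_
    rw [show y * y * x1 * (y * y)⁻¹ = y * (y * x1 * y⁻¹) * y⁻¹ by group]
    simpa [e, e', tk, tw, tkw, pT] using co_rot D (co_rot D hp1)
  · refine hfinish y D.yz (Or.inl (by group)) ?_
    simpa [e, e', tk, tw, tkw, pT] using co_rot D hp1
  · refine hfinish (y * y * k) (SuzukiType.mul_z (SuzukiType.mul_z D.yz D.yz) hkz)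
      (Or.inr (by rw [hye, hky]; group)) ?_
    rw [show y * y * k * x1 * (y * y * k)⁻¹ = y * (y * (k * x1 * k⁻¹) * y⁻¹) * y⁻¹ by group]
    simpa [e, e', iw, ikw, pw_eq inW_w0, pw_eq hW, tk, tw, tkw, pT] using co_rot D (co_rot D (hk' hp1))
  · refine hfinish k hkz (Or.inr hky) ?_
    simpa [e, e', ik, ikw, pw_eq inW_k0, pw_eq inW_w0, pT] using hk' hp1
  · refine hfinish (y * k) (SuzukiType.mul_z D.yz hkz) (Or.inr ?_) ?_
    · calc y * k * y * (y * k)⁻¹ = y * (k * y * k⁻¹) * y⁻¹ := by group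
        _ = y⁻¹ := by rw [hky]; group
    rw [show y * k * x1 * (y * k)⁻¹ = y * (k * x1 * k⁻¹) * y⁻¹ by group]
    simpa [e, e', ik, iw, pw_eq inW_k0, pw_eq hW, tk, tkw, pT] using co_rot D (hk' hp1)

/-- The involutions conjugate to `z` in `C(z) ∩ C(t)` are carried from `z` inside `C(t) ∩ N(E)`. -/
theorem carry (hxz : x * z = z * x) (hxt : x * t = t * x) (hxx : x * x = 1) (hc : IsConj x z) :
    ∃ h, h * z * h⁻¹ = x ∧ h * t * h⁻¹ = t ∧ h ∈ normalizer (H.E : Set G) := by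
  by_cases hne : x = z
  · subst hne; exact ⟨1, by simp, by simp, one_mem _⟩
  obtain ⟨g, hgy, hgz⟩ := H.fuse hxz hxt hxx hc hne
  have hgy' : g⁻¹ * y * g = y := by rw [mul_assoc, ← hgy, inv_mul_cancel_left]
  have ho := H.orb.conj D.y3 (g := g⁻¹) (Or.inl (by rw [inv_inv]; exact hgy'))
  rw [inv_inv] at ho
  obtain ⟨c, hcz, hcy, hcx⟩ := H.align (x := g⁻¹ * t * g) (by
      calc g⁻¹ * t * g * z = g⁻¹ * (t * (g * z * g⁻¹)) * g := by group
        _ = g⁻¹ * ((g * z * g⁻¹) * t) * g := by rw [hgz, hxt]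
        _ = _ := by group) ho
    (fun e => H.ne_one (by rw [show t = g * (g⁻¹ * t * g) * g⁻¹ by group, e]; group))
    (fun e => H.t_not_conj ((isConj_iff.2 ⟨g⁻¹, by rw [inv_inv]⟩ : IsConj t (g⁻¹ * t * g)).trans e))
  have ht : g * c⁻¹ * t * (g * c⁻¹)⁻¹ = t := by
    conv_lhs => rw [← hcx]
    group
  refine ⟨g * c⁻¹, ?_, ht, H.mem_normalizer ht (H.normalizes ht ?_)⟩
  · calc g * c⁻¹ * z * (g * c⁻¹)⁻¹ = g * (c⁻¹ * z * c) * g⁻¹ := by group
      _ = x := by rw [mul_assoc c⁻¹, ← hcz, inv_mul_cancel_left, hgz]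
  · rcases hcy with e | e
    · left
      calc g * c⁻¹ * y * (g * c⁻¹)⁻¹ = g * (c⁻¹ * (c * y * c⁻¹) * c) * g⁻¹ := by rw [e]; group
        _ = g * y * g⁻¹ := by group
        _ = y := by rw [hgy, mul_inv_cancel_right]
    · right
      calc g * c⁻¹ * y * (g * c⁻¹)⁻¹ = g * (c⁻¹ * (c * y * c⁻¹)⁻¹ * c) * g⁻¹ := by rw [e]; group
        _ = g * y⁻¹ * g⁻¹ := by group
        _ = y⁻¹ := mul_inv_eq_iff_eq_mul.2 (show Commute g y from hgy).inv_right.eq

end Sec

end Cfsg.Agent.SuzukiLocal
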