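import Cfsg.Agent.Lib.SuzukiLocal.Coords
import Cfsg.Agent.Lib.SuzukiThree.Fusion

/-!
Changes of coordinates commuting with the element of order three, and fusion inside its centralizer.
-/

set_option autoImplicit false
set_option maxRecDepth 8000
set_option synthInstance.maxSize 4096

namespace Cfsg.Agent.SuzukiLocal

open Subgroup Cfsg.Agent.LargeExtra Cfsg.Agent.OctadInv.Orbits Cfsg.Agent.SuzukiType Cfsg.Agent.SuzukiThree

variable {G : Type*} [Group G] [Finite G] {Q Q' : Subgroup G} {z a : G}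

/-- An element of order three with coordinates `tau`. -/
theorem exists_rot (S : St Q Q' z a) (hcard : Nat.card ↥Q = 128) : ∃ y, Nonempty (Su Q Q' z a y) := by
  obtain ⟨c, hcz, hca, hcA⟩ := S.exists_fix o_mem.1 (by rw [(o_act _).1]; decide)
  have hp : ∀ n : ℕ, c ^ n * z = z * c ^ n ∧ S.act' (c ^ n) = o1 ^ n := by
    intro n
    induction n with
    | zero => exact ⟨by simp, by rw [pow_zero, pow_zero, S.act'_q Q.one_mem]⟩
    | succ n ih =>
      exact ⟨((show Commute c z from hcz).pow_left _).eq, by rw [pow_succ, pow_succ, S.act'_mul ih.1 hcz, ih.2, hcA]⟩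
  have h4 : (o1 : O6) ^ 4 = o1 := by rw [pow_succ, o_pow_four.2.2.1, one_mul]
  have h3 : c ^ 3 ∈ Q := (S.act'_one_iff (hp 3).1).1 (by rw [(hp 3).2, o_pow_four.2.2.1])
  refine ⟨c ^ 4, ⟨{
    S := S
    card := hcard
    y3 := ?_
    yz := (hp 4).1
    ya := ((show Commute c a from hca).pow_left _).eq
    act_y := fun v => by rw [(hp 4).2, h4, (o_act v).1] }⟩⟩
  rw [← pow_mul, show 4 * 3 = 3 * 4 by norm_num, pow_mul,
    show (c ^ 3) ^ 4 = (c ^ 3 * c ^ 3) * (c ^ 3 * c ^ 3) by group]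
  rcases S.h.sq_cases h3 with e | e <;> rw [e]
  · exact one_mul 1
  · exact S.h.zz

/-- An isometry fixing `k0` and `w0` commutes with `tau`. -/
theorem act_tau {B : O6} (hk : act B k0 = k0) (hw : act B w0 = w0) (v : V) : act B (tau v) = tau (act B v) := by
  have hR : ∀ r w : V, act B r = r → act B (R r w) = R r (act B w) := fun r w hr => by
    rw [R, R, act_add, act_sm, hr]
    conv_lhs => rw [← act_bf B r w, hr]
  show act B (R k0 (R w0 v)) = R k0 (R w0 (act B v))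
  rw [hR _ _ hk, hR _ _ hw]

theorem InX_orth : ∀ p : V, InX p → bf k0 p = 0 ∧ bf w0 p = 0 := bf_InX

variable {y : G} (D : Su Q Q' z a y)

include D in
/-- Singular points of the complement of the line are moved to `e1` inside `C(z) ∩ C(y)`. -/
theorem exists_point {p : V} (hX : InX p) (hq : qf p = 0) (hp : p ≠ 0) :
    ∃ C, C ∈ Cfsg.Omega (ZMod 2) ⇑F6 ∧ act C p = e1 ∧ act C k0 = k0 ∧ act C w0 = w0 ∧
      ∃ c, c * z = z * c ∧ c * y = y * c ∧ D.S.act' c = C := by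
  obtain ⟨A, hA, hAp⟩ := exists_to_e1 hp hq
  obtain ⟨q1, q2, q3, -⟩ := aux_vectors
  obtain ⟨B, hB, hBe, hBu, hBv⟩ := exists_to_line D.S (u := act A k0) (v := act A w0)
    (by rw [act_qf, q1]) (by rw [act_qf, q2]) (by rw [act_bf, bf_comm, q3])
    (by rw [← bf_e1, ← hAp, act_bf, (InX_orth p hX).1]) (by rw [← bf_e1, ← hAp, act_bf, (InX_orth p hX).2])
  have hk : act (B * A) k0 = k0 := by rw [act_mul, hBu]
  have hw : act (B * A) w0 = w0 := by rw [act_mul, hBv]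
  refine ⟨B * A, mul_mem hB hA, by rw [act_mul, hAp, hBe], hk, hw, D.exists_cent (mul_mem hB hA) fun v => ?_⟩
  exact act_tau hk hw v

include D in
/-- A second coordinate system at an involution of `Q` centralized by `y`. -/
theorem exists_move_su {x : G} (hx : x ∈ Q) (hxy : y * x = x * y) (hxx : x * x = 1) (hx1 : x ≠ 1)
    (hxz : x ≠ z) : ∃ Q₁, Nonempty (Su Q Q₁ z x y) := by
  have hv : D.S.F.vec x ≠ 0 := fun e => (D.S.F.vec_cases hx e).elim hx1 hxz
  have hq : qf (D.S.F.vec x) = 0 := by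
    have h0 := D.S.F.sq hx
    rw [hxx] at h0
    exact (zp_eq_one_iff D.S.h.ne_one).1 h0.symm
  obtain ⟨C, hC, hCp, hCk, hCw, -⟩ := exists_point D ((D.comm_iff_InX hx).1 hxy) hq hv
  obtain ⟨g, hg⟩ := isConj_iff.1 (D.S.conj_of_mem hx hxx hx1).symm
  have P := (Pair.mk' D.S.h (g := g) (hg ▸ hx) (hg ▸ hxz)).two (by rw [D.card]; norm_num)
  rw [hg] at P
  let S2 : St Q _ z x := ⟨P, moveFrame D.S.F C hC x hCp⟩
  refine ⟨_, ⟨{ S := S2, card := D.card, y3 := D.y3, yz := D.yz, ya := hxy, act_y := fun v => ?_ }⟩⟩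
  have hact : S2.act' y = C * D.S.act' y * C⁻¹ := by
    rw [S2.act'_def D.yz, D.S.act'_def D.yz]
    rfl
  rw [hact, act_mul, act_mul, D.act_y, act_tau hCk hCw, ← act_mul, mul_inv_cancel, act_one]

include D in
/-- `z` is carried to such an involution inside `C(y)`. -/
theorem fuse_Q {x : G} (hx : x ∈ Q) (hxy : y * x = x * y) (hxx : x * x = 1) (hx1 : x ≠ 1) (hxz : x ≠ z) :
    ∃ g, g * y = y * g ∧ g * z * g⁻¹ = x := by
  obtain ⟨Q₁, ⟨D₁⟩⟩ := exists_move_su D hx hxy hxx hx1 hxz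
  exact D₁.exists_fuse

include D in
/-- An element of `C(y)` exchanging `z` and `a`. -/
theorem exists_exchange : ∃ g, g * y = y * g ∧ g * z * g⁻¹ = a ∧ g * a * g⁻¹ = z := by
  obtain ⟨q, hq, hqv⟩ := D.S.exists_q
  obtain ⟨n, hn, hnz⟩ := D.S.exists_n
  obtain ⟨huz, hua, -⟩ := D.S.swap_conj hq hqv hn hnz (k := 1) Q.one_mem (by rw [D.S.F.vec_one]; rfl)
  generalize q * n * q = u at huz hua
  set y' := u * y * u⁻¹ with hy'
  have hy'z : y' * z = z * y' := by
    rw [hy', ← hua]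
    calc u * y * u⁻¹ * (u * a * u⁻¹) = u * (y * a) * u⁻¹ := by group
      _ = _ := by rw [D.ya]; group
  have hy'a : y' * a = a * y' := by
    rw [hy', ← huz]
    calc u * y * u⁻¹ * (u * z * u⁻¹) = u * (y * z) * u⁻¹ := by group
      _ = _ := by rw [D.yz]; group
  have hy'3 : y' ^ 3 = 1 := by rw [hy', conj_pow, D.y3, mul_one, mul_inv_cancel]
  have hy'1 : y' ≠ 1 := fun e => D.y_ne (conj_eq_one_iff.1 e)
  have hst : ∀ {g : G}, g * z = z * g → g * a = a * g → D.S.act' g ∈ stabE := fun {g} hgz hga =>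
    ⟨D.S.act'_omega g, by rw [← D.S.F.vec_a, ← D.S.vec_conj hgz D.S.mem_a, hga, mul_inv_cancel_right]⟩
  have h3' : orderOf (D.S.act' y') = 3 := by
    haveI : Fact (Nat.Prime 3) := ⟨Nat.prime_three⟩
    refine orderOf_eq_prime (by rw [← D.act'_pow hy'z, hy'3, D.S.act'_q Q.one_mem]) fun e => hy'1 ?_
    have hQ := (D.S.act'_one_iff hy'z).1 e
    have h4 := D.q_pow_four hQ
    rw [pow_succ, hy'3, one_mul] at h4
    exact h4
  obtain ⟨C, hC, hCy⟩ := conj_in_stab (hst hy'z hy'a) (hst D.yz D.ya) h3' (by rw [D.act_eq_o1]; exact D.orderOf_o1)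
  obtain ⟨c0, hc0z, hc0a, hc0C⟩ := D.S.exists_fix hC.1 hC.2
  have hW : ∀ {g : G}, g * a = a * g → g ∈ centralizer ({a} : Set G) := fun h =>
    mem_centralizer_singleton_iff.2 h
  have key : ∀ b' : G, b' ^ 3 = 1 → b' * z = z * b' → b' * a = a * b' →
      C * D.S.act' y' * C⁻¹ = D.S.act' b' →
      ∃ c, c * z = z * c ∧ c * a = a * c ∧ c * y' * c⁻¹ = b' := fun b' h1 h2 h3 h4 => by
    obtain ⟨c, e1, e2, -, e4⟩ := D.exists_lift (centralizer ({a} : Set G)) hy'3 hy'z (hW hy'a) h1 h2 (hW h3)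
      hc0z (hW hc0a) hc0C h4
    exact ⟨c, e1, mem_centralizer_singleton_iff.1 e2, e4⟩
  have hfin : ∀ c, c * z = z * c → c * a = a * c → c * y' * c⁻¹ = y →
      ∃ g, g * y = y * g ∧ g * z * g⁻¹ = a ∧ g * a * g⁻¹ = z := fun c hcz hca hcy => by
    refine ⟨c * u, ?_, ?_, ?_⟩
    · calc c * u * y = c * y' * c⁻¹ * (c * u) := by rw [hy']; group
        _ = _ := by rw [hcy]
    · calc c * u * z * (c * u)⁻¹ = c * (u * z * u⁻¹) * c⁻¹ := by group
        _ = a := by rw [huz, hca, mul_inv_cancel_right]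
    · calc c * u * a * (c * u)⁻¹ = c * (u * a * u⁻¹) * c⁻¹ := by group
        _ = z := by rw [hua, hcz, mul_inv_cancel_right]
  rcases hCy with e | e
  · obtain ⟨c, h1, h2, h3⟩ := key y D.y3 D.yz D.ya e
    exact hfin c h1 h2 h3
  · obtain ⟨c, h1, h2, h3⟩ := key y⁻¹ (by rw [inv_pow, D.y3, inv_one]) (inv_z D.yz)
      (inv_z (z := a) D.ya) (by rw [D.S.act'_inv D.yz]; exact e)
    obtain ⟨k, hkz, hka, -, hky⟩ := D.exists_inv
    refine hfin (k * c) (SuzukiType.mul_z hkz h1) (SuzukiType.mul_z (z := a) hka h2) ?_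
    calc k * c * y' * (k * c)⁻¹ = k * (c * y' * c⁻¹) * k⁻¹ := by group
      _ = (k * y * k⁻¹)⁻¹ := by rw [h3]; group
      _ = y := by rw [hky, inv_inv]

/-- An involution of `C(z)` of the second class has coordinates `(k0, w0)` after conjugation. -/
theorem to_second (S : St Q Q' z a) {x : G} (hxz : x * z = z * x) (hxx : x * x = 1) (hx1 : x ≠ 1)
    (hnc : ¬ IsConj x z) : ∃ c, c * z = z * c ∧ Co S (c * x * c⁻¹) (k0, w0) := by
  obtain ⟨c, k, m, hcz, hk, hk0, hm, hmz, hw, hcx, hsq⟩ := S.shape hxz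
    (fun h => hnc (S.conj_of_mem h hxx hx1)) hxx
  have hB : bf (wof (S.act' m)) (pw (S.F.vec k)) = 1 := (z2 _).resolve_left fun e => hnc
    ((isConj_iff.2 ⟨c, hcx⟩ : IsConj x (k * m)).trans (S.conj_type_zero hk hk0 hm hmz hw hsq e))
  obtain ⟨hqk, hqw⟩ := S.km_conditions hk hk0 hm hmz hsq
  rw [hB] at hqk hqw
  obtain ⟨A, hA, hAe, hAk, hAw⟩ := exists_to_line S hqk hqw (by rw [bf_comm]; exact hB) (pw_mem _).2
    (inW_wof _).2
  obtain ⟨d, hdz, hda, hdA⟩ := S.exists_fix hA hAe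
  have h : Co S (k * m) (pw (S.F.vec k), wof (S.act' m)) := ⟨k, m, hk, hk0, hm, hmz, rfl, rfl, rfl⟩
  refine ⟨d * c, SuzukiType.mul_z hdz hcz, ?_⟩
  have h2 := h.conj hdz hda
  rw [hdA] at h2
  simp only [hAk, hAw, pw_eq inW_k0, pw_eq inW_w0] at h2
  rwa [show d * c * x * (d * c)⁻¹ = d * (c * x * c⁻¹) * d⁻¹ by group, hcx]

end Cfsg.Agent.SuzukiLocal
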