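import Cfsg.Agent.Lib.SuzukiLocal.Types

/-!
The four-group is normal in `C(t)`.
-/

set_option autoImplicit false
set_option maxRecDepth 8000
set_option synthInstance.maxSize 4096

namespace Cfsg.Agent.SuzukiLocal

open Subgroup Cfsg.Agent.LargeExtra Cfsg.Agent.OctadInv.Orbits Cfsg.Agent.SuzukiType Cfsg.Agent.SuzukiThree

variable {G : Type*} [Group G] [Finite G] {Q Q' : Subgroup G} {z a y : G} {D : Su Q Q' z a y} {t : G}

namespace Sec

variable (H : Sec D t)
include H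

theorem z_cent : z ∈ centralizer (H.E : Set G) :=
  H.mem_cent_E.2 ⟨H.tz.symm, H.comm_e rfl D.S.P.p.az.symm H.tz.symm⟩

theorem a_cent : a ∈ centralizer (H.E : Set G) :=
  H.mem_cent_E.2 ⟨H.ta.symm, H.comm_e D.S.P.p.az rfl H.ta.symm⟩

theorem E_comm_t {u : G} (hu : u ∈ H.E) : u * t = t * u := by
  rcases H.mem_E.1 hu with h | h | h | h <;> rw [h]
  · simp
  · exact H.orb.comm.symm
  · exact SuzukiType.mul_z (z := t) rfl H.orb.comm.symm

/-- An element of the four-group of `l` centralized by `w` lies in that of `w`. -/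
theorem El_move {w l x g k : G} (hw : ZT z t w) (hl : ZT z t l) (hg : Tr z t l g)
    (hx : g⁻¹ * x * g ∈ H.E) (hxw : x * w = w * x) (hk : Tr z t w k) : k⁻¹ * x * k ∈ H.E := by
  have hlx : x * l = l * x := by
    rw [← hg.1]
    have h := (mem_centralizer_iff.1 H.z_cent) _ hx
    calc x * (g * z * g⁻¹) = g * ((g⁻¹ * x * g) * z) * g⁻¹ := by group
      _ = g * (z * (g⁻¹ * x * g)) * g⁻¹ := by rw [h]
      _ = _ := by group
  have key : ∀ r u : G, r ∈ normalizer (H.E : Set G) → u ∈ H.E → r * u * r⁻¹ ∈ H.E := fun r u hr hu =>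
    (Subgroup.mem_normalizer_iff.1 hr u).1 hu
  by_cases he : Even (orderOf (w * l))
  · have h := key _ _ (H.same_even hw hl he k g hk hg) hx
    rwa [show k⁻¹ * g * (g⁻¹ * x * g) * (k⁻¹ * g)⁻¹ = k⁻¹ * x * k by group] at h
  · obtain ⟨j, hj⟩ := odd_conj hw.sq hl.sq (Nat.not_even_iff_odd.1 he)
    set d := (w * l) ^ j
    have hdt : d * t = t * d := pow_prod_comm hw.comm.symm hl.comm.symm _
    have hdx : d * x = x * d := pow_prod_comm hxw hlx _
    have hdk := hk.left hdt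
    rw [hj] at hdk
    have h := key _ _ (H.same_self l (d * k) g hdk hg) hx
    rwa [show (d * k)⁻¹ * g * (g⁻¹ * x * g) * ((d * k)⁻¹ * g)⁻¹ = k⁻¹ * (d⁻¹ * x * d) * k by group,
      mul_assoc d⁻¹, ← hdx, inv_mul_cancel_left] at h

/-- A conjugate of `yty⁻¹` under `C(t)` lies in `E`. -/
theorem conj_e_mem {g : G} (hg : g * t = t * g) : g * (y * t * y⁻¹) * g⁻¹ ∈ H.E := by
  set e0 := y * t * y⁻¹ with he0
  have he0E : e0 ∈ H.E := H.mem_E.2 (Or.inr (Or.inr (Or.inl he0)))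
  set x := g * e0 * g⁻¹ with hx
  have hxx : x * x = 1 := by
    rw [hx, show g * e0 * g⁻¹ * (g * e0 * g⁻¹) = g * (e0 * e0) * g⁻¹ by group, H.e_sq]; group
  have hxt : x * t = t * x := SuzukiType.mul_z (z := t) (SuzukiType.mul_z (z := t) hg (H.E_comm_t he0E))
    (inv_z (z := t) hg)
  have hxg : g⁻¹ * x * g ∈ H.E := by rwa [show g⁻¹ * x * g = e0 by rw [hx]; group]
  have hl := H.tr_one.left (g := g) hg
  rw [mul_one] at hl
  have hev : Even (orderOf (z * x)) := Nat.not_odd_iff_even.1 fun ho => by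
    obtain ⟨j, hj⟩ := odd_conj D.S.h.zz hxx ho
    exact H.E_not_z he0E ((isConj_iff.2 ⟨g, rfl⟩ : IsConj e0 x).trans
      (isConj_iff.2 ⟨_, hj⟩ : IsConj z x).symm)
  obtain ⟨hww, hw1, hwz, hwx, j, hj⟩ := middle D.S.h.zz hxx hev
  set w := (z * x) ^ (orderOf (z * x) / 2)
  have hwt : w * t = t * w := pow_prod_comm H.tz hxt.symm _
  set d := (z * x) ^ j
  have hdt : d * t = t * d := pow_prod_comm H.tz hxt.symm _
  have hdw : d * w = w * d := pow_prod_comm hwz hwx _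
  rcases H.classes hww hw1 with hc | hc
  · have hw : ZT z t w := ⟨hwt, hww, hc⟩
    obtain ⟨k, hk⟩ := H.exists_tr hw
    have h := H.El_move hw (H.zt_of_tr hl) hl hxg hwx.symm hk
    have hn := H.same_comm H.zt_z hw hwz.symm 1 k H.tr_one hk
    rw [inv_one, one_mul] at hn
    have h' := (Subgroup.mem_normalizer_iff.1 hn _).1 h
    rwa [show k * (k⁻¹ * x * k) * k⁻¹ = x by group] at h'
  rcases hj with ⟨-, e⟩ | ⟨-, e⟩
  · have h1 := H.zt_conj H.zt_z hdt
    rw [e] at h1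
    exact absurd (by rwa [mul_assoc, D.S.h.zz, mul_one] : IsConj (w * z * z) t)
      (H.zt_mul_ne h1 H.zt_z (by rw [hwz, mul_assoc, hwz]))
  have hdg := hl.left hdt
  have huz : w * z * z = z * (w * z) := by rw [← mul_assoc, ← hwz]
  have hu : w * z ∈ H.E := by
    have := H.El_move H.zt_z (H.zt_of_tr hdg) hdg
      (x := w * z) (by rwa [← e, show (d * g)⁻¹ * (d * x * d⁻¹) * (d * g) = g⁻¹ * x * g by group])
      huz H.tr_one
    simpa using this
  suffices hd : d ∈ normalizer (H.E : Set G) by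
    have h' := (Subgroup.mem_normalizer_iff.1 (inv_mem hd) _).1 hu
    rwa [← e, inv_inv, show d⁻¹ * (d * x * d⁻¹) * d = x by group] at h'
  have hd1 := H.tr_one.left (g := d) hdt
  rw [mul_one] at hd1
  set l := d * z * d⁻¹ with hld
  have hl' := H.zt_of_tr hd1
  suffices hs : H.Same z l by
    have := hs 1 d H.tr_one hd1
    rwa [inv_one, one_mul] at this
  by_cases hev1 : Even (orderOf (z * l))
  · exact H.same_even H.zt_z hl' hev1
  have hza := H.same_comm H.zt_z H.zt_a D.S.P.p.az.symm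
  by_cases hev2 : Even (orderOf (a * l))
  · exact H.same_trans H.zt_a hza (H.same_even H.zt_a hl' hev2)
  exfalso
  obtain ⟨j2, hj2⟩ := odd_conj D.S.h.zz hl'.sq (Nat.not_even_iff_odd.1 hev1)
  obtain ⟨j1, hj1⟩ := odd_conj D.S.h'.zz hl'.sq (Nat.not_even_iff_odd.1 hev2)
  set d1 := (a * l) ^ j1
  set d2 := (z * l) ^ j2
  have haw : w * a = a * w := by
    have h1 : Commute a (w * z) := (mem_centralizer_iff.1 H.a_cent _ hu).symm
    have h2 := h1.mul_right (show Commute a z from D.S.P.p.az)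
    rw [mul_assoc, D.S.h.zz, mul_one] at h2
    exact h2.eq.symm
  have hlw : w * l = l * w :=
    (((show Commute w d from hdw.symm).mul_right (show Commute w z from hwz)).mul_right
      (show Commute w d from hdw.symm).inv_right).eq
  have hd1t : d1 * t = t * d1 := pow_prod_comm H.ta hl'.comm.symm _
  have hd2t : d2 * t = t * d2 := pow_prod_comm H.tz hl'.comm.symm _
  have hd1w : d1 * w = w * d1 := pow_prod_comm haw hlw _
  have hd2w : d2 * w = w * d2 := pow_prod_comm hwz hlw _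
  have hk := H.tr_one.left (g := d1⁻¹ * d2) (SuzukiType.mul_z (z := t) (inv_z (z := t) hd1t) hd2t)
  have hka : d1⁻¹ * d2 * z * (d1⁻¹ * d2)⁻¹ = a := by
    calc d1⁻¹ * d2 * z * (d1⁻¹ * d2)⁻¹ = d1⁻¹ * (d2 * z * d2⁻¹) * d1 := by group
      _ = d1⁻¹ * (d1 * a * d1⁻¹) * d1 := by rw [hj2, hj1]
      _ = a := by group
  rw [hka, mul_one] at hk
  have hn := hza 1 _ H.tr_one hk
  rw [inv_one, one_mul] at hn
  have hm := (Subgroup.mem_normalizer_iff.1 hn _).1 hu
  have hkw : d1⁻¹ * d2 * w * (d1⁻¹ * d2)⁻¹ = w :=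
    mul_inv_eq_iff_eq_mul.2 (SuzukiType.mul_z (z := w) (inv_z (z := w) hd1w) hd2w)
  rw [show d1⁻¹ * d2 * (w * z) * (d1⁻¹ * d2)⁻¹ =
    (d1⁻¹ * d2 * w * (d1⁻¹ * d2)⁻¹) * (d1⁻¹ * d2 * z * (d1⁻¹ * d2)⁻¹) by group, hka, hkw] at hm
  have := mul_mem (inv_mem hu) hm
  rw [mul_inv_rev, mul_assoc, inv_mul_cancel_left, inv_eq_of_mul_eq_one_right D.S.h.zz] at this
  exact H.za_not_E this

/-- `E` is normal in `C(t)`. -/
theorem norm_t {g : G} (hg : g * t = t * g) : g ∈ normalizer (H.E : Set G) := by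
  have hgt : g * t * g⁻¹ = t := by rw [hg, mul_inv_cancel_right]
  refine H.mem_normalizer hgt ?_
  rcases H.mem_E.1 (H.conj_e_mem hg) with h | h | h | h
  · exact absurd (conj_eq_one_iff.1 h) H.e_ne_one
  · exact absurd ((MulAut.conj g).injective (h.trans hgt.symm)) H.e_ne
  · exact Or.inl h
  · exact Or.inr h

/-- The involutions conjugate to `z` in `C(t)` centralize `E`. -/
theorem zt_cent {l : G} (h : ZT z t l) : l ∈ centralizer (H.E : Set G) := by
  obtain ⟨g, hg⟩ := H.exists_tr h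
  refine mem_centralizer_iff.2 fun u hu => ?_
  have hu' := (Subgroup.mem_normalizer_iff.1 (inv_mem (H.norm_t hg.comm)) u).1 hu
  have hc := (mem_centralizer_iff.1 H.z_cent) _ hu'
  rw [← hg.1]
  calc u * (g * z * g⁻¹) = g * (g⁻¹ * u * g⁻¹⁻¹ * z) * g⁻¹ := by group
    _ = g * (z * (g⁻¹ * u * g⁻¹⁻¹)) * g⁻¹ := by rw [hc]
    _ = _ := by group

/-- One involution conjugate to `z` in a coset of `E`. -/
theorem zt_uniq {l u : G} (h : ZT z t l) (hu : u ∈ H.E) (h' : IsConj (l * u) z) : u = 1 := by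
  by_contra hu1
  obtain ⟨g, hg⟩ := H.exists_tr h
  have hu' := (Subgroup.mem_normalizer_iff.1 (inv_mem (H.norm_t hg.comm)) u).1 hu
  refine H.zu_not_z hu' (fun e => hu1 (conj_eq_one_iff.1 e)) ?_
  refine (show IsConj (z * (g⁻¹ * u * g⁻¹⁻¹)) (l * u) from isConj_iff.2 ⟨g, ?_⟩).trans h'
  rw [← hg.1]; group

/-- Two cosets of `C(E)` in `C(t)`. -/
theorem cent_cases {g c : G} (hg : g * t = t * g) (hc : c * t = t * c)
    (hce : c * (y * t * y⁻¹) * c⁻¹ = t * (y * t * y⁻¹)) :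
    g ∈ centralizer (H.E : Set G) ∨ c⁻¹ * g ∈ centralizer (H.E : Set G) := by
  rcases H.mem_E.1 (H.conj_e_mem hg) with h | h | h | h
  · exact absurd (conj_eq_one_iff.1 h) H.e_ne_one
  · exact absurd ((MulAut.conj g).injective (h.trans (by rw [MulAut.conj_apply, hg, mul_inv_cancel_right] : t = MulAut.conj g t))) H.e_ne
  · exact Or.inl (H.mem_cent_E.2 ⟨hg, mul_inv_eq_iff_eq_mul.1 h⟩)
  · refine Or.inr (H.mem_cent_E.2 ⟨SuzukiType.mul_z (z := t) (inv_z (z := t) hc) hg, ?_⟩)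
    calc c⁻¹ * g * (y * t * y⁻¹) = c⁻¹ * (g * (y * t * y⁻¹) * g⁻¹) * g := by group
      _ = c⁻¹ * (c * (y * t * y⁻¹) * c⁻¹) * g := by rw [h, hce]
      _ = _ := by group

end Sec

end Cfsg.Agent.SuzukiLocal
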