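import Cfsg.Agent.Lib.SuzukiLocal.PlaneCards
import Cfsg.Agent.Lib.SuzukiLocal.CountZ

/-!
The order of a group of Suzuki sporadic type, by the Thompson order formula.
-/

set_option autoImplicit false
set_option maxRecDepth 8000
set_option synthInstance.maxSize 4096

namespace Cfsg.Agent.SuzukiLocal

open Subgroup Cfsg.Agent.LargeExtra Cfsg.Agent.OctadInv.Orbits Cfsg.Agent.SuzukiType Cfsg.Agent.SuzukiThree

variable {G : Type*} [Group G] [Finite G] {Q Q' : Subgroup G} {z a y : G} {D : Su Q Q' z a y} {t : G}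

/-- Pairs counted over one coordinate. -/
theorem card_pairs {α β : Type*} [Finite α] [Finite β] (A : α → Prop) (R : α → β → Prop) (n : ℕ)
    (h : ∀ x, A x → Nat.card {w // R x w} = n) :
    Nat.card {p : α × β // A p.1 ∧ R p.1 p.2} = Nat.card {x // A x} * n := by
  classical
  haveI := Fintype.ofFinite {x // A x}
  rw [Nat.card_congr ({
    toFun := fun p => ⟨⟨p.1.1, p.2.1⟩, p.1.2, p.2.2⟩
    invFun := fun s => ⟨(s.1.1, s.2.1), s.1.2, s.2.2⟩
    left_inv := fun p => rfl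
    right_inv := fun s => rfl } : {p : α × β // A p.1 ∧ R p.1 p.2} ≃ Σ x : {x // A x}, {w // R x.1 w}),
    Nat.card_sigma, Finset.sum_congr rfl fun x _ => h x.1 x.2, Finset.sum_const, Finset.card_univ,
    smul_eq_mul, Nat.card_eq_fintype_card]

omit [Finite G] in
/-- A power of `u * v` of order two commutes with `u` and with `v`. -/
theorem comm_of_mem {u v w : G} (hu : u * u = 1) (hv : v * v = 1) (hw : w * w = 1)
    (hm : w ∈ zpowers (u * v)) : u * w = w * u ∧ v * w = w * v := by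
  have hui : u⁻¹ = u := inv_eq_of_mul_eq_one_right hu
  obtain ⟨i, hi⟩ := hm
  have h1 : u * w * u⁻¹ = w := by
    have h : u * (u * v) * u⁻¹ = (u * v)⁻¹ := by
      rw [← mul_assoc, hu, one_mul, mul_inv_rev, hui, inv_eq_of_mul_eq_one_right hv]
    calc u * w * u⁻¹ = (u * (u * v) * u⁻¹) ^ i := by
          rw [← hi, show u * (u * v) * u⁻¹ = MulAut.conj u (u * v) from rfl, ← map_zpow]; rfl
      _ = w⁻¹ := by rw [h, inv_zpow, ← hi]
      _ = w := inv_eq_of_mul_eq_one_right hw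
  have h1' : Commute u w := mul_inv_eq_iff_eq_mul.1 h1
  have h2 : Commute (u * v) w := hi ▸ (Commute.refl (u * v)).zpow_right i
  refine ⟨h1', ?_⟩
  have h3 := h1'.mul_left h2
  rw [← mul_assoc, hu, one_mul] at h3
  exact h3

omit [Finite G] in
theorem conj_zpowers (g u x : G) :
    g * x * g⁻¹ ∈ zpowers (g * u * g⁻¹) ↔ x ∈ zpowers u := by
  constructor
  · rintro ⟨i, hi⟩
    refine ⟨i, (MulAut.conj g).injective ?_⟩
    rw [map_zpow]; exact hi
  · rintro ⟨i, rfl⟩
    exact ⟨i, by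
      show (g * u * g⁻¹) ^ i = g * u ^ i * g⁻¹
      rw [show g * u * g⁻¹ = MulAut.conj g u from rfl, ← map_zpow]; rfl⟩

namespace Sec

variable (H : Sec D t)
include H

theorem conj_one_ne {v : G} (h : IsConj t v) : v * v = 1 ∧ v ≠ 1 := by
  obtain ⟨g, rfl⟩ := isConj_iff.1 h
  exact ⟨by rw [show g * t * g⁻¹ * (g * t * g⁻¹) = g * (t * t) * g⁻¹ by group, H.orb.sq]; group,
    fun e => H.ne_one (conj_eq_one_iff.1 e)⟩

theorem z_conj_sq {u : G} (h : IsConj z u) : u * u = 1 := by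
  obtain ⟨g, rfl⟩ := isConj_iff.1 h
  rw [show g * z * g⁻¹ * (g * z * g⁻¹) = g * (z * z) * g⁻¹ by group, D.S.h.zz]; group

/-- The order of `C(z)`. -/
theorem card_cz : Nat.card ↥(centralizer ({z} : Set G)) = 3317760 := by
  let φ : ↥(centralizer ({z} : Set G)) →* ↥(Cfsg.Omega (ZMod 2) ⇑F6) :=
    MonoidHom.mk' (fun x => ⟨D.S.act' x, D.S.act'_omega _⟩) fun x x' => Subtype.ext
      (D.S.act'_mul (mem_centralizer_singleton_iff.1 x.2) (mem_centralizer_singleton_iff.1 x'.2))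
  have hs : Function.Surjective φ := fun A => by
    obtain ⟨c, hc, e⟩ : ∃ c, c * z = z * c ∧ D.S.act' c = A.1 := D.lift_omega A.2
    exact ⟨⟨c, mem_centralizer_singleton_iff.2 hc⟩, Subtype.ext e⟩
  have hk : φ.ker = Q.subgroupOf (centralizer ({z} : Set G)) := by
    ext x
    rw [MonoidHom.mem_ker, mem_subgroupOf, ← D.S.act'_one_iff (mem_centralizer_singleton_iff.1 x.2)]
    exact ⟨fun e => congrArg Subtype.val e, fun e => Subtype.ext e⟩
  rw [Subgroup.card_eq_card_quotient_mul_card_subgroup φ.ker,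
    Nat.card_congr (QuotientGroup.quotientKerEquivOfSurjective φ hs).toEquiv, card_omega, hk,
    Nat.card_congr (subgroupOfEquivOfLe (fun x hx => mem_centralizer_singleton_iff.2 (D.S.qz hx))).toEquiv,
    D.card]

/-- The conjugates of `t` in `C(z)`. -/
theorem card_t_class : Nat.card {v : G // IsConj t v ∧ v * z = z * v} = 6480 := by
  set Cz := centralizer ({z} : Set G)
  set t' : ↥Cz := ⟨t, mem_centralizer_singleton_iff.2 H.tz⟩
  have e := Involutions.OrderFormula.class_card_mul t'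
  have hmap : (centralizer ({t'} : Set ↥Cz)).map Cz.subtype =
      Cz ⊓ centralizer ({t} : Set G) := by
    refine le_antisymm ?_ ?_
    · rintro _ ⟨x, hx, rfl⟩
      exact ⟨x.2, mem_centralizer_singleton_iff.2 (congrArg Subtype.val (mem_centralizer_singleton_iff.1 hx))⟩
    · rintro x ⟨hx, hxt⟩
      exact ⟨⟨x, hx⟩, mem_centralizer_singleton_iff.2 (Subtype.ext (mem_centralizer_singleton_iff.1 hxt)), rfl⟩
  rw [← Subgroup.card_map_of_injective (f := Cz.subtype) Cz.subtype_injective, hmap, H.card_zt,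
    H.card_cz] at e
  have heq : Nat.card {u : ↥Cz // IsConj t' u} = Nat.card {v : G // IsConj t v ∧ v * z = z * v} := by
    refine Nat.card_congr
      { toFun := fun u => ⟨u.1.1, Cz.subtype.map_isConj u.2, mem_centralizer_singleton_iff.1 u.1.2⟩
        invFun := fun v => ⟨⟨v.1, mem_centralizer_singleton_iff.2 v.2.2⟩, ?_⟩
        left_inv := fun u => rfl
        right_inv := fun v => rfl }
    obtain ⟨hv2, hv1⟩ := H.conj_one_ne v.2.1
    obtain ⟨c, hcz, hc⟩ := H.to_t v.2.2 hv2 hv1 fun h => H.t_not_conj (v.2.1.trans h)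
    exact (isConj_iff.2 ⟨⟨c, mem_centralizer_singleton_iff.2 hcz⟩, Subtype.ext hc⟩ : IsConj _ t').symm
  omega

/-- The pairs at `z`. -/
theorem pairs_z :
    Nat.card {p : G × G // IsConj z p.1 ∧ IsConj t p.2 ∧ z ∈ zpowers (p.1 * p.2)} = 6480 * 236 := by
  obtain ⟨k, m, hk, hkv, hm, hmz, hmw, hsq⟩ := D.S.exists_second
  have hkm : ¬ IsConj (k * m) z := fun e =>
    D.S.not_conj hk hkv hm hmz hmw (by rw [D.card]; norm_num) e.symm
  have hkm1 : k * m ≠ 1 := fun e0 => by
    have h1 : D.S.act' (k * m) = D.S.act' 1 := by rw [e0]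
    rw [D.S.act'_mul (D.S.qz hk) hmz, D.S.act'_q hk, one_mul, D.S.act'_q Q.one_mem] at h1
    have h2 : wof (D.S.act' m) = wof 1 := by rw [h1]
    rw [hmw, wof, OctadInv.Orbits.act_one, pw_f1] at h2
    exact absurd h2 (by decide)
  obtain ⟨c0, hc0z, hc0⟩ := H.to_t (SuzukiType.mul_z (D.S.qz hk) hmz) hsq hkm1 hkm
  have key : ∀ v, (IsConj t v ∧ v * z = z * v) →
      Nat.card {u // IsConj z u ∧ u * z = z * u ∧ z ∈ zpowers (u * v)} = 236 := by
    rintro v ⟨hv, hvz⟩
    obtain ⟨hv2, hv1⟩ := H.conj_one_ne hv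
    obtain ⟨c, hcz, hc⟩ := H.to_t hvz hv2 hv1 fun h => H.t_not_conj (hv.trans h)
    set d := c0⁻¹ * c
    have hdz : d * z = z * d := SuzukiType.mul_z (inv_z hc0z) hcz
    have hdv : d * v * d⁻¹ = k * m := by
      calc d * v * d⁻¹ = c0⁻¹ * (c * v * c⁻¹) * c0 := by
            show c0⁻¹ * c * v * (c0⁻¹ * c)⁻¹ = _
            group
        _ = k * m := by rw [hc, ← hc0]; group
    have hfix : d * z * d⁻¹ = z := by rw [hdz, mul_inv_cancel_right]
    rw [← CZ.count_z (S := D.S) D.card hk hkv hm hmz hmw hsq]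
    refine Nat.card_congr (Equiv.subtypeEquiv (MulAut.conj d).toEquiv fun u => ?_)
    show _ ↔ IsConj z (d * u * d⁻¹) ∧ d * u * d⁻¹ * z = z * (d * u * d⁻¹) ∧
      z ∈ zpowers (d * u * d⁻¹ * (k * m))
    rw [← hdv, show d * u * d⁻¹ * (d * v * d⁻¹) = d * (u * v) * d⁻¹ by group]
    have e1 : IsConj z u ↔ IsConj z (d * u * d⁻¹) :=
      ⟨fun h => h.trans (isConj_iff.2 ⟨d, rfl⟩), fun h => h.trans (isConj_iff.2 ⟨d, rfl⟩ : IsConj u _).symm⟩
    have e2 : u * z = z * u ↔ d * u * d⁻¹ * z = z * (d * u * d⁻¹) := by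
      rw [← (MulAut.conj d).injective.eq_iff]
      simp only [map_mul, MulAut.conj_apply, hfix]
    have e3 := conj_zpowers d (u * v) z
    rw [hfix] at e3
    rw [← e1, ← e2, e3]
  rw [← H.card_t_class, ← card_pairs _ (fun v u => IsConj z u ∧ u * z = z * u ∧ z ∈ zpowers (u * v)) 236 key]
  refine Nat.card_congr (Equiv.subtypeEquiv (Equiv.prodComm G G) fun p => ?_)
  constructor
  · rintro ⟨h1, h2, h3⟩
    obtain ⟨e1, e2⟩ := comm_of_mem (H.z_conj_sq h1) (H.conj_one_ne h2).1 D.S.h.zz h3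
    exact ⟨⟨h2, e2⟩, h1, e1, h3⟩
  · rintro ⟨⟨h2, -⟩, h1, -, h3⟩
    exact ⟨h1, h2, h3⟩

/-- The involutions of `C(t)` conjugate to `z`. -/
theorem card_ZT : Nat.card {l // ZT z t l} = 315 := by
  have e := Involutions.OrderFormula.class_card_mul (H.bar H.zt_z)
  rw [H.card_cent_bar, H.card_Mq] at e
  have hb : Nat.card {l // ZT z t l} = Nat.card {q : H.Mq // IsConj (H.bar H.zt_z) q} := by
    refine Nat.card_eq_of_bijective
      (fun l => ⟨H.bar l.2, H.one_class_Mq _ _ (H.orderOf_bar H.zt_z) (H.orderOf_bar l.2)⟩) ⟨?_, ?_⟩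
    · intro l l' he
      exact Subtype.ext (H.bar_inj l.2 l'.2 (congrArg Subtype.val he))
    · intro q
      obtain ⟨g, hg⟩ := isConj_iff.1 q.2
      obtain ⟨l, hl, hq⟩ := H.lift (q := q.1) (by rw [← hg, Involutions.Basic.orderOf_conj, H.orderOf_bar])
      exact ⟨⟨l, hl⟩, Subtype.ext hq⟩
  omega

/-- Parity of a product in the quotient. -/
theorem odd_bar {l : G} (hl : ZT z t l) :
    Odd (orderOf (H.bar H.zt_z * H.bar hl)) ↔ Odd (orderOf (z * l)) := by
  set u : ↥(centralizer (H.E : Set G)) := ⟨z, H.zt_cent H.zt_z⟩ * ⟨l, H.zt_cent hl⟩ with hu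
  have hb : H.bar H.zt_z * H.bar hl = H.pr u := by rw [bar, bar, ← map_mul]
  have hord : orderOf u = orderOf (z * l) := (Subgroup.orderOf_coe u).symm
  rw [hb]
  refine ⟨fun ho => ?_, fun ho => Odd.of_dvd_nat (hord ▸ ho) (orderOf_map_dvd _ u)⟩
  by_contra he
  obtain ⟨w, hw, hwm, -, -⟩ := H.zt_middle H.zt_z hl (Nat.not_odd_iff_even.1 he)
  obtain ⟨i, hi⟩ := hwm
  have h2 : H.bar hw ∈ zpowers (H.pr u) := ⟨i, by
    show H.pr u ^ i = H.bar hw
    rw [← map_zpow, bar]
    exact congrArg _ (Subtype.ext (by rw [Subgroup.coe_zpow]; exact hi))⟩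
  have h3 := orderOf_dvd_of_mem_zpowers h2
  rw [H.orderOf_bar] at h3
  exact Nat.not_even_iff_odd.2 ho (even_iff_two_dvd.2 h3)

/-- The second involutions with `t` in `⟨zv⟩`. -/
theorem fibre_t : Nat.card {v : G // IsConj t v ∧ t ∈ zpowers (z * v)} = 193 := by
  obtain ⟨F, i1, i2, h4, ⟨e⟩⟩ := H.exists_model
  rw [← PlaneModel.card_odd h4 e (H.orderOf_bar H.zt_z)]
  have key : ∀ v : G, IsConj t v ∧ t ∈ zpowers (z * v) ↔ ZT z t (t * v) ∧ Odd (orderOf (z * (t * v))) := by
    intro v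
    constructor
    · rintro ⟨hv, hm⟩
      obtain ⟨hvv, -⟩ := H.conj_one_ne hv
      have hev : Even (orderOf (z * v)) := Nat.not_odd_iff_even.1 fun ho => by
        obtain ⟨j, hj⟩ := odd_conj D.S.h.zz hvv ho
        exact H.t_not_conj (hv.trans (isConj_iff.2 ⟨_, hj⟩ : IsConj z v).symm)
      have ht2 : orderOf t = 2 := orderOf_eq_prime (by rw [pow_two, H.orb.sq]) H.ne_one
      have hmid := Involutions.OrderFormula.eq_middle ht2 hm
      obtain ⟨-, -, -, -, j, hj⟩ := middle D.S.h.zz hvv hev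
      rcases hj with ⟨-, hj⟩ | ⟨hodd, -⟩
      · rw [← hmid, H.tz] at hj
        exact absurd (isConj_iff.2 ⟨_, hj⟩ : IsConj z (z * t)).symm
          (H.zu_not_z (H.mem_E.2 (Or.inr (Or.inl rfl))) H.ne_one)
      obtain ⟨i, hi⟩ := hodd
      have htv : t * v = (z * v) ^ (i + i) * z := by
        rw [hmid, hi, show 2 * i + 1 = i + i + 1 by omega, pow_succ, mul_assoc, mul_assoc z, hvv, mul_one]
      have htc : t * (z * v) = (z * v) * t := by
        rw [hmid]; exact ((Commute.refl (z * v)).pow_left _).eq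
      have hdt : (z * v) ^ i * t = t * (z * v) ^ i := ((show Commute (z * v) t from htc.symm).pow_left i).eq
      have hl := H.zt_conj H.zt_z hdt
      rw [pow_conj D.S.h.zz hvv, ← htv] at hl
      refine ⟨hl, ?_⟩
      rw [htv, ← mul_assoc, prod_flip D.S.h.zz hvv, orderOf_inv]
      refine Odd.of_dvd_nat (n := orderOf (z * v) / 2) (hi ▸ odd_two_mul_add_one i) (orderOf_dvd_of_pow_eq_one ?_)
      obtain ⟨m, hm2⟩ := hev
      rw [← pow_mul, show (i + i) * (orderOf (z * v) / 2) = orderOf (z * v) * i by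
        rw [show orderOf (z * v) / 2 = m by omega, hm2]; ring, pow_mul, pow_orderOf_eq_one, one_pow]
    · rintro ⟨hl, ho⟩
      set l := t * v with hl'
      have hv : v = t * l := by rw [hl', ← mul_assoc, H.orb.sq, one_mul]
      have hv2 : v * v = 1 := by
        rw [hv, show t * l * (t * l) = t * (l * t) * l by group, hl.comm,
          show t * (t * l) * l = t * t * (l * l) by group, H.orb.sq, hl.sq, mul_one]
      have hv1 : v ≠ 1 := fun e => H.t_not_conj (by
        have h := hl.conj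
        rwa [hl', e, mul_one] at h)
      have hvt : v * t = t * v := by
        rw [hv]; exact SuzukiType.mul_z (z := t) rfl hl.comm
      refine ⟨((H.classes hv2 hv1).resolve_left fun h => ?_).symm, ?_⟩
      · refine H.zt_mul_ne hl ⟨hvt, hv2, h⟩ ?_ ?_
        · rw [hl', mul_assoc t v v, ← mul_assoc v t v, hvt, mul_assoc]
        · rw [hl', mul_assoc, hv2, mul_one]
      · obtain ⟨i, hi⟩ := ho
        have hc : Commute t (z * l) := (show Commute t z from H.tz).mul_right (show Commute t l from hl.comm.symm)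
        have : (z * v) ^ (orderOf (z * l)) = t := by
          rw [hv, ← mul_assoc, ← H.tz, mul_assoc, hc.mul_pow, pow_orderOf_eq_one, mul_one, hi, pow_succ,
            pow_mul, pow_two, H.orb.sq, one_pow, one_mul]
        nth_rw 1 [← this]
        exact pow_mem (mem_zpowers _) _
  refine Nat.card_eq_of_bijective (fun v => ⟨H.bar ((key v.1).1 v.2).1,
    H.orderOf_bar _, (H.odd_bar _).2 ((key v.1).1 v.2).2⟩) ⟨?_, ?_⟩
  · intro v v' he
    exact Subtype.ext (mul_left_cancel (H.bar_inj ((key v.1).1 v.2).1 ((key v'.1).1 v'.2).1 (congrArg Subtype.val he)))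
  · rintro ⟨q, hq, ho⟩
    obtain ⟨l, hl, rfl⟩ := H.lift hq
    have e' : t * (t * l) = l := by rw [← mul_assoc, H.orb.sq, one_mul]
    exact ⟨⟨t * l, (key _).2 (by rw [e']; exact ⟨hl, (H.odd_bar hl).1 ho⟩)⟩,
      Subtype.ext (by simp only [bar]; exact congrArg _ (Subtype.ext e'))⟩

/-- The pairs at `t`. -/
theorem pairs_t :
    Nat.card {p : G × G // IsConj z p.1 ∧ IsConj t p.2 ∧ t ∈ zpowers (p.1 * p.2)} = 315 * 193 := by
  have key : ∀ u, ZT z t u → Nat.card {v // IsConj t v ∧ t ∈ zpowers (u * v)} = 193 := by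
    intro u hu
    obtain ⟨g, hgz, hgt⟩ := H.exists_tr hu
    rw [← H.fibre_t]
    refine (Nat.card_congr (Equiv.subtypeEquiv (MulAut.conj g).toEquiv fun v => ?_)).symm
    show _ ↔ IsConj t (g * v * g⁻¹) ∧ t ∈ zpowers (u * (g * v * g⁻¹))
    have e1 : IsConj t v ↔ IsConj t (g * v * g⁻¹) :=
      ⟨fun h => h.trans (isConj_iff.2 ⟨g, rfl⟩), fun h => h.trans (isConj_iff.2 ⟨g, rfl⟩ : IsConj v _).symm⟩
    have e3 := conj_zpowers g (z * v) t
    rw [hgt] at e3
    rw [← e1, show u * (g * v * g⁻¹) = g * (z * v) * g⁻¹ by rw [← hgz]; group, e3]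
  rw [← H.card_ZT, ← card_pairs _ (fun u v => IsConj t v ∧ t ∈ zpowers (u * v)) 193 key]
  refine Nat.card_congr (Equiv.subtypeEquivRight fun p => ?_)
  constructor
  · rintro ⟨h1, h2, h3⟩
    obtain ⟨e1, -⟩ := comm_of_mem (H.z_conj_sq h1) (H.conj_one_ne h2).1 H.orb.sq h3
    exact ⟨⟨e1, H.z_conj_sq h1, h1.symm⟩, h2, h3⟩
  · rintro ⟨hu, h2, h3⟩
    exact ⟨hu.conj.symm, h2, h3⟩

/-- The order of `G`. -/
theorem card_G : Nat.card G = 448345497600 := by
  rw [Involutions.OrderFormula.order_formula z t (orderOf_eq_prime (by rw [pow_two, D.S.h.zz]) D.S.h.ne_one)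
    (orderOf_eq_prime (by rw [pow_two, H.orb.sq]) H.ne_one) (fun e => H.t_not_conj e.symm) (fun x hx => by
      rcases H.classes (x := x) (by rw [← pow_two, ← hx, pow_orderOf_eq_one])
        (fun e => by rw [e, orderOf_one] at hx; omega) with h | h
      exacts [Or.inl h.symm, Or.inr h.symm]),
    H.card_ct, H.pairs_z, H.card_cz, H.pairs_t]

end Sec

end Cfsg.Agent.SuzukiLocal
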