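import Cfsg.Agent.Lib.SuzukiLocal.SecondChecks

/-!
Finite checks for the involutions of `C(E)/E` commuting with the image of `z`.
-/

set_option autoImplicit false
set_option maxRecDepth 20000
set_option synthInstance.maxSize 4096

namespace Cfsg.Agent.SuzukiLocal

open Cfsg.Agent.SuzukiType Cfsg.Agent.SuzukiThree

theorem type_shift : ∀ v : V, InW v → ∀ w : V, InW w → cz (v, w) pT = 0 → ca (v, w) pT = 0 →
    qz (v, w) = 0 → qa (v, w) = 0 → bf w v = 1 →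
    bf (w + pT.2) (v + pT.1) = 0 ∨ bf (w + pE.2) (v + pE.1) = 0 ∨
      bf (w + (pT.2 + pE.2)) (v + (pT.1 + pE.1)) = 0 := by decide +kernel

theorem shift_keep : ∀ v : V, InW v → ∀ w : V, InW w → cz (v, w) pT = 0 → ca (v, w) pT = 0 →
    qz (v, w) = 0 → qa (v, w) = 0 →
    (qz ((v, w) + pT) = 0 ∧ qa ((v, w) + pT) = 0) ∧ (qz ((v, w) + pE) = 0 ∧ qa ((v, w) + pE) = 0) ∧
      (qz ((v, w) + (pT + pE)) = 0 ∧ qa ((v, w) + (pT + pE)) = 0) := by decide +kernel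

/-- The coordinates of the elementary abelian subgroup of order 16. -/
def pA (α β : ZMod 2) : V × V := (sm α h1, sm β h1)

theorem pA_facts : ∀ α β : ZMod 2, InW (pA α β).1 ∧ InW (pA α β).2 ∧ cz (pA α β) pT = 0 ∧ ca (pA α β) pT = 0 ∧
    qz (pA α β) = 0 ∧ qa (pA α β) = 0 ∧ bf (pA α β).2 (pA α β).1 = 0 ∧
    (∀ α' β' : ZMod 2, pA α β + pA α' β' = pA (α + α') (β + β') ∧
      (pA α β = pA α' β' → α = α' ∧ β = β')) := by decide +kernel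

theorem pN_facts : InW h1 ∧ InW h2 ∧ cz (h1, 0) pT = 0 ∧ ca (h1, 0) pT = 0 ∧ qz (h1, (0 : V)) = 0 ∧
    qa (h1, (0 : V)) = 0 ∧ bf 0 h1 = 0 ∧ cz (h2, 0) pT = 0 ∧ ca (h2, 0) pT = 0 ∧ qz (h2, (0 : V)) = 0 ∧
    qa (h2, (0 : V)) = 0 ∧ bf 0 h2 = 0 ∧ cz (h1, 0) (h2, 0) = 1 ∧ (h1 ≠ 0 ∧ h2 ≠ 0) := by decide +kernel

end Cfsg.Agent.SuzukiLocal
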