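import Cfsg.Agent.Lib.CIT.Theorem
import Cfsg.Agent.Lib.CIT.Gen
import Cfsg.Agent.Lib.CIT.ModelsOffender
import Cfsg.Agent.Lib.Suzuki3240.Models

/-!
A group with one class of involutions, all centralizers of order 64 and not abelian, and an elementary
abelian subgroup of order 16 is `PSL₃(4)`.
-/

set_option autoImplicit false

namespace Cfsg.Agent.SuzukiLocal.PlaneId

open Subgroup
open scoped MatrixGroups commutatorElement

universe u

variable {M : Type u} [Group M] [Finite M]

/-- The hypotheses. -/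
structure Hyp (M : Type u) [Group M] : Prop where
  cent : ∀ x : M, orderOf x = 2 → Nat.card (centralizer ({x} : Set M)) = 64
  one_class : ∀ x y : M, orderOf x = 2 → orderOf y = 2 → IsConj x y
  elem : ∃ A : Subgroup M, Nat.card A = 16 ∧ ∀ x ∈ A, x * x = 1
  noncomm : ∃ x y : M, orderOf x = 2 ∧ orderOf y = 2 ∧ x * y ≠ y * x ∧ (x * y) ^ 4 = 1

theorem isCIT (h : Hyp M) : CIT.IsCIT M := fun t ht =>
  IsPGroup.of_card (n := 6) (by rw [h.cent t ht]; norm_num)

theorem exists_involution (h : Hyp M) : ∃ x : M, orderOf x = 2 := by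
  obtain ⟨x, -, hx, -⟩ := h.noncomm
  exact ⟨x, hx⟩

/-- A normal subgroup with commuting elements has no involution. -/
theorem no_invol (h : Hyp M) {A : Subgroup M} (hA : A.Normal) (hc : ∀ u ∈ A, ∀ v ∈ A, u * v = v * u)
    {w : M} (hw : w ∈ A) : orderOf w ≠ 2 := fun hw2 => by
  obtain ⟨x, y, hx, hy, hne, -⟩ := h.noncomm
  obtain ⟨g, rfl⟩ := isConj_iff.1 (h.one_class w x hw2 hx)
  obtain ⟨g', rfl⟩ := isConj_iff.1 (h.one_class w y hw2 hy)
  exact hne (hc _ (hA.conj_mem w hw g) _ (hA.conj_mem w hw g'))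

theorem pCore_eq_bot (h : Hyp M) : Cfsg.pCore 2 M = ⊥ := by
  haveI : Fact (Nat.Prime 2) := ⟨Nat.prime_two⟩
  haveI := TimesPSLTwo.Affine.pCore_two_normal M
  set R := Cfsg.pCore 2 M with hR
  by_contra hne
  haveI : Nontrivial R := nontrivial_iff_ne_bot R |>.2 hne
  have hRp : IsPGroup 2 R := TimesPSLTwo.Affine.pCore_two_isPGroup M
  haveI := hRp.center_nontrivial
  obtain ⟨k, hk⟩ := IsPGroup.iff_card.1 (hRp.to_subgroup (center R))
  have h2 : 2 ∣ Nat.card (center R) := by
    rw [hk]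
    rcases k with _ | k
    · exact absurd hk (Finite.one_lt_card.ne')
    · exact dvd_pow_self 2 (Nat.succ_ne_zero k)
  obtain ⟨w, hw⟩ := exists_prime_orderOf_dvd_card' 2 h2
  refine no_invol h (A := (center R).map R.subtype) inferInstance ?_ ⟨w.1, w.2, rfl⟩ (by
    show orderOf ((w.1 : R) : M) = 2
    rw [Subgroup.orderOf_coe, Subgroup.orderOf_coe, hw])
  rintro _ ⟨u, hu, rfl⟩ _ ⟨v, hv, rfl⟩
  rw [← map_mul, ← map_mul, mem_center_iff.1 hv u]

theorem not_solvable (h : Hyp M) : ¬ Group.IsSolvable M := by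
  classical
  intro hs
  obtain ⟨w, hw⟩ := exists_involution h
  have hex : ∃ n, derivedSeries M n = ⊥ := (Group.isSolvable_def M).1 hs
  obtain ⟨n, hn⟩ : ∃ n, Nat.find hex = n + 1 := by
    refine Nat.exists_eq_succ_of_ne_zero fun e => ?_
    have hb := Nat.find_spec hex
    rw [e, derivedSeries_zero] at hb
    have : w ∈ (⊥ : Subgroup M) := hb ▸ mem_top w
    rw [mem_bot] at this
    rw [this, orderOf_one] at hw
    omega
  have hA0 : derivedSeries M n ≠ ⊥ := Nat.find_min hex (by omega)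
  have hA1 : derivedSeries M (n + 1) = ⊥ := hn ▸ Nat.find_spec hex
  set A := derivedSeries M n with hA
  have hAn : A.Normal := derivedSeries_normal M n
  have hc : ∀ u ∈ A, ∀ v ∈ A, u * v = v * u := fun u hu v hv => by
    have : ⁅u, v⁆ ∈ derivedSeries M (n + 1) := by
      rw [derivedSeries_succ, ← hA]
      exact commutator_mem_commutator hu hv
    rw [hA1, mem_bot] at this
    exact commutatorElement_eq_one_iff_mul_comm.1 this
  obtain ⟨⟨m, hm⟩, hm1⟩ := (nontrivial_iff_ne_bot A).2 hA0 |>.exists_pair_ne |> fun ⟨u, v, huv⟩ =>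
    (if hu : u = 1 then (⟨v, hu ▸ huv.symm⟩ : ∃ x : A, x ≠ 1) else ⟨u, hu⟩)
  have hodd : ∀ v ∈ A, Odd (orderOf v) := fun v hv => by
    by_contra hev
    have hpos := orderOf_pos v
    obtain ⟨j, hj⟩ := Nat.not_odd_iff_even.1 hev
    refine no_invol h hAn hc (pow_mem hv j) (orderOf_eq_prime ?_ ?_)
    · rw [← pow_mul, mul_two, ← hj, pow_orderOf_eq_one]
    · exact pow_ne_one_of_lt_orderOf (by omega) (by omega)
  have hinv : ∀ u : M, orderOf u = 2 → ∀ v ∈ A, u * v * u = v⁻¹ := by
    intro u hu v hv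
    have huu : u * u = 1 := by rw [← pow_two, ← hu, pow_orderOf_eq_one]
    have hui : u⁻¹ = u := inv_eq_of_mul_eq_one_right huu
    have huv : u * v * u ∈ A := by
      have := hAn.conj_mem v hv u
      rwa [hui] at this
    have hprod : u * v * u * v ∈ centralizer ({u} : Set M) := by
      rw [mem_centralizer_singleton_iff]
      have e := hc _ huv _ hv
      calc u * v * u * v * u = u * (v * (u * v * u)) := by simp only [mul_assoc]
        _ = u * (u * v * u * v) := by rw [e]
    obtain ⟨k, hk⟩ := isCIT h u hu ⟨_, hprod⟩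
    have hk' : (u * v * u * v) ^ 2 ^ k = 1 := congrArg Subtype.val hk
    have ho := hodd _ (mul_mem huv hv)
    obtain ⟨i, -, hi⟩ := (Nat.dvd_prime_pow Nat.prime_two).1 (orderOf_dvd_of_pow_eq_one hk')
    rcases i with _ | i
    · exact eq_inv_of_mul_eq_one_left (orderOf_eq_one_iff.1 (by rw [hi, pow_zero]))
    · rw [hi] at ho
      exact absurd ho (Nat.not_odd_iff_even.2 (Nat.even_pow.2 ⟨even_two, i.succ_ne_zero⟩))
  obtain ⟨B, hB, hB2⟩ := h.elem
  have hord : ∀ u ∈ B, u ≠ 1 → orderOf u = 2 := fun u hu hu1 =>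
    orderOf_eq_prime (by rw [pow_two]; exact hB2 u hu) hu1
  obtain ⟨u, v, hu, hv, hu1, hv1, huv⟩ : ∃ u v : M, u ∈ B ∧ v ∈ B ∧ u ≠ 1 ∧ v ≠ 1 ∧ u ≠ v := by
    haveI : Fintype B := Fintype.ofFinite B
    rw [Nat.card_eq_fintype_card] at hB
    obtain ⟨u, hu⟩ := Fintype.exists_ne_of_one_lt_card (by omega) (1 : B)
    obtain ⟨v, hv⟩ : ∃ v : B, v ∉ ({1, u} : Finset B) := by
      obtain ⟨v, -, hv⟩ := Finset.exists_mem_notMem_of_card_lt_card (s := ({1, u} : Finset B))
        (t := Finset.univ) ((Finset.card_le_two).trans_lt (by rw [Finset.card_univ]; omega))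
      exact ⟨v, hv⟩
    simp only [Finset.mem_insert, Finset.mem_singleton, not_or] at hv
    exact ⟨u, v, u.2, v.2, fun e => hu (Subtype.ext e), fun e => hv.1 (Subtype.ext e),
      fun e => hv.2 (Subtype.ext e.symm)⟩
  have huv1 : u * v ≠ 1 := fun e => huv (by
    rw [eq_inv_of_mul_eq_one_left e, inv_eq_of_mul_eq_one_right (hB2 v hv)])
  have hcomm : u * v = v * u := by
    have := hB2 (u * v) (mul_mem hu hv)
    have h2 := inv_eq_of_mul_eq_one_right this
    rwa [mul_inv_rev, inv_eq_of_mul_eq_one_right (hB2 v hv), inv_eq_of_mul_eq_one_right (hB2 u hu),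
      eq_comm] at h2
  have e1 := hinv (u * v) (hord _ (mul_mem hu hv) huv1) m hm
  have e2 : u * v * m * (u * v) = m := by
    calc u * v * m * (u * v) = u * v * m * (v * u) := congrArg (u * v * m * ·) hcomm
      _ = u * (v * m * v) * u := by simp only [mul_assoc]
      _ = (u * m * u)⁻¹ := by
          rw [hinv v (hord v hv hv1) m hm, mul_inv_rev, mul_inv_rev,
            inv_eq_of_mul_eq_one_right (hB2 u hu), mul_assoc]
      _ = m := by rw [hinv u (hord u hu hu1) m hm, inv_inv]
  have hm2 : m * m = 1 := by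
    have := e1.symm.trans e2
    calc m * m = m⁻¹ * m := by rw [this]
      _ = 1 := inv_mul_cancel m
  exact no_invol h hAn hc hm (orderOf_eq_prime (by rw [pow_two]; exact hm2) fun e => hm1 (Subtype.ext e))

/-- The two-part of the order divides 64. -/
theorem two_part (h : Hyp M) {k : ℕ} (hk : 2 ^ k ∣ Nat.card M) : k ≤ 6 := by
  haveI : Fact (Nat.Prime 2) := ⟨Nat.prime_two⟩
  by_contra hlt
  obtain ⟨P, hP⟩ := Sylow.exists_subgroup_card_pow_prime 2 hk
  have hPp : IsPGroup 2 P := IsPGroup.of_card hP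
  haveI : Nontrivial P := Finite.one_lt_card_iff_nontrivial.1 (by
    rw [hP]; exact Nat.one_lt_two_pow (by omega))
  haveI := hPp.center_nontrivial
  obtain ⟨j, hj⟩ := IsPGroup.iff_card.1 (hPp.to_subgroup (center P))
  have h2 : 2 ∣ Nat.card (center P) := by
    rw [hj]
    rcases j with _ | j
    · exact absurd hj (Finite.one_lt_card.ne')
    · exact dvd_pow_self 2 (Nat.succ_ne_zero j)
  obtain ⟨w, hw⟩ := exists_prime_orderOf_dvd_card' 2 h2
  have hle : P ≤ centralizer ({((w.1 : P) : M)} : Set M) := fun g hg =>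
    mem_centralizer_singleton_iff.2 (congrArg Subtype.val (mem_center_iff.1 w.2 ⟨g, hg⟩))
  have hd := Subgroup.card_dvd_of_le hle
  rw [hP, h.cent _ (by rw [Subgroup.orderOf_coe, Subgroup.orderOf_coe, hw]),
    show (64 : ℕ) = 2 ^ 6 by norm_num] at hd
  exact hlt (Nat.pow_dvd_pow_iff_le_right (by norm_num : 1 < 2) |>.1 hd)

/-- Identification. -/
theorem identify (h : Hyp M) : ∃ (F : Type) (_ : Field F) (_ : Fintype F), Fintype.card F = 4 ∧
    Nonempty (M ≃* Matrix.ProjectiveSpecialLinearGroup (Fin 3) F) := by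
  classical
  haveI := TimesPSLTwo.Affine.pCore_two_normal M
  obtain ⟨-, -, L, -, -, -, -, -, hlist, hidx, -, -⟩ :=
    CIT.genStatement CIT.citTheorem M (isCIT h) (not_solvable h)
  let e0 : M ⧸ Cfsg.pCore 2 M ≃* M :=
    (QuotientGroup.quotientMulEquivOfEq (pCore_eq_bot h)).trans QuotientGroup.quotientBot
  obtain ⟨w, hw⟩ := exists_involution h
  have h64 : 64 ∣ Nat.card M := h.cent w hw ▸ card_subgroup_dvd_card _
  rcases hidx with htop | ⟨h2, F, i1, i2, h9, ⟨f⟩⟩
  swap
  · exfalso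
    have hodd : Odd (Fintype.card F) := by rw [h9]; decide
    have hc := CIT.card_psl_odd hodd
    rw [h9, ← Nat.card_congr f.toEquiv] at hc
    norm_num at hc
    have hM := L.card_mul_index
    rw [h2, Nat.card_congr e0.toEquiv] at hM
    omega
  subst htop
  have hl : CIT.CITList M := hlist.of_equiv (Subgroup.topEquiv.trans e0)
  obtain ⟨A, hA, hA2⟩ := h.elem
  rcases hl with ⟨F, i1, i2, hF, ⟨f⟩⟩ | hF | ⟨F, i1, i2, m, hm, hF, ⟨f⟩⟩
  · exfalso
    have hbound : (2 : F) ≠ 0 → False := fun h2 => by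
      have := CIT.elementary_of_equiv f (fun E hE => CIT.elementary_le_psl h2 E hE) A hA2
      omega
    rcases hF with h9 | ⟨n, -, hn⟩ | ⟨h5, hp, -⟩
    · refine hbound fun e => ?_
      have h1 : addOrderOf (1 : F) = 2 :=
        addOrderOf_eq_prime (by rw [two_nsmul, one_add_one_eq_two, e]) one_ne_zero
      have := h1 ▸ addOrderOf_dvd_card (G := F) (x := 1)
      omega
    · obtain ⟨x, y, hx, hy, hne, h4⟩ := h.noncomm
      have h2 := Suzuki3240.pslTwo_even_sq hn (f (x * y)) (by rw [← map_pow, h4, map_one])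
      rw [← map_pow] at h2
      have h3 := f.injective (h2.trans (map_one f).symm)
      rw [pow_two] at h3
      apply hne
      calc x * y = (x * y)⁻¹ := eq_inv_of_mul_eq_one_left h3
        _ = y * x := by
          have hxx : x * x = 1 := by rw [← pow_two, ← hx, pow_orderOf_eq_one]
          have hyy : y * y = 1 := by rw [← pow_two, ← hy, pow_orderOf_eq_one]
          rw [mul_inv_rev, inv_eq_of_mul_eq_one_right hxx, inv_eq_of_mul_eq_one_right hyy]
    · refine hbound fun e => ?_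
      have h1 : addOrderOf (1 : F) = 2 :=
        addOrderOf_eq_prime (by rw [two_nsmul, one_add_one_eq_two, e]) one_ne_zero
      have h2 := h1 ▸ addOrderOf_dvd_card (G := F) (x := 1)
      rcases hp.eq_one_or_self_of_dvd 2 h2 with h3 | h3 <;> omega
  · exact hF
  · exfalso
    haveI := Suzuki.charTwo hF
    obtain ⟨e'⟩ := Suzuki.lieEquiv hm hF
    let g : M ≃* Cfsg.Sz F m := f.trans e'.symm
    have hb := CIT.elementary_of_equiv g (fun E hE => CIT.elementary_le_sz hm hF E hE) A hA2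
    have h2 : 2 ^ (2 * (2 * m + 1)) ∣ Nat.card M := by
      rw [Nat.card_congr g.toEquiv, Suzuki.card_eq hm hF, hF, ← pow_mul, mul_comm (2 * m + 1) 2]
      exact Dvd.dvd.mul_right (dvd_mul_right _ _) _
    have h6 := two_part h h2
    have hm1 : m = 1 := by omega
    subst hm1
    rw [hA, hF] at hb
    norm_num at hb

end Cfsg.Agent.SuzukiLocal.PlaneId
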