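import Cfsg.Agent.Lib.SuzukiLocal.Normal
import Cfsg.Agent.Lib.SuzukiLocal.PlaneChecks
import Cfsg.Agent.Lib.SuzukiLocal.PlaneId
import Cfsg.Agent.Lib.SuzukiLocal.PlaneModel
import Cfsg.Agent.Lib.Involutions.OrderFormula

/-!
`C(E)/E` is `PSL₃(4)`.
-/

set_option autoImplicit false
set_option maxRecDepth 8000
set_option synthInstance.maxSize 4096

namespace Cfsg.Agent.SuzukiLocal

open Subgroup Cfsg.Agent.LargeExtra Cfsg.Agent.OctadInv.Orbits Cfsg.Agent.SuzukiType Cfsg.Agent.SuzukiThree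

variable {G : Type*} [Group G] [Finite G] {Q Q' : Subgroup G} {z a y : G} {D : Su Q Q' z a y} {t : G}

namespace Sec

/-- `E` inside its centralizer. -/
abbrev EC (H : Sec D t) : Subgroup ↥(centralizer (H.E : Set G)) := H.E.subgroupOf (centralizer (H.E : Set G))

instance EC_normal (H : Sec D t) : H.EC.Normal := ⟨fun u hu g => by
  have h := mem_centralizer_iff.1 g.2 _ (mem_subgroupOf.1 hu)
  rw [mem_subgroupOf, Subgroup.coe_mul, Subgroup.coe_mul, Subgroup.coe_inv, ← h, mul_inv_cancel_right]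
  exact hu⟩

/-- The plane group. -/
abbrev Mq (H : Sec D t) : Type _ := ↥(centralizer (H.E : Set G)) ⧸ H.EC

/-- The projection. -/
abbrev pr (H : Sec D t) : ↥(centralizer (H.E : Set G)) →* H.Mq := QuotientGroup.mk' H.EC

/-- The image of an involution conjugate to `z`. -/
noncomputable def bar (H : Sec D t) {l : G} (h : ZT z t l) : H.Mq := H.pr ⟨l, H.zt_cent h⟩

variable (H : Sec D t)
include H

theorem E_le_cent : H.E ≤ centralizer (H.E : Set G) := fun u hu => H.mem_cent_E.2 ⟨H.E_comm_t hu, by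
  rcases H.mem_E.1 hu with h | h | h | h <;> rw [h]
  · simp
  · exact H.orb.comm
  · exact SuzukiType.mul_z (z := y * t * y⁻¹) H.orb.comm rfl⟩

theorem pr_eq_iff (u v : ↥(centralizer (H.E : Set G))) : H.pr u = H.pr v ↔ (u : G)⁻¹ * v ∈ H.E :=
  QuotientGroup.eq.trans mem_subgroupOf

theorem pr_one_iff (u : ↥(centralizer (H.E : Set G))) : H.pr u = 1 ↔ (u : G) ∈ H.E :=
  (QuotientGroup.eq_one_iff u).trans mem_subgroupOf

theorem card_EC : Nat.card ↥H.EC = 4 := by
  rw [Nat.card_congr (subgroupOfEquivOfLe H.E_le_cent).toEquiv, H.cardE]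

/-- A two-element of `C(z) ∩ C(E)` modulo `E` is one of the involutions conjugate to `z`. -/
theorem inner_lift {x : G} (hxE : x ∈ centralizer (H.E : Set G)) (hxz : x * z = z * x)
    (hx2 : x * x ∈ H.E) (hxn : x ∉ H.E) : ∃ u ∈ H.E, ZT z t (x * u) := by
  obtain ⟨hxt, hxe⟩ := H.mem_cent_E.1 hxE
  obtain ⟨p, hp, h1, h2⟩ := H.inner hxz (H.comm_a hxz hxt hxe) hxt
  have hq : qz p = 0 ∧ qa p = 0 := by
    have e := hp.sq
    by_cases h : x * x = 1
    · rw [h] at e; exact D.S.zp_pair_one e.symm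
    · obtain ⟨r, hr, -, -, hb⟩ := H.E_coords hx2 h
      have hc := hr.unique (show Co D.S (x * x) 0 by rw [e]; exact co_zz _ _)
      rw [hc] at hb
      exact absurd hb (by decide)
  have hk := shift_keep _ hp.inW.1 _ hp.inW.2 h1 h2 hq.1 hq.2
  have fin : ∀ (u : G) (r : V × V), u ∈ H.E → Co D.S u r → qz (p + r) = 0 → qa (p + r) = 0 →
      bf (p + r).2 (p + r).1 = 0 → ∃ u ∈ H.E, ZT z t (x * u) := fun u r hu hr e1 e2 e3 => by
    have h := hp.mul hr
    have hne : x * u ≠ 1 := fun e => hxn (by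
      rw [eq_inv_of_mul_eq_one_left e]; exact inv_mem hu)
    refine ⟨u, hu, SuzukiType.mul_z (z := t) hxt (H.E_comm_t hu), ?_, h.conj_z e1 e2 e3 hne⟩
    rw [h.sq, e1, e2]; simp [zz, zp_zero]
  rcases z2 (bf p.2 p.1) with e | e
  · exact fin 1 0 (one_mem _) co_one (by rw [add_zero, hq.1]) (by rw [add_zero, hq.2]) (by rw [add_zero, e])
  rcases type_shift _ hp.inW.1 _ hp.inW.2 h1 h2 hq.1 hq.2 e with h | h | h
  · exact fin t pT (H.mem_E.2 (Or.inr (Or.inl rfl))) H.co hk.1.1 hk.1.2 h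
  · exact fin _ pE (H.mem_E.2 (Or.inr (Or.inr (Or.inl rfl)))) H.co_e hk.2.1.1 hk.2.1.2 h
  · exact fin _ (pT + pE) (H.mem_E.2 (Or.inr (Or.inr (Or.inr rfl)))) (H.co.mul H.co_e) hk.2.2.1 hk.2.2.2 h

/-- Commuting with such an involution modulo `E` is commuting with it. -/
theorem exact_comm {l : G} (hl : ZT z t l) {x : ↥(centralizer (H.E : Set G))}
    (h : H.pr x * H.bar hl = H.bar hl * H.pr x) : (x : G) * l = l * x := by
  rw [bar, ← map_mul, ← map_mul, H.pr_eq_iff] at h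
  simp only [Subgroup.coe_mul] at h
  set u := (x * l : G)⁻¹ * (l * x) with hu
  have hc : IsConj (l * ((x : G) * u * (x : G)⁻¹)) z := by
    refine (show IsConj (l * ((x : G) * u * (x : G)⁻¹)) l from ?_).trans hl.conj
    refine (show IsConj l _ from isConj_iff.2 ⟨l * x, ?_⟩).symm
    rw [hu, mul_inv_rev, mul_inv_rev, inv_eq_of_mul_eq_one_right hl.sq]
    group
  have hxu : (x : G) * u * (x : G)⁻¹ ∈ H.E := by
    rw [← mem_centralizer_iff.1 x.2 u h, mul_inv_cancel_right]; exact h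
  have h1 := conj_eq_one_iff.1 (H.zt_uniq hl hxu hc)
  rw [hu] at h1
  exact inv_mul_eq_one.1 h1

theorem bar_sq {l : G} (hl : ZT z t l) : H.bar hl * H.bar hl = 1 := by
  rw [bar, ← map_mul, H.pr_one_iff, Subgroup.coe_mul, hl.sq]
  exact one_mem _

theorem bar_ne_one {l : G} (hl : ZT z t l) : H.bar hl ≠ 1 := fun e =>
  H.E_not_z ((H.pr_one_iff _).1 e) hl.conj

theorem orderOf_bar {l : G} (hl : ZT z t l) : orderOf (H.bar hl) = 2 :=
  orderOf_eq_prime (by rw [pow_two]; exact H.bar_sq hl) (H.bar_ne_one hl)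

theorem bar_inj {l l' : G} (hl : ZT z t l) (hl' : ZT z t l') (e : H.bar hl = H.bar hl') : l = l' := by
  have h : l⁻¹ * l' ∈ H.E := (H.pr_eq_iff _ _).1 e
  have h1 := H.zt_uniq hl h (by rw [mul_inv_cancel_left]; exact hl'.conj)
  exact inv_mul_eq_one.1 h1

/-- Every involution of the quotient comes from an involution conjugate to `z`. -/
theorem lift {q : H.Mq} (hq : orderOf q = 2) : ∃ (l : G) (hl : ZT z t l), H.bar hl = q := by
  obtain ⟨x, rfl⟩ := QuotientGroup.mk'_surjective H.EC q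
  have hqq : H.pr x * H.pr x = 1 := by rw [← pow_two, ← hq, pow_orderOf_eq_one]
  have hbz := H.bar_sq H.zt_z
  by_cases he : Even (orderOf (H.bar H.zt_z * H.pr x))
  swap
  · obtain ⟨j, hj⟩ := odd_conj hbz hqq (Nat.not_even_iff_odd.1 he)
    obtain ⟨g, hg⟩ := QuotientGroup.mk'_surjective H.EC ((H.bar H.zt_z * H.pr x) ^ j)
    refine ⟨g * z * (g : G)⁻¹, H.zt_conj H.zt_z (H.mem_cent_E.1 g.2).1, ?_⟩
    rw [← hj, ← hg, bar, bar, ← map_inv, ← map_mul, ← map_mul]
    exact congrArg _ (Subtype.ext rfl)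
  obtain ⟨hww, hw1, hwz, hwx, -⟩ := middle hbz hqq he
  obtain ⟨w, hw⟩ := QuotientGroup.mk'_surjective H.EC
    ((H.bar H.zt_z * H.pr x) ^ (orderOf (H.bar H.zt_z * H.pr x) / 2))
  rw [← hw] at hww hw1 hwz hwx
  obtain ⟨u, hu, hl⟩ := H.inner_lift w.2 (H.exact_comm H.zt_z hwz)
    (by rw [← Subgroup.coe_mul, ← H.pr_one_iff, map_mul]; exact hww)
    (fun e => hw1 ((H.pr_one_iff w).2 e))
  set l := (w : G) * u with hld
  have hbl : H.bar hl = H.pr w := (H.pr_eq_iff _ _).2 (by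
    rw [show (((⟨l, H.zt_cent hl⟩ : ↥(centralizer (H.E : Set G))) : G)) = w * u from rfl, mul_inv_rev,
      inv_mul_cancel_right]
    exact inv_mem hu)
  have hxl : (x : G) * l = l * x := H.exact_comm hl (by rw [hbl]; exact hwx.symm)
  obtain ⟨g, hg⟩ := H.exists_tr hl
  have hn := H.norm_t hg.comm
  have hnE : ∀ v, v ∈ H.E → g * v * g⁻¹ ∈ H.E := fun v hv => (Subgroup.mem_normalizer_iff.1 hn v).1 hv
  have hnE' : ∀ v, v ∈ H.E → g⁻¹ * v * g ∈ H.E := fun v hv => by
    have := (Subgroup.mem_normalizer_iff.1 (inv_mem hn) v).1 hv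
    rwa [inv_inv] at this
  set v := g⁻¹ * (x : G) * g with hv
  have hvE : v ∈ centralizer (H.E : Set G) := mem_centralizer_iff.2 fun r hr => by
    have h := mem_centralizer_iff.1 x.2 _ (hnE r hr)
    calc r * v = g⁻¹ * (g * r * g⁻¹ * x) * g := by rw [hv]; group
      _ = g⁻¹ * (x * (g * r * g⁻¹)) * g := by rw [h]
      _ = v * r := by rw [hv]; group
  have hvz : v * z = z * v := by
    rw [hv]
    calc g⁻¹ * (x : G) * g * z = g⁻¹ * ((x : G) * (g * z * g⁻¹)) * g := by group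
      _ = g⁻¹ * (g * z * g⁻¹ * x) * g := by rw [hg.1, hxl]
      _ = _ := by group
  obtain ⟨r, hr, hlr⟩ := H.inner_lift hvE hvz (by
      rw [hv, show g⁻¹ * (x : G) * g * (g⁻¹ * x * g) = g⁻¹ * (x * x) * g by group]
      exact hnE' _ (by rw [← Subgroup.coe_mul, ← H.pr_one_iff, map_mul]; exact hqq))
    (fun e => by
      have h1 : (x : G) ∈ H.E := by
        have := hnE _ e
        rwa [hv, show g * (g⁻¹ * (x : G) * g) * g⁻¹ = x by group] at this
      rw [(H.pr_one_iff x).2 h1, orderOf_one] at hq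
      omega)
  refine ⟨g * (v * r) * g⁻¹, H.zt_conj hlr hg.comm, (H.pr_eq_iff _ _).2 ?_⟩
  show (g * (v * r) * g⁻¹)⁻¹ * (x : G) ∈ H.E
  rw [show (g * (v * r) * g⁻¹)⁻¹ * (x : G) = g * r⁻¹ * g⁻¹ by rw [hv]; group]
  exact hnE _ (inv_mem hr)

/-- An element of `C(E)` carrying `z` to a given involution. -/
theorem exists_tr_cent {l : G} (hl : ZT z t l) :
    ∃ g : ↥(centralizer (H.E : Set G)), Tr z t l g := by
  obtain ⟨g, hg⟩ := H.exists_tr hl
  obtain ⟨c, hcz, hct, hce, -⟩ := H.exists_swap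
  rcases H.cent_cases (g := g⁻¹) (inv_z (z := t) hg.comm) hct hce with h | h
  · exact ⟨⟨g, by simpa using inv_mem h⟩, hg⟩
  · refine ⟨⟨g * c, ?_⟩, ?_, ?_⟩
    · have := inv_mem h
      rwa [mul_inv_rev, inv_inv, inv_inv] at this
    · show g * c * z * (g * c)⁻¹ = l
      rw [show g * c * z * (g * c)⁻¹ = g * (c * z * c⁻¹) * g⁻¹ by group, hcz, mul_inv_cancel_right, hg.1]
    · show g * c * t * (g * c)⁻¹ = t
      rw [show g * c * t * (g * c)⁻¹ = g * (c * t * c⁻¹) * g⁻¹ by group, hct, mul_inv_cancel_right, hg.2]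

theorem one_class_Mq (p q : H.Mq) (hp : orderOf p = 2) (hq : orderOf q = 2) : IsConj p q := by
  suffices h : ∀ p : H.Mq, orderOf p = 2 → IsConj (H.bar H.zt_z) p from (h p hp).symm.trans (h q hq)
  intro p hp
  obtain ⟨l, hl, rfl⟩ := H.lift hp
  obtain ⟨g, hg⟩ := H.exists_tr_cent hl
  refine isConj_iff.2 ⟨H.pr g, ?_⟩
  rw [bar, bar, ← map_inv, ← map_mul, ← map_mul]
  exact congrArg _ (Subtype.ext hg.1)

theorem card_cent_bar : Nat.card ↥(centralizer ({H.bar H.zt_z} : Set H.Mq)) = 64 := by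
  set C := centralizer ({H.bar H.zt_z} : Set H.Mq)
  set S := C.comap H.pr with hS
  have hmap : S.map (centralizer (H.E : Set G)).subtype =
      centralizer ({z} : Set G) ⊓ centralizer (H.E : Set G) := by
    refine le_antisymm ?_ ?_
    · rintro _ ⟨x, hx, rfl⟩
      exact ⟨mem_centralizer_singleton_iff.2 (H.exact_comm H.zt_z (mem_centralizer_singleton_iff.1 hx)), x.2⟩
    · rintro x ⟨hx, hxE⟩
      refine ⟨⟨x, hxE⟩, mem_comap.2 (mem_centralizer_singleton_iff.2 ?_), rfl⟩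
      rw [bar, ← map_mul, ← map_mul]
      exact congrArg _ (Subtype.ext (mem_centralizer_singleton_iff.1 hx))
  have h256 : Nat.card ↥S = 256 := by
    rw [← card_map_of_injective (centralizer (H.E : Set G)).subtype_injective, hmap, H.card_inner]
  have hi := C.index_comap_of_surjective (QuotientGroup.mk'_surjective H.EC)
  have h1 := S.card_mul_index
  have h2 := C.card_mul_index
  have h3 := Subgroup.card_eq_card_quotient_mul_card_subgroup H.EC
  rw [h256, show S.index = C.index from hi] at h1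
  rw [H.card_EC] at h3
  have hpos : 0 < C.index := Nat.pos_of_ne_zero C.index_ne_zero_of_finite
  have h4 : 256 * C.index = Nat.card ↥C * 4 * C.index := by rw [h1, h3, ← h2]; ring
  have := Nat.eq_of_mul_eq_mul_right hpos h4
  omega

end Sec

end Cfsg.Agent.SuzukiLocal
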