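import Cfsg.Agent.Lib.SuzukiLocal.Plane

/-!
The orders of `C(E)/E`, `C(E)` and `C(t)`.
-/

set_option autoImplicit false
set_option maxRecDepth 8000
set_option synthInstance.maxSize 4096

namespace Cfsg.Agent.SuzukiLocal

open Subgroup Cfsg.Agent.LargeExtra Cfsg.Agent.OctadInv.Orbits Cfsg.Agent.SuzukiType Cfsg.Agent.SuzukiThree

variable {G : Type*} [Group G] [Finite G] {Q Q' : Subgroup G} {z a y : G} {D : Su Q Q' z a y} {t : G}

theorem pA_zero : pA 0 0 = (0 : V × V) := by decide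

namespace Sec

variable (H : Sec D t)
include H

theorem pA_cent {x : G} {α β : ZMod 2} (h : Co D.S x (pA α β)) : x ∈ centralizer (H.E : Set G) := by
  obtain ⟨-, -, h1, h2, -⟩ := pA_facts α β
  have hxt : x * t = t * x := by rw [h.comm H.co, h1, h2]; simp [zz, zp_zero]
  exact H.mem_cent_E.2 ⟨hxt, H.comm_e h.comm_za.1 h.comm_za.2 hxt⟩

/-- The elementary abelian group of order 16. -/
def A16 : Subgroup ↥(centralizer (H.E : Set G)) where
  carrier := {x | ∃ α β, Co D.S (x : G) (pA α β)}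
  one_mem' := ⟨0, 0, by rw [pA_zero, Subgroup.coe_one]; exact co_one⟩
  mul_mem' := by
    rintro x x' ⟨α, β, h⟩ ⟨α', β', h'⟩
    refine ⟨α + α', β + β', ?_⟩
    rw [Subgroup.coe_mul, ← ((pA_facts α β).2.2.2.2.2.2.2 α' β').1]
    exact h.mul h'
  inv_mem' := by
    rintro x ⟨α, β, h⟩
    exact ⟨α, β, by rw [Subgroup.coe_inv]; exact h.inv⟩

theorem card_A16 : Nat.card ↥(H.A16.map H.pr) = 16 := by
  classical
  choose f hf using fun q : ZMod 2 × ZMod 2 =>
    co_surj (S := D.S) (p := pA q.1 q.2) (pA_facts q.1 q.2).1 (pA_facts q.1 q.2).2.1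
  have hco : ∀ q : (ZMod 2 × ZMod 2) × ZMod 2 × ZMod 2,
      Co D.S (zz z a q.2.1 q.2.2 * f q.1) (pA q.1.1 q.1.2) := fun q => by
    simpa using (co_zz (S := D.S) q.2.1 q.2.2).mul (hf q.1)
  let φ : (ZMod 2 × ZMod 2) × ZMod 2 × ZMod 2 → ↥(H.A16.map H.pr) := fun q =>
    ⟨H.pr ⟨zz z a q.2.1 q.2.2 * f q.1, H.pA_cent (hco q)⟩, mem_map_of_mem _ ⟨_, _, hco q⟩⟩
  have hφ : Function.Bijective φ := by
    refine ⟨fun q q' e => ?_, fun x => ?_⟩
    · have he : (zz z a q.2.1 q.2.2 * f q.1)⁻¹ * (zz z a q'.2.1 q'.2.2 * f q'.1) ∈ H.E :=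
        (H.pr_eq_iff _ _).1 (congrArg Subtype.val e)
      have h1 := (hco q).inv.mul (hco q')
      rw [((pA_facts q.1.1 q.1.2).2.2.2.2.2.2.2 q'.1.1 q'.1.2).1] at h1
      have h2 : (zz z a q.2.1 q.2.2 * f q.1)⁻¹ * (zz z a q'.2.1 q'.2.2 * f q'.1) = 1 := by
        by_contra hne
        obtain ⟨r, hr, -, -, hb⟩ := H.E_coords he hne
        rw [hr.unique h1, (pA_facts _ _).2.2.2.2.2.2.1] at hb
        exact zero_ne_one hb
      have h3 := inv_mul_eq_one.1 h2
      obtain ⟨ha, hb⟩ := ((pA_facts q.1.1 q.1.2).2.2.2.2.2.2.2 q'.1.1 q'.1.2).2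
        ((hco q).unique (h3 ▸ hco q'))
      have h12 : q.1 = q'.1 := Prod.ext ha hb
      rw [h12] at h3
      have e3 := congrArg (fun w => zz z a q.2.1 q.2.2 * w) (mul_right_cancel h3)
      simp only [zz_mul _ _ _ _ D.S, CharTwo.add_self_eq_zero] at e3
      obtain ⟨i, j⟩ := D.S.zp_pair_one (show zp z (q.2.1 + q'.2.1) * zp a (q.2.2 + q'.2.2) = 1 by
        show zz z a (q.2.1 + q'.2.1) (q.2.2 + q'.2.2) = 1
        rw [← e3]; simp [zz, zp_zero])
      exact Prod.ext h12 (Prod.ext (CharTwo.add_eq_zero.1 i) (CharTwo.add_eq_zero.1 j))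
    · obtain ⟨_, g, ⟨α, β, hg⟩, rfl⟩ := x
      have h0 := hg.mul (hf (α, β)).inv
      rw [show pA α β + pA α β = (0 : V × V) from Prod.ext (add_self_V _) (add_self_V _)] at h0
      obtain ⟨s, u, hsu⟩ := h0.eq_zz
      exact ⟨((α, β), s, u), Subtype.ext (congrArg H.pr (Subtype.ext
        (show zz z a s u * f (α, β) = g by rw [← hsu, inv_mul_cancel_right])))⟩
  rw [← Nat.card_eq_of_bijective φ hφ]
  simp

theorem plane_hyp : PlaneId.Hyp H.Mq where
  cent x hx := by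
    have h := H.one_class_Mq x _ hx (H.orderOf_bar H.zt_z)
    have e1 := Involutions.OrderFormula.class_card_mul x
    have e2 := Involutions.OrderFormula.class_card_mul (H.bar H.zt_z)
    rw [H.card_cent_bar] at e2
    have hset : Nat.card {u : H.Mq // IsConj x u} = Nat.card {u : H.Mq // IsConj (H.bar H.zt_z) u} :=
      Nat.card_congr (Equiv.subtypeEquivRight fun u => ⟨fun g => h.symm.trans g, fun g => h.trans g⟩)
    rw [hset, ← e2] at e1
    exact Nat.eq_of_mul_eq_mul_left (Nat.card_pos_iff.2 ⟨⟨⟨_, IsConj.refl _⟩⟩, inferInstance⟩) e1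
  one_class := H.one_class_Mq
  elem := ⟨H.A16.map H.pr, H.card_A16, by
    rintro _ ⟨x, ⟨α, β, h⟩, rfl⟩
    obtain ⟨-, -, -, -, q1, q2, -⟩ := pA_facts α β
    rw [← map_mul, H.pr_one_iff, Subgroup.coe_mul, h.sq, q1, q2]
    simp [zz, zp_zero, one_mem]⟩
  noncomm := by
    obtain ⟨w1, w2, c1, d1, q1, r1, b1, c2, d2, q2, r2, b2, hc, n1, n2⟩ := pN_facts
    have hz : ∀ v : V, v ≠ 0 → InW v → cz (v, 0) pT = 0 → ca (v, 0) pT = 0 → qz (v, (0 : V)) = 0 →
        qa (v, (0 : V)) = 0 → bf 0 v = 0 → ∃ x, Co D.S x (v, 0) ∧ ZT z t x := by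
      intro v hv hW c d q r b
      obtain ⟨x, hx⟩ := co_surj (S := D.S) (p := (v, 0)) hW ⟨rfl, rfl⟩
      have hx1 : x ≠ 1 := fun e => hv (congrArg Prod.fst (hx.unique (e ▸ co_one)))
      exact ⟨x, hx, by rw [hx.comm H.co, c, d]; simp [zz, zp_zero],
        by rw [hx.sq, q, r]; simp [zz, zp_zero], hx.conj_z q r b hx1⟩
    obtain ⟨x, hx, hxz⟩ := hz h1 n1 w1 c1 d1 q1 r1 b1
    obtain ⟨x', hx', hx'z⟩ := hz h2 n2 w2 c2 d2 q2 r2 b2
    refine ⟨H.bar hxz, H.bar hx'z, H.orderOf_bar hxz, H.orderOf_bar hx'z, fun e => ?_, ?_⟩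
    · have e1 : x * x' = x' * x := H.exact_comm hx'z (x := ⟨x, H.zt_cent hxz⟩) e
      have e2 := hx.comm hx'
      rw [e1, hc] at e2
      exact one_ne_zero (D.S.zp_pair_one (right_eq_mul.1 e2)).1
    · have e4 : (x * x') ^ 4 = 1 := by
        rw [show (x * x') ^ 4 = x * x' * (x * x') * (x * x' * (x * x')) by simp [pow_succ, mul_assoc],
          (hx.mul hx').sq, zz_mul _ _ _ _ D.S, CharTwo.add_self_eq_zero, CharTwo.add_self_eq_zero]
        simp [zz, zp_zero]
      rw [bar, bar, ← map_mul, ← map_pow, H.pr_one_iff, Subgroup.coe_pow, Subgroup.coe_mul, e4]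
      exact one_mem _

theorem exists_model : ∃ (F : Type) (_ : Field F) (_ : Fintype F), Fintype.card F = 4 ∧
    Nonempty (H.Mq ≃* Matrix.ProjectiveSpecialLinearGroup (Fin 3) F) := PlaneId.identify H.plane_hyp

theorem card_Mq : Nat.card H.Mq = 20160 := by
  obtain ⟨F, i1, i2, h4, ⟨e⟩⟩ := H.exists_model
  exact PlaneModel.card_eq h4 e

theorem card_cent_E : Nat.card ↥(centralizer (H.E : Set G)) = 80640 := by
  rw [Subgroup.card_eq_card_quotient_mul_card_subgroup H.EC, H.card_Mq, H.card_EC]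

/-- The order of `C(t)`. -/
theorem card_ct : Nat.card ↥(centralizer ({t} : Set G)) = 161280 := by
  classical
  obtain ⟨c, -, hct, hce, hcE⟩ := H.exists_swap
  have hcT : c ∈ centralizer ({t} : Set G) := mem_centralizer_singleton_iff.2 hct
  have hKT : ∀ k, k ∈ centralizer (H.E : Set G) → k ∈ centralizer ({t} : Set G) := fun k hk =>
    mem_centralizer_singleton_iff.2 (H.mem_cent_E.1 hk).1
  let φ : Bool × ↥(centralizer (H.E : Set G)) → ↥(centralizer ({t} : Set G)) := fun q =>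
    if q.1 then ⟨c * q.2.1, mul_mem hcT (hKT _ q.2.2)⟩ else ⟨q.2.1, hKT _ q.2.2⟩
  have hφ : Function.Bijective φ := by
    have hout : ∀ k k' : ↥(centralizer (H.E : Set G)), c * k.1 ≠ k'.1 := fun k k' e => hcE (by
      rw [show c = k'.1 * k.1⁻¹ by rw [← e, mul_inv_cancel_right]]
      exact mul_mem k'.2 (inv_mem k.2))
    refine ⟨fun q q' e => ?_, fun x => ?_⟩
    · obtain ⟨b, k⟩ := q
      obtain ⟨b', k'⟩ := q'
      have e' := congrArg Subtype.val e
      cases b <;> cases b' <;> simp only [φ, Bool.false_eq_true, ↓reduceIte] at e'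
      · rw [Subtype.ext e']
      · exact absurd e'.symm (hout k' k)
      · exact absurd e' (hout k k')
      · rw [Subtype.ext (mul_left_cancel e')]
    · rcases H.cent_cases (mem_centralizer_singleton_iff.1 x.2) hct hce with h | h
      · exact ⟨(false, ⟨x.1, h⟩), by simp [φ]⟩
      · exact ⟨(true, ⟨c⁻¹ * x.1, h⟩), by simp [φ]⟩
  rw [← Nat.card_eq_of_bijective φ hφ, Nat.card_prod, H.card_cent_E]
  simp

end Sec

end Cfsg.Agent.SuzukiLocal
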