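import Cfsg.Agent.Lib.SuzukiLocal.Coords
import Cfsg.Agent.Lib.SuzukiThree.Geometry

/-!
Finite checks on the coordinates of the second involution.
-/

set_option autoImplicit false
set_option maxRecDepth 20000
set_option synthInstance.maxSize 4096

namespace Cfsg.Agent.SuzukiLocal

open Cfsg.Agent.SuzukiType Cfsg.Agent.SuzukiThree

/-- The coordinates of `t`. -/
def pT : V × V := (k0, w0)

/-- The coordinates of its image under the rotation. -/
def pE : V × V := (w0, k0 + w0)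

/-- The transvection pair with axis `p`. -/
def Tg (p w v : V) : V := v + sm (bf w v) p + sm (bf p v) (sm (qf w) p + w)

theorem pT_facts : qz pT = 0 ∧ qa pT = 0 ∧ bf w0 k0 = 1 ∧ cz pT pE = 0 ∧ ca pT pE = 0 ∧
    tau k0 = w0 ∧ tau w0 = k0 + w0 ∧ tau (k0 + w0) = k0 ∧ inv' k0 = k0 ∧ inv' w0 = k0 + w0 ∧
    inv' (k0 + w0) = w0 ∧ InX f1 ∧ tau e1 = e1 ∧ inv' e1 = e1 := by decide +kernel

theorem pw_tau : ∀ v : V, InW v → pw (tau v) = tau v := by decide +kernel

theorem perp_pE : ∀ v : V, InW v → ∀ w : V, InW w → cz (v, w) pT = 0 → ca (v, w) pT = 0 →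
    cz (v, w) pE = 0 ∧ ca (v, w) pE = 0 := by decide +kernel

theorem comm_surj : ∀ s t : ZMod 2, ∃ v : V, InW v ∧ ∃ w : V, InW w ∧ cz (v, w) pT = s ∧ ca (v, w) pT = t := by
  decide +kernel

theorem perp_zero : ∀ v : V, InW v → ∀ w : V, InW w → cz (v, w) pT = 0 → ca (v, w) pT = 0 →
    qz (v, w) = 0 → qa (v, w) = 0 → bf w v = 0 →
    tau v = v ∧ tau w = w ∧ (v = 0 ∨ w = 0 ∨ v = w) := by decide +kernel

theorem six : ∀ v : V, InW v → ∀ w : V, InW w → v + tau v + tau (tau v) = 0 → w + tau w + tau (tau w) = 0 →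
    qz (v, w) = 0 → qa (v, w) = 0 → bf w v = 1 →
    (v = k0 ∧ w = w0) ∨ (v = w0 ∧ w = k0 + w0) ∨ (v = k0 + w0 ∧ w = k0) ∨
      (v = k0 + w0 ∧ w = w0) ∨ (v = k0 ∧ w = k0 + w0) ∨ (v = w0 ∧ w = k0) := by decide +kernel

theorem singular_T : ∀ w : V, InW w → qf w = 0 → ∀ v : V, qf (T w v + v) = 0 := by decide +kernel

theorem moved_k0 : ∀ t : ZMod 2, qf (k0 + w0 + sm t e1 + k0) = 1 := by decide +kernel

/-- The axis of the product of two commuting transvection pairs. -/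
theorem axis_sum : ∀ p : V, qf p = 0 → p ≠ 0 → p ≠ e1 → ∀ w : V, qf w = 1 → bf p w = 0 →
    (∀ v : V, T w0 (Tg p w v) = Tg p w (T w0 v)) →
    ∀ v : V, qf (T w0 (Tg p w v) + v) = 0 → T w0 (Tg p w v) + v ≠ 0 → T w0 (Tg p w v) + v = e1 + p := by
  decide +kernel

theorem axis_image : ∃ v : V, T w0 v + v = e1 := by decide +kernel

theorem orbit_zero : ∀ v : V, qf v = 0 → v + tau v + tau (tau v) = 0 → v = 0 := by decide +kernel

end Cfsg.Agent.SuzukiLocal
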