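import Cfsg.Agent.Lib.SuzukiLocal.Moves
import Cfsg.Agent.Lib.SuzukiLocal.SecondChecks

/-!
The second involution `t` with the four-group `{1, t, yty⁻¹, y²ty⁻²}`, and `C(z) ∩ C(t)`.
-/

set_option autoImplicit false
set_option maxRecDepth 8000
set_option synthInstance.maxSize 4096

namespace Cfsg.Agent.SuzukiLocal

open Subgroup Cfsg.Agent.LargeExtra Cfsg.Agent.OctadInv.Orbits Cfsg.Agent.SuzukiType Cfsg.Agent.SuzukiThree

variable {G : Type*} [Group G]

/-- The `y`-orbit of the involution `x` is a four-group without the identity. -/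
structure Orb (y x : G) : Prop where
  sq : x * x = 1
  comm : x * (y * x * y⁻¹) = y * x * y⁻¹ * x
  prod : y * y * x * (y * y)⁻¹ = x * (y * x * y⁻¹)

theorem Orb.conj {y x g : G} (hy : y ^ 3 = 1) (h : Orb y x) (hg : g * y * g⁻¹ = y ∨ g * y * g⁻¹ = y⁻¹) :
    Orb y (g * x * g⁻¹) := by
  have hyy : y * y = y⁻¹ := eq_inv_of_mul_eq_one_left (by rw [← hy, pow_succ, pow_two])
  have hyi : y⁻¹ * y⁻¹ = y := by rw [← mul_inv_rev, hyy, inv_inv]
  have e1 : ∀ u : G, g * (y * u * y⁻¹) * g⁻¹ = (g * y * g⁻¹) * (g * u * g⁻¹) * (g * y * g⁻¹)⁻¹ := fun u => by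
    group
  have e2 : ∀ u : G, g * (y * y * u * (y * y)⁻¹) * g⁻¹ =
      (g * y * g⁻¹) * (g * y * g⁻¹) * (g * u * g⁻¹) * ((g * y * g⁻¹) * (g * y * g⁻¹))⁻¹ := fun u => by
    group
  have hsq : g * x * g⁻¹ * (g * x * g⁻¹) = 1 := by
    calc g * x * g⁻¹ * (g * x * g⁻¹) = g * (x * x) * g⁻¹ := by group
      _ = 1 := by rw [h.sq]; group
  have hm : ∀ u v : G, g * (u * v) * g⁻¹ = g * u * g⁻¹ * (g * v * g⁻¹) := fun u v => by group
  set x' := g * x * g⁻¹ with hx'
  have hc := congrArg (fun u => g * u * g⁻¹) h.comm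
  have hp := congrArg (fun u => g * u * g⁻¹) h.prod
  simp only [hm x, hm (y * x * y⁻¹), e1, e2, ← hx'] at hc hp
  rcases hg with e | e <;> rw [e] at hc hp
  · exact ⟨hsq, hc, hp⟩
  · rw [hyi, inv_inv] at hp
    rw [inv_inv] at hc
    have hA : y * y * x' * (y * y)⁻¹ = y⁻¹ * x' * y := by rw [hyy, inv_inv]
    set u := y⁻¹ * x' * y with hu
    have hu2 : u * u = 1 := by
      calc u * u = y⁻¹ * (x' * x') * y := by rw [hu]; group
        _ = 1 := by rw [hsq]; group
    refine ⟨hsq, ?_, ?_⟩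
    · rw [hp, ← mul_assoc, hsq, one_mul, mul_assoc, ← hc, ← mul_assoc, hsq, one_mul]
    · rw [hA, hp, ← mul_assoc, hsq, one_mul]

/-- Membership in a normalizer, for finite groups. -/
theorem mem_normalizer_of_map [Finite G] {g : G} {H : Subgroup G} (h : ∀ x ∈ H, g * x * g⁻¹ ∈ H) :
    g ∈ normalizer (H : Set G) := by
  have hle : H.map (MulAut.conj g).toMonoidHom ≤ H := by
    rintro _ ⟨x, hx, rfl⟩
    exact h x hx
  have heq := eq_of_le_of_card_ge hle (card_map_of_injective (MulAut.conj g).injective).ge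
  refine mem_normalizer_iff.2 fun x => ⟨h x, fun hx => ?_⟩
  rw [← heq] at hx
  obtain ⟨w, hw, e⟩ := hx
  exact (MulAut.conj g).injective e ▸ hw

/-- The choice of `t`. -/
structure Sec {Q Q' : Subgroup G} {z a y : G} (D : Su Q Q' z a y) (t : G) : Prop where
  co : Co D.S t pT
  orb : Orb y t

variable [Finite G] {Q Q' : Subgroup G} {z a y : G} (D : Su Q Q' z a y)

/-- Rotating the coordinates. -/
theorem co_rot {x : G} {p : V × V} (h : Co D.S x p) : Co D.S (y * x * y⁻¹) (tau p.1, tau p.2) := by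
  have h2 := h.conj D.yz D.ya
  simp only [D.act_y, pw_tau _ h.inW.1, pw_tau _ h.inW.2] at h2
  exact h2

include D in
theorem zz_rot (s u : ZMod 2) : y * zz z a s u * y⁻¹ = zz z a s u := by
  rw [zz, four_comm D.yz D.ya, mul_inv_cancel_right]

/-- An element congruent to `t` with the orbit property is `t`. -/
theorem Sec.canon {t : G} (H : Sec D t) {x : G} (hx : Co D.S x pT) (ho : Orb y x) : x = t := by
  have h1 := hx.mul H.co.inv
  rw [show pT + pT = (0 : V × V) from Prod.ext (add_self_V _) (add_self_V _)] at h1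
  obtain ⟨s, u, hsu⟩ := h1.eq_zz
  have hx' : x = zz z a s u * t := by rw [← hsu, inv_mul_cancel_right]
  have e1 : ∀ w : G, y * (zz z a s u * w) * y⁻¹ = zz z a s u * (y * w * y⁻¹) := fun w => by
    conv_rhs => rw [← zz_rot D s u]
    group
  have h2 := ho.prod
  have hL : y * y * (zz z a s u * t) * (y * y)⁻¹ = zz z a s u * (y * y * t * (y * y)⁻¹) := by
    calc y * y * (zz z a s u * t) * (y * y)⁻¹ = y * (y * (zz z a s u * t) * y⁻¹) * y⁻¹ := by group
      _ = zz z a s u * (y * (y * t * y⁻¹) * y⁻¹) := by rw [e1, e1]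
      _ = _ := by group
  rw [hx', hL, e1, H.orb.prod, show zz z a s u * t * (zz z a s u * (y * t * y⁻¹)) =
    zz z a s u * (t * zz z a s u) * (y * t * y⁻¹) by group, H.co.zz_comm,
    show zz z a s u * (zz z a s u * t) * (y * t * y⁻¹) =
      (zz z a s u * zz z a s u) * (t * (y * t * y⁻¹)) by group] at h2
  have h3 : zz z a s u = 1 := by
    have := mul_right_cancel h2
    exact left_eq_mul.1 this
  rw [hx', h3, one_mul]

/-- Existence. -/
theorem exists_sec : ∃ t, Sec D t := by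
  obtain ⟨t0, h0⟩ := co_surj (S := D.S) (p := pT) inW_k0 inW_w0
  obtain ⟨q1, q2, -, q4, q5, hk, hw, -⟩ := pT_facts
  have he : Co D.S (y * t0 * y⁻¹) pE := by
    have := co_rot D h0
    simpa [pT, pE, hk, hw] using this
  have hf : Co D.S (y * y * t0 * (y * y)⁻¹) (k0 + w0, k0) := by
    have := co_rot D he
    rw [show y * y * t0 * (y * y)⁻¹ = y * (y * t0 * y⁻¹) * y⁻¹ by group]
    simpa [pE, hw, pT_facts.2.2.2.2.2.2.2.1] using this
  have h1 := (h0.mul he).inv.mul hf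
  rw [show pT + pE + (k0 + w0, k0) = (0 : V × V) by decide] at h1
  obtain ⟨s, u, hsu⟩ := h1.eq_zz
  have hf' : y * y * t0 * (y * y)⁻¹ = zz z a s u * (t0 * (y * t0 * y⁻¹)) := by
    have e : y * y * t0 * (y * y)⁻¹ = t0 * (y * t0 * y⁻¹) * zz z a s u := by rw [← hsu]; group
    rw [e, (h0.mul he).zz_comm]
  have ht : Co D.S (zz z a s u * t0) pT := by simpa using (co_zz (S := D.S) s u).mul h0
  have hte : Co D.S (y * (zz z a s u * t0) * y⁻¹) pE := by
    have := co_rot D ht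
    simpa [pT, pE, hk, hw] using this
  refine ⟨zz z a s u * t0, ht, ⟨?_, ?_, ?_⟩⟩
  · rw [ht.sq, q1, q2]; simp [zz, zp_zero]
  · rw [ht.comm hte, q4, q5]; simp [zz, zp_zero]
  · have e1 : ∀ w : G, y * (zz z a s u * w) * y⁻¹ = zz z a s u * (y * w * y⁻¹) := fun w => by
      conv_rhs => rw [← zz_rot D s u]
      group
    have hz2 : zz z a s u * zz z a s u = 1 := by
      rw [zz_mul _ _ _ _ D.S, CharTwo.add_self_eq_zero, CharTwo.add_self_eq_zero]; simp [zz, zp_zero]
    calc y * y * (zz z a s u * t0) * (y * y)⁻¹ = y * (y * (zz z a s u * t0) * y⁻¹) * y⁻¹ := by group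
      _ = zz z a s u * (y * (y * t0 * y⁻¹) * y⁻¹) := by rw [e1, e1]
      _ = zz z a s u * (y * y * t0 * (y * y)⁻¹) := by group
      _ = t0 * (y * t0 * y⁻¹) := by rw [hf', ← mul_assoc, hz2, one_mul]
      _ = (zz z a s u * zz z a s u) * (t0 * (y * t0 * y⁻¹)) := by rw [hz2, one_mul]
      _ = zz z a s u * (zz z a s u * t0) * (y * t0 * y⁻¹) := by group
      _ = zz z a s u * (t0 * zz z a s u) * (y * t0 * y⁻¹) := by rw [h0.zz_comm]
      _ = zz z a s u * t0 * (zz z a s u * (y * t0 * y⁻¹)) := by group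
      _ = _ := by rw [e1]

namespace Sec

variable {D} {t : G} (H : Sec D t)
include H

theorem tz : t * z = z * t := H.co.comm_za.1

theorem ta : t * a = a * t := H.co.comm_za.2

theorem co_e : Co D.S (y * t * y⁻¹) pE := by
  have := co_rot D H.co
  simpa [pT, pE, pT_facts.2.2.2.2.2.1, pT_facts.2.2.2.2.2.2.1] using this

theorem act_t (v : V) : act (D.S.act' t) v = T w0 v := H.co.act_eq v

theorem ne_one : t ≠ 1 := fun e => by
  have := co_one.unique (e ▸ H.co : Co D.S (1 : G) pT)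
  exact absurd this.symm (by decide)

theorem e_ne_one : y * t * y⁻¹ ≠ 1 := fun e => H.ne_one (conj_eq_one_iff.1 e)

theorem e_ne : y * t * y⁻¹ ≠ t := fun e => by
  have := H.co.unique (e ▸ H.co_e : Co D.S t pE)
  exact absurd this (by decide)

theorem e_sq : y * t * y⁻¹ * (y * t * y⁻¹) = 1 := by
  calc y * t * y⁻¹ * (y * t * y⁻¹) = y * (t * t) * y⁻¹ := by group
    _ = 1 := by rw [H.orb.sq]; group

/-- The four-group. -/
def E : Subgroup G where
  carrier := {x | x = 1 ∨ x = t ∨ x = y * t * y⁻¹ ∨ x = t * (y * t * y⁻¹)}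
  one_mem' := Or.inl rfl
  mul_mem' := by
    have h1 := H.orb.sq
    have h2 := H.e_sq
    have h3 := H.orb.comm
    generalize y * t * y⁻¹ = e at h2 h3
    rintro x x' (rfl | rfl | rfl | rfl) (rfl | rfl | rfl | rfl) <;>
      simp only [Set.mem_setOf_eq, one_mul, mul_one, true_or, or_true]
    · exact Or.inl h1
    · exact Or.inr (Or.inr (Or.inl (by rw [← mul_assoc, h1, one_mul])))
    · exact Or.inr (Or.inr (Or.inr h3.symm))
    · exact Or.inl h2
    · exact Or.inr (Or.inl (by rw [← mul_assoc, ← h3, mul_assoc, h2, mul_one]))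
    · exact Or.inr (Or.inr (Or.inl (by rw [mul_assoc, ← h3, ← mul_assoc, h1, one_mul])))
    · exact Or.inr (Or.inl (by rw [mul_assoc, h2, mul_one]))
    · exact Or.inl (by rw [mul_assoc, ← mul_assoc _ t, ← h3, mul_assoc t, h2, mul_one, h1])
  inv_mem' := by
    have h1 := H.orb.sq
    have h2 := H.e_sq
    have h3 := H.orb.comm
    generalize y * t * y⁻¹ = e at h2 h3
    rintro x (rfl | rfl | rfl | rfl)
    · exact Or.inl inv_one
    · exact Or.inr (Or.inl (inv_eq_of_mul_eq_one_right h1))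
    · exact Or.inr (Or.inr (Or.inl (inv_eq_of_mul_eq_one_right h2)))
    · exact Or.inr (Or.inr (Or.inr (inv_eq_of_mul_eq_one_right (by
        rw [mul_assoc, ← mul_assoc _ t, ← h3, mul_assoc t, h2, mul_one, h1]))))

theorem mem_E {x : G} : x ∈ H.E ↔ x = 1 ∨ x = t ∨ x = y * t * y⁻¹ ∨ x = t * (y * t * y⁻¹) := Iff.rfl

theorem cardE : Nat.card ↥H.E = 4 := by
  classical
  have hb : Function.Bijective fun p : Fin 4 => (⟨![1, t, y * t * y⁻¹, t * (y * t * y⁻¹)] p, by
      rw [H.mem_E]; fin_cases p <;> simp⟩ : ↥H.E) := by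
    have h1 := H.ne_one
    have h2 := H.e_ne_one
    have h3 := H.e_ne
    have h4 : t * (y * t * y⁻¹) ≠ 1 := fun e => h3 (by
      rw [eq_inv_of_mul_eq_one_right e, inv_eq_of_mul_eq_one_right H.orb.sq])
    have h5 : t * (y * t * y⁻¹) ≠ t := fun e => h2 (mul_eq_left.1 e)
    have h6 : t * (y * t * y⁻¹) ≠ y * t * y⁻¹ := fun e => h1 (mul_eq_right.1 e)
    refine ⟨fun p p' e => ?_, ?_⟩
    · have e' := congrArg Subtype.val e
      fin_cases p <;> fin_cases p' <;>
        simp [h1, h2, h3, h4, h5, h6, Ne.symm h1, Ne.symm h2, Ne.symm h3, Ne.symm h4, Ne.symm h5, Ne.symm h6] at e' ⊢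
    · rintro ⟨x, hx⟩
      rcases H.mem_E.1 hx with rfl | rfl | rfl | rfl
      exacts [⟨0, rfl⟩, ⟨1, rfl⟩, ⟨2, rfl⟩, ⟨3, rfl⟩]
  rw [← Nat.card_eq_of_bijective _ hb, Nat.card_fin]

theorem mem_cent_E {g : G} :
    g ∈ centralizer (H.E : Set G) ↔ g * t = t * g ∧ g * (y * t * y⁻¹) = y * t * y⁻¹ * g := by
  rw [mem_centralizer_iff]
  constructor
  · intro h
    exact ⟨(h t (H.mem_E.2 (Or.inr (Or.inl rfl)))).symm,
      (h _ (H.mem_E.2 (Or.inr (Or.inr (Or.inl rfl))))).symm⟩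
  · rintro ⟨h1, h2⟩ x hx
    rcases H.mem_E.1 hx with h | h | h | h <;> rw [h]
    · simp
    · exact h1.symm
    · exact h2.symm
    · exact (((show Commute g t from h1).mul_right (show Commute g (y * t * y⁻¹) from h2)).eq).symm

/-- An element fixing `t` and normalizing `⟨y⟩` normalizes the four-group. -/
theorem normalizes {g : G} (ht : g * t * g⁻¹ = t) (hy : g * y * g⁻¹ = y ∨ g * y * g⁻¹ = y⁻¹) :
    g * (y * t * y⁻¹) * g⁻¹ = y * t * y⁻¹ ∨ g * (y * t * y⁻¹) * g⁻¹ = t * (y * t * y⁻¹) := by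
  have e : g * (y * t * y⁻¹) * g⁻¹ = (g * y * g⁻¹) * t * (g * y * g⁻¹)⁻¹ := by
    conv_rhs => rw [← ht]
    group
  rcases hy with h | h <;> rw [h] at e <;> rw [e]
  · exact Or.inl rfl
  · right
    rw [← H.orb.prod, show y * y = y⁻¹ from eq_inv_of_mul_eq_one_left (by rw [← D.y3, pow_succ, pow_two])]

theorem mem_normalizer {g : G} (ht : g * t * g⁻¹ = t)
    (he : g * (y * t * y⁻¹) * g⁻¹ = y * t * y⁻¹ ∨ g * (y * t * y⁻¹) * g⁻¹ = t * (y * t * y⁻¹)) :
    g ∈ normalizer (H.E : Set G) := by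
  refine mem_normalizer_of_map fun x hx => ?_
  generalize hee : y * t * y⁻¹ = e at he
  have hm : ∀ u v : G, g * (u * v) * g⁻¹ = g * u * g⁻¹ * (g * v * g⁻¹) := fun u v => by group
  rw [H.mem_E, hee] at hx ⊢
  rcases hx with rfl | rfl | rfl | rfl
  · left; group
  · exact Or.inr (Or.inl ht)
  · rcases he with h | h <;> rw [h]
    · exact Or.inr (Or.inr (Or.inl rfl))
    · exact Or.inr (Or.inr (Or.inr rfl))
  · rw [hm, ht]
    rcases he with h | h <;> rw [h]
    · exact Or.inr (Or.inr (Or.inr rfl))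
    · refine Or.inr (Or.inr (Or.inl ?_))
      rw [← mul_assoc, H.orb.sq, one_mul]

end Sec

end Cfsg.Agent.SuzukiLocal
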