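import Cfsg.Agent.Lib.SuzukiLocal.Five

/-!
The Sylow 7-normalizer of a group of Suzuki sporadic type.
-/

set_option autoImplicit false
set_option linter.all false

namespace Cfsg.Agent.SuzukiLocal

open Subgroup

universe u

variable {G : Type u} [Group G] [Finite G]

namespace Facts

variable {z t : G} {E : Subgroup G} (F : Facts z t E)
include F

theorem seven_card (B : Sylow 7 G) : Nat.card (B : Subgroup G) = 7 := by
  haveI : Fact (Nat.Prime 7) := ⟨by norm_num⟩
  rw [Sylow.card_eq_multiplicity, F.card_G, show (448345497600 : ℕ) = 7 ^ 1 * 64049356800 by norm_num,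
    Nat.factorization_mul (by norm_num) (by norm_num), Finsupp.add_apply,
    Nat.Prime.factorization_pow (by norm_num : Nat.Prime 7),
    Nat.factorization_eq_zero_of_not_dvd (by norm_num : ¬ 7 ∣ 64049356800)]
  simp

theorem seven_main : ∃ b : G, orderOf b = 7 ∧
    Nonempty (↥(centralizer ({b} : Set G)) ≃* Multiplicative (ZMod 7) × alternatingGroup (Fin 4)) ∧
    Nat.card (normalizer (zpowers b : Set G)) = 504 := by
  classical
  haveI : Fact (Nat.Prime 7) := ⟨by norm_num⟩
  haveI : Fact (Nat.Prime 5) := ⟨Nat.prime_five⟩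
  obtain ⟨b, hb, hbt, hbE, hbc⟩ := F.exists_t_elt 7 (Or.inr rfl)
  have hX : Nat.card (Quot' b) ∣ 64049356800 := by
    have := F.card_quot_dvd (b := b)
    rw [hb, show (448345497600 : ℕ) = 64049356800 * 7 by norm_num] at this
    exact Nat.dvd_of_mul_dvd_mul_right (by norm_num) this
  have h5 : ¬ 5 ∣ Nat.card (Quot' b) := by
    intro h
    obtain ⟨y, hy⟩ := exists_prime_orderOf_dvd_card' (G := centralizer ({b} : Set G)) 5
      (by rw [card_quot]; exact dvd_mul_of_dvd_left h _)
    refine F.five_cent (x := (y : G)) (by rw [Subgroup.orderOf_coe, hy]) ?_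
    have := card_dvd_of_le (zpowers_le.2 (show b ∈ centralizer ({(y : G)} : Set G) from
      mem_centralizer_singleton_iff.2 (mem_centralizer_singleton_iff.1 y.2).symm))
    rwa [Nat.card_zpowers, hb] at this
  rcases F.quot_shape (p := 7) (Or.inr rfl) hb hbt hbE (fun x hx => F.not_z_seven hx hb) hbc with ⟨U, hU⟩ | ⟨a, i, s, hO⟩
  swap
  · exact (hO.not_seven hX h5).elim
  have hC : Nat.card (centralizer ({b} : Set G)) = Nat.card (Quot' b) * 7 := by rw [card_quot, hb]
  set N := normalizer (zpowers b : Set G) with hN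
  have hd : Nat.card N ∣ 6 * (Nat.card (Quot' b) * 7) := by
    have := card_normalizer_dvd (⊤ : Subgroup G) b
    rwa [top_inf_eq, top_inf_eq, hb, Nat.totient_prime (by norm_num : Nat.Prime 7), hC] at this
  have hd' : Nat.card (Quot' b) * 7 ∣ Nat.card N := by
    have := le_card_normalizer (⊤ : Subgroup G) b
    rwa [top_inf_eq, top_inf_eq, hC] at this
  obtain ⟨B, hB⟩ := (IsPGroup.of_card (G := zpowers b) (n := 1) (by rw [Nat.card_zpowers, hb, pow_one]) :
    IsPGroup 7 (zpowers b)).exists_le_sylow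
  have hBb : zpowers b = (B : Subgroup G) :=
    eq_of_le_of_card_ge hB (by rw [F.seven_card B, Nat.card_zpowers, hb])
  have hmod : N.index % 7 = 1 := by
    rw [hN, hBb, show ((B : Subgroup G) : Set G) = (B : Set G) from rfl, ← Sylow.card_eq_index_normalizer B]
    exact card_sylow_modEq_one 7 G
  have hmul := N.card_mul_index
  rw [F.card_G] at hmul
  obtain ⟨⟨hUn, h12⟩, h504⟩ : (U.Normal ∧ Nat.card (Quot' b) = 12) ∧ Nat.card N = 504 := by
    obtain ⟨j, hj⟩ := hd'
    have hpos : 0 < Nat.card (Quot' b) * 7 := Nat.mul_pos Nat.card_pos (by norm_num)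
    have hj6 : j ∣ 6 := Nat.dvd_of_mul_dvd_mul_left hpos
      (by rw [← hj, mul_comm (Nat.card (Quot' b) * 7) 6]; exact hd)
    have hjle := Nat.le_of_dvd (by norm_num) hj6
    rw [hj] at hmul ⊢
    rcases hU.cases with h | ⟨hn, h⟩ | ⟨⟨e⟩⟩
    · exfalso
      rw [h] at hmul
      generalize N.index = m at *
      interval_cases j <;> omega
    · refine ⟨⟨hn, h⟩, ?_⟩
      rw [h] at hmul ⊢
      generalize N.index = m at *
      interval_cases j <;> omega
    · refine absurd ?_ h5
      rw [Nat.card_congr e.toEquiv, nat_card_alternatingGroup, Nat.card_fin]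
      norm_num [Nat.factorial]
  refine ⟨b, hb, ?_, h504⟩
  obtain ⟨eA⟩ := alt_four hU hUn h12
  -- the central factor splits off
  set C := centralizer ({b} : Set G) with hCdef
  obtain ⟨H, hH⟩ := Subgroup.exists_right_complement'_of_coprime (N := cycSub b) (by
    rw [card_cycSub, hb, Subgroup.index_eq_card]
    show Nat.Coprime 7 (Nat.card (Quot' b))
    rw [h12]; norm_num)
  have hcent : ∀ x ∈ cycSub b, ∀ y : C, Commute x y := by
    intro x hx y
    obtain ⟨k, hk⟩ := mem_subgroupOf.1 hx
    apply Subtype.ext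
    show (x : G) * y = y * x
    rw [← (show b ^ k = (x : G) from hk)]
    exact ((show Commute (y : G) b from mem_centralizer_singleton_iff.1 y.2).zpow_right k).eq.symm
  let φ : cycSub b × H →* C := MonoidHom.mk' (fun p => (p.1 : C) * p.2) fun p q => by
    show (p.1 : C) * q.1 * (p.2 * q.2) = p.1 * p.2 * (q.1 * q.2)
    exact (hcent _ q.1.2 p.2).mul_mul_mul_comm _ _
  have hφ : Function.Bijective φ := hH
  have hHq : Function.Bijective ((proj b).comp H.subtype) := by
    refine ⟨(injective_iff_map_eq_one _).2 fun y hy => ?_, ?_⟩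
    · have h1 : (y : C) ∈ cycSub b := (QuotientGroup.eq_one_iff _).1 hy
      exact Subtype.ext (mem_bot.1 (disjoint_iff.1 hH.disjoint ▸ (Subgroup.mem_inf.2 ⟨h1, y.2⟩)))
    · intro q
      obtain ⟨c, rfl⟩ := QuotientGroup.mk'_surjective (cycSub b) q
      obtain ⟨⟨n, h⟩, rfl⟩ := hφ.2 c
      refine ⟨h, ?_⟩
      show proj b h = proj b ((n : C) * h)
      rw [map_mul, show proj b (n : C) = 1 from (QuotientGroup.eq_one_iff _).2 n.2, one_mul]
  haveI : IsCyclic (cycSub b) := isCyclic_of_prime_card (p := 7) (by rw [card_cycSub, hb])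
  have h7 : Nat.card (cycSub b) = Nat.card (Multiplicative (ZMod 7)) := by
    rw [card_cycSub, hb, Nat.card_congr Multiplicative.toAdd, Nat.card_zmod]
  exact ⟨(MulEquiv.ofBijective φ hφ).symm.trans
    (MulEquiv.prodCongr (mulEquivOfCyclicCardEq h7) ((MulEquiv.ofBijective _ hHq).trans eA))⟩

/-- The conclusion of the statement on the Sylow 7-normalizer. -/
theorem sylow_seven (B : Sylow 7 G) :
    Nonempty (↥(Subgroup.centralizer ((B : Subgroup G) : Set G)) ≃*
        Multiplicative (ZMod 7) × alternatingGroup (Fin 4)) ∧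
      Nat.card ↥(Subgroup.normalizer ((B : Subgroup G) : Set G)) = 504 := by
  haveI : Fact (Nat.Prime 7) := ⟨by norm_num⟩
  obtain ⟨b, hb, ⟨e⟩, h504⟩ := F.seven_main
  obtain ⟨B₀, hB₀⟩ := (IsPGroup.of_card (G := zpowers b) (n := 1) (by rw [Nat.card_zpowers, hb, pow_one]) :
    IsPGroup 7 (zpowers b)).exists_le_sylow
  have hBb : zpowers b = (B₀ : Subgroup G) :=
    eq_of_le_of_card_ge hB₀ (by rw [F.seven_card B₀, Nat.card_zpowers, hb])
  obtain ⟨g, hg⟩ := MulAction.exists_smul_eq G B₀ B
  have hBm : (B : Subgroup G) = (zpowers b).map (MulAut.conj g).toMonoidHom := by rw [hBb, ← hg]; rfl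
  constructor
  · have hc : centralizer ((B : Subgroup G) : Set G) =
        (centralizer ({b} : Set G)).map (MulAut.conj g).toMonoidHom := by
      rw [hBm, zpowers_conj, zpowers_eq_closure, centralizer_closure, map_centralizer_conj]
    exact ⟨(MulEquiv.subgroupCongr hc).trans
      (((centralizer ({b} : Set G)).equivMapOfInjective (MulAut.conj g).toMonoidHom (MulAut.conj g).injective).symm.trans e)⟩
  · rw [hBm, ← Subgroup.map_equiv_normalizer_eq,
      card_map_of_injective (f := (MulAut.conj g).toMonoidHom) (MulAut.conj g).injective, h504]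

end Facts

end Cfsg.Agent.SuzukiLocal
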