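import Cfsg.Agent.Lib.SuzukiLocal.Local

/-!
`C(t)` is transitive on its involutions conjugate to `z`, and the order of `C(z) ∩ C(t)`.
-/

set_option autoImplicit false
set_option maxRecDepth 8000
set_option synthInstance.maxSize 4096

namespace Cfsg.Agent.SuzukiLocal

open Subgroup Cfsg.Agent.LargeExtra Cfsg.Agent.OctadInv.Orbits Cfsg.Agent.SuzukiType Cfsg.Agent.SuzukiThree

variable {G : Type*} [Group G] [Finite G] {Q Q' : Subgroup G} {z a y : G} {D : Su Q Q' z a y} {t : G}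

theorem card_perp : Nat.card {p : V × V // InW p.1 ∧ InW p.2 ∧ cz p pT = 0 ∧ ca p pT = 0} = 64 := by
  rw [Nat.card_eq_fintype_card]
  decide +kernel

namespace Sec

variable (H : Sec D t)
include H

/-- Elements with the coordinates of `t` are conjugate to it under `C(z) ∩ C(a)`. -/
theorem fix_lift {x : G} (hx : Co D.S x pT) : ∃ j, j * z = z * j ∧ j * t * j⁻¹ = x := by
  have h1 := hx.mul H.co.inv
  rw [show pT + pT = (0 : V × V) from Prod.ext (add_self_V _) (add_self_V _)] at h1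
  obtain ⟨s, u, hsu⟩ := h1.eq_zz
  obtain ⟨v, hv, w, hw, e1, e2⟩ := comm_surj s u
  obtain ⟨j, hj⟩ := co_surj (S := D.S) (p := (v, w)) hv hw
  refine ⟨j, hj.comm_za.1, ?_⟩
  rw [hj.comm H.co, e1, e2, ← hsu]
  group

/-- An involution of `C(z)` of the second class is conjugate to `t` under `C(z)`. -/
theorem to_t {x : G} (hxz : x * z = z * x) (hxx : x * x = 1) (hx1 : x ≠ 1) (hnc : ¬ IsConj x z) :
    ∃ c, c * z = z * c ∧ c * x * c⁻¹ = t := by
  obtain ⟨c, hcz, hc⟩ := to_second D.S hxz hxx hx1 hnc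
  obtain ⟨j, hjz, hj⟩ := H.fix_lift (x := c * x * c⁻¹) hc
  refine ⟨j⁻¹ * c, SuzukiType.mul_z (inv_z hjz) hcz, ?_⟩
  calc j⁻¹ * c * x * (j⁻¹ * c)⁻¹ = j⁻¹ * (c * x * c⁻¹) * j := by group
    _ = j⁻¹ * (j * t * j⁻¹) * j := by rw [hj]
    _ = t := by group

/-- `C(t)` is transitive on its involutions conjugate to `z`. -/
theorem trans_z {l : G} (hlt : l * t = t * l) (hc : IsConj l z) :
    ∃ h, h * z * h⁻¹ = l ∧ h * t * h⁻¹ = t := by
  obtain ⟨g, hg⟩ := isConj_iff.1 hc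
  obtain ⟨c, hcz, hct⟩ := H.to_t (x := g * t * g⁻¹) (by
      rw [← hg]
      calc g * t * g⁻¹ * (g * l * g⁻¹) = g * (t * l) * g⁻¹ := by group
        _ = g * (l * t) * g⁻¹ := by rw [hlt]
        _ = _ := by group)
    (by rw [show g * t * g⁻¹ * (g * t * g⁻¹) = g * (t * t) * g⁻¹ by group, H.orb.sq]; group)
    (fun e => H.ne_one (conj_eq_one_iff.1 e))
    (fun e => H.t_not_conj ((isConj_iff.2 ⟨g, rfl⟩ : IsConj t (g * t * g⁻¹)).trans e))
  refine ⟨(c * g)⁻¹, ?_, ?_⟩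
  · have e : c * g * l * (c * g)⁻¹ = z := by
      calc c * g * l * (c * g)⁻¹ = c * (g * l * g⁻¹) * c⁻¹ := by group
        _ = z := by rw [hg, hcz, mul_inv_cancel_right]
    conv_lhs => rw [← e]
    group
  · have e : c * g * t * (c * g)⁻¹ = t := by
      calc c * g * t * (c * g)⁻¹ = c * (g * t * g⁻¹) * c⁻¹ := by group
        _ = t := hct
    conv_lhs => rw [← e]
    group

/-- `C(z) ∩ C(t) ∩ C(E)` has order `256`. -/
theorem card_inner :
    Nat.card ↥(centralizer ({z} : Set G) ⊓ centralizer (H.E : Set G)) = 256 := by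
  classical
  have hmem : ∀ x : G, x ∈ centralizer ({z} : Set G) ⊓ centralizer (H.E : Set G) ↔
      x * z = z * x ∧ x * a = a * x ∧ x * t = t * x := fun x => by
    rw [Subgroup.mem_inf, mem_centralizer_singleton_iff, H.mem_cent_E]
    exact ⟨fun ⟨h1, h2, h3⟩ => ⟨h1, H.comm_a h1 h2 h3, h2⟩, fun ⟨h1, h2, h3⟩ => ⟨h1, h3, H.comm_e h1 h2 h3⟩⟩
  choose f hf using fun p : {p : V × V // InW p.1 ∧ InW p.2 ∧ cz p pT = 0 ∧ ca p pT = 0} =>
    co_surj (S := D.S) p.2.1 p.2.2.1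
  have hf' : ∀ s u p, Co D.S (zz z a s u * f p) p.1 := fun s u p => by
    simpa using (co_zz (S := D.S) s u).mul (hf p)
  let φ : ZMod 2 × ZMod 2 × {p : V × V // InW p.1 ∧ InW p.2 ∧ cz p pT = 0 ∧ ca p pT = 0} →
      ↥(centralizer ({z} : Set G) ⊓ centralizer (H.E : Set G)) := fun q =>
    ⟨zz z a q.1 q.2.1 * f q.2.2, (hmem _).2 ⟨(hf' _ _ _).comm_za.1, (hf' _ _ _).comm_za.2, by
      rw [(hf' q.1 q.2.1 q.2.2).comm H.co, q.2.2.2.2.2.1, q.2.2.2.2.2.2]; simp [zz, zp_zero]⟩⟩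
  have hφ : Function.Bijective φ := by
    refine ⟨fun q q' e => ?_, fun x => ?_⟩
    · obtain ⟨s, u, p⟩ := q
      obtain ⟨s', u', p'⟩ := q'
      have e' : zz z a s u * f p = zz z a s' u' * f p' := congrArg Subtype.val e
      have hp : p = p' := Subtype.ext ((hf' s u p).unique (e' ▸ hf' s' u' p'))
      subst hp
      have e3 := congrArg (fun w => zz z a s u * w) (mul_right_cancel e')
      simp only [zz_mul _ _ _ _ D.S, CharTwo.add_self_eq_zero] at e3
      obtain ⟨h1, h2⟩ := D.S.zp_pair_one (show zp z (s + s') * zp a (u + u') = 1 by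
        show zz z a (s + s') (u + u') = 1
        rw [← e3]; simp [zz, zp_zero])
      rw [show s = s' from CharTwo.add_eq_zero.1 h1, show u = u' from CharTwo.add_eq_zero.1 h2]
    · obtain ⟨hxz, hxa, hxt⟩ := (hmem x.1).1 x.2
      obtain ⟨p, hp, h1, h2⟩ := H.inner hxz hxa hxt
      set q : {p : V × V // InW p.1 ∧ InW p.2 ∧ cz p pT = 0 ∧ ca p pT = 0} :=
        ⟨p, hp.inW.1, hp.inW.2, h1, h2⟩
      have h0 := hp.mul (hf q).inv
      rw [show p + q.1 = (0 : V × V) from Prod.ext (add_self_V _) (add_self_V _)] at h0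
      obtain ⟨s, u, hsu⟩ := h0.eq_zz
      exact ⟨(s, u, q), Subtype.ext (show zz z a s u * f q = x.1 by rw [← hsu, inv_mul_cancel_right])⟩
  rw [← Nat.card_eq_of_bijective φ hφ, Nat.card_prod, Nat.card_prod, card_perp]
  simp

/-- Outer elements. -/
theorem exists_swap : ∃ c, c * z = z * c ∧ c * t = t * c ∧
    c * (y * t * y⁻¹) * c⁻¹ = t * (y * t * y⁻¹) ∧ c ∉ centralizer (H.E : Set G) := by
  obtain ⟨c, hcz, hct, -, hce, -⟩ := H.exists_outer
  refine ⟨c, hcz, hct, hce, fun h => ?_⟩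
  rw [(H.mem_cent_E.1 h).2, mul_inv_cancel_right] at hce
  exact H.ne_one (mul_eq_right.1 hce.symm)

/-- `C(z) ∩ C(t)` normalizes `E`, and meets `C(E)` with index two. -/
theorem norm_zt {x : G} (hxz : x * z = z * x) (hxt : x * t = t * x) :
    x ∈ normalizer (H.E : Set G) ∧ ∀ c, c * z = z * c → c * t = t * c →
      c ∉ centralizer (H.E : Set G) → x ∈ centralizer (H.E : Set G) ∨ c⁻¹ * x ∈ centralizer (H.E : Set G) := by
  obtain ⟨c0, hc0z, hc0t, hc0a, hc0e, -⟩ := H.exists_outer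
  have hxt' : x * t * x⁻¹ = t := by rw [hxt, mul_inv_cancel_right]
  have key : ∀ w, w * z = z * w → w * t = t * w →
      w ∈ centralizer (H.E : Set G) ∨ w * (y * t * y⁻¹) * w⁻¹ = t * (y * t * y⁻¹) := by
    intro w hwz hwt
    rcases H.conj_a_cases hwz hwt with h | h
    · exact Or.inl (H.mem_cent_E.2 ⟨hwt, H.comm_e hwz h hwt⟩)
    · right
      have hvz : c0⁻¹ * w * z = z * (c0⁻¹ * w) := SuzukiType.mul_z (inv_z hc0z) hwz
      have hvt : c0⁻¹ * w * t = t * (c0⁻¹ * w) := SuzukiType.mul_z (z := t) (inv_z (z := t) hc0t) hwt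
      have hva : c0⁻¹ * w * a = a * (c0⁻¹ * w) := by
        calc c0⁻¹ * w * a = c0⁻¹ * (w * a * w⁻¹) * w := by group
          _ = c0⁻¹ * (c0 * a * c0⁻¹) * w := by rw [h, hc0a]
          _ = _ := by group
      have hve := H.comm_e hvz hva hvt
      calc w * (y * t * y⁻¹) * w⁻¹ = c0 * ((c0⁻¹ * w) * (y * t * y⁻¹) * (c0⁻¹ * w)⁻¹) * c0⁻¹ := by group
        _ = t * (y * t * y⁻¹) := by rw [hve, mul_inv_cancel_right, hc0e]
  refine ⟨?_, fun c hcz hct hcE => ?_⟩
  · rcases key x hxz hxt with h | h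
    · exact H.mem_normalizer hxt' (Or.inl (by rw [(H.mem_cent_E.1 h).2, mul_inv_cancel_right]))
    · exact H.mem_normalizer hxt' (Or.inr h)
  · refine or_iff_not_imp_left.2 fun hx => ?_
    have h1 := (key x hxz hxt).resolve_left hx
    have h2 := (key c hcz hct).resolve_left hcE
    refine H.mem_cent_E.2 ⟨SuzukiType.mul_z (z := t) (inv_z (z := t) hct) hxt, ?_⟩
    calc c⁻¹ * x * (y * t * y⁻¹) = c⁻¹ * (x * (y * t * y⁻¹) * x⁻¹) * x := by group
      _ = c⁻¹ * (c * (y * t * y⁻¹) * c⁻¹) * x := by rw [h1, h2]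
      _ = _ := by group

/-- `C(z) ∩ C(t)` has order `512`. -/
theorem card_zt : Nat.card ↥(centralizer ({z} : Set G) ⊓ centralizer ({t} : Set G)) = 512 := by
  classical
  obtain ⟨c, hcz, hct, -, hcE⟩ := H.exists_swap
  set K := centralizer ({z} : Set G) ⊓ centralizer (H.E : Set G)
  set L := centralizer ({z} : Set G) ⊓ centralizer ({t} : Set G)
  have hKL : ∀ k ∈ K, k ∈ L := fun k hk =>
    ⟨hk.1, mem_centralizer_singleton_iff.2 (H.mem_cent_E.1 hk.2).1⟩
  have hcL : c ∈ L := ⟨mem_centralizer_singleton_iff.2 hcz, mem_centralizer_singleton_iff.2 hct⟩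
  let φ : Bool × ↥K → ↥L := fun q =>
    if q.1 then ⟨c * q.2.1, mul_mem hcL (hKL _ q.2.2)⟩ else ⟨q.2.1, hKL _ q.2.2⟩
  have hφ : Function.Bijective φ := by
    have hout : ∀ k k' : ↥K, c * k.1 ≠ k'.1 := fun k k' e => hcE (by
      have : c = k'.1 * k.1⁻¹ := by rw [← e, mul_inv_cancel_right]
      rw [this]; exact mul_mem k'.2.2 (inv_mem k.2.2))
    refine ⟨fun q q' e => ?_, fun x => ?_⟩
    · obtain ⟨b, k⟩ := q
      obtain ⟨b', k'⟩ := q'
      have e' := congrArg Subtype.val e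
      cases b <;> cases b' <;> simp only [φ, Bool.false_eq_true, ↓reduceIte] at e'
      · rw [Subtype.ext e']
      · exact absurd e'.symm (hout k' k)
      · exact absurd e' (hout k k')
      · rw [Subtype.ext (mul_left_cancel e')]
    · have hxz := mem_centralizer_singleton_iff.1 x.2.1
      have hxt := mem_centralizer_singleton_iff.1 x.2.2
      rcases (H.norm_zt hxz hxt).2 c hcz hct hcE with h | h
      · exact ⟨(false, ⟨x.1, x.2.1, h⟩), by simp [φ]⟩
      · exact ⟨(true, ⟨c⁻¹ * x.1, Subgroup.mul_mem _ (Subgroup.inv_mem _ hcL.1) x.2.1, h⟩), by simp [φ]⟩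
  rw [← Nat.card_eq_of_bijective φ hφ, Nat.card_prod, H.card_inner]
  simp

end Sec

end Cfsg.Agent.SuzukiLocal
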