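import Cfsg.Agent.Lib.SuzukiLocal.Trans
import Cfsg.Agent.Lib.SuzukiLocal.Dihedral
import Cfsg.Agent.Lib.SuzukiType.Main

/-!
The involutions of `C(t)` conjugate to `z`, and the four-groups belonging to them.
-/

set_option autoImplicit false
set_option maxRecDepth 8000
set_option synthInstance.maxSize 4096

namespace Cfsg.Agent.SuzukiLocal

open Subgroup Cfsg.Agent.LargeExtra Cfsg.Agent.OctadInv.Orbits Cfsg.Agent.SuzukiType Cfsg.Agent.SuzukiThree

variable {G : Type*} [Group G] [Finite G] {Q Q' : Subgroup G} {z a y : G} {D : Su Q Q' z a y} {t : G}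

/-- An involution of `C(t)` conjugate to `z`. -/
structure ZT (z t l : G) : Prop where
  comm : l * t = t * l
  sq : l * l = 1
  conj : IsConj l z

/-- `h` carries `z` to `l` inside `C(t)`. -/
def Tr (z t l h : G) : Prop := h * z * h⁻¹ = l ∧ h * t * h⁻¹ = t

theorem Tr.left {l h g : G} (hh : Tr z t l h) (hg : g * t = t * g) : Tr z t (g * l * g⁻¹) (g * h) := by
  refine ⟨by rw [← hh.1]; group, ?_⟩
  calc g * h * t * (g * h)⁻¹ = g * (h * t * h⁻¹) * g⁻¹ := by group
    _ = t := by rw [hh.2, hg, mul_inv_cancel_right]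

theorem Tr.comm {l h : G} (hh : Tr z t l h) : h * t = t * h := mul_inv_eq_iff_eq_mul.1 hh.2

namespace Sec

variable (H : Sec D t)
include H

theorem zz_one : z * z = 1 := D.S.h.zz

theorem zt_z : ZT z t z := ⟨H.tz.symm, D.S.h.zz, IsConj.refl z⟩

theorem zt_a : ZT z t a := ⟨H.ta.symm, D.S.h'.zz, D.S.conj_z'⟩

theorem tr_one : Tr z t z 1 := ⟨by simp, by simp⟩

theorem not_z_of_type_one {x : G} {p : V × V} (h : Co D.S x p) (h1 : qz p = 0) (h2 : qa p = 0)
    (h3 : bf p.2 p.1 = 1) : ¬ IsConj x z := by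
  obtain ⟨k, m, hk, hkv, hm, hmz, hmw, -⟩ := D.S.exists_second
  exact fun e => D.S.not_conj hk hkv hm hmz hmw (by rw [D.card]; norm_num)
    ((h.conj_t h1 h2 h3 hk hkv hm hmz hmw).trans e).symm

/-- The three involutions of `E` in coordinates. -/
theorem E_coords {u : G} (hu : u ∈ H.E) (hu1 : u ≠ 1) :
    ∃ p, Co D.S u p ∧ qz p = 0 ∧ qa p = 0 ∧ bf p.2 p.1 = 1 := by
  rcases H.mem_E.1 hu with h | h | h | h
  · exact absurd h hu1
  · exact ⟨pT, h ▸ H.co, by decide, by decide, by decide⟩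
  · exact ⟨pE, h ▸ H.co_e, by decide, by decide, by decide⟩
  · exact ⟨pT + pE, h ▸ H.co.mul H.co_e, by decide, by decide, by decide⟩

theorem E_not_z {u : G} (hu : u ∈ H.E) : ¬ IsConj u z := by
  by_cases hu1 : u = 1
  · exact fun e => D.S.h.ne_one (isConj_one_right.1 (hu1 ▸ e : IsConj 1 z))
  obtain ⟨p, hp, h1, h2, h3⟩ := H.E_coords hu hu1
  exact H.not_z_of_type_one hp h1 h2 h3

theorem zu_not_z {u : G} (hu : u ∈ H.E) (hu1 : u ≠ 1) : ¬ IsConj (z * u) z := by
  obtain ⟨p, hp, h1, h2, h3⟩ := H.E_coords hu hu1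
  have h := (co_zz (S := D.S) 1 0).mul hp
  rw [show zz z a (1 : ZMod 2) 0 = z by rw [zz, zp_one, zp_zero, mul_one], zero_add] at h
  exact H.not_z_of_type_one h h1 h2 h3

theorem za_conj : IsConj (z * a) z := by
  have h := co_zz (S := D.S) 1 1
  rw [show zz z a (1 : ZMod 2) 1 = z * a by rw [zz, zp_one, zp_one]] at h
  refine h.conj_z (by decide) (by decide) (by decide) fun e => ?_
  obtain ⟨h1, -⟩ := D.S.zp_pair_one (show zp z (1 : ZMod 2) * zp a 1 = 1 by rw [zp_one, zp_one, e])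
  exact one_ne_zero h1

theorem za_not_E : z * a ∉ H.E := fun h => H.E_not_z h H.za_conj

theorem classes {x : G} (hxx : x * x = 1) (hx1 : x ≠ 1) : IsConj x z ∨ IsConj x t := by
  obtain ⟨g, hg⟩ := exists_conj_cent D.S.h hxx
  have hc : IsConj x (g * x * g⁻¹) := isConj_iff.2 ⟨g, rfl⟩
  by_cases h : IsConj (g * x * g⁻¹) z
  · exact Or.inl (hc.trans h)
  obtain ⟨c, -, hct⟩ := H.to_t hg
    (by rw [show g * x * g⁻¹ * (g * x * g⁻¹) = g * (x * x) * g⁻¹ by group, hxx]; group)
    (fun e => hx1 (conj_eq_one_iff.1 e)) h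
  exact Or.inr (hc.trans (isConj_iff.2 ⟨c, hct⟩))

theorem zt_ne_one {l : G} (h : ZT z t l) : l ≠ 1 :=
  fun e => D.S.h.ne_one (isConj_one_right.1 (e ▸ h.conj : IsConj 1 z))

theorem exists_tr {l : G} (h : ZT z t l) : ∃ g, Tr z t l g := H.trans_z h.comm h.conj

theorem zt_of_tr {l h : G} (hh : Tr z t l h) : ZT z t l := by
  refine ⟨?_, ?_, isConj_iff.2 ⟨h⁻¹, by rw [← hh.1]; group⟩⟩
  · rw [← hh.1]
    conv_lhs => rw [← hh.2]
    conv_rhs => rw [← hh.2]
    calc h * z * h⁻¹ * (h * t * h⁻¹) = h * (z * t) * h⁻¹ := by group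
      _ = h * (t * z) * h⁻¹ := by rw [H.tz]
      _ = _ := by group
  · rw [← hh.1]
    calc h * z * h⁻¹ * (h * z * h⁻¹) = h * (z * z) * h⁻¹ := by group
      _ = 1 := by rw [D.S.h.zz]; group

theorem zt_conj {l g : G} (h : ZT z t l) (hg : g * t = t * g) : ZT z t (g * l * g⁻¹) := by
  obtain ⟨k, hk⟩ := H.exists_tr h
  exact H.zt_of_tr (hk.left hg)

/-- The product of two commuting involutions conjugate to `z` is one as well. -/
theorem zt_mul {l l' : G} (h : ZT z t l) (h' : ZT z t l') (hll : l * l' = l' * l) (hne : l ≠ l') :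
    ZT z t (l * l') := by
  obtain ⟨g, hg⟩ := H.exists_tr h
  have hgi : g⁻¹ * t = t * g⁻¹ := inv_z (z := t) hg.comm
  have hx := H.zt_conj h' hgi
  rw [inv_inv] at hx
  have hlz : g⁻¹ * l * g = z := by rw [← hg.1]; group
  set x := g⁻¹ * l' * g with hxd
  have hxz : x * z = z * x := by
    calc x * z = g⁻¹ * (l' * l) * g := by rw [hxd, ← hlz]; group
      _ = g⁻¹ * (l * l') * g := by rw [hll]
      _ = z * x := by rw [hxd, ← hlz]; group
  obtain ⟨p, hp, -, -, h3, h4, h5⟩ := H.zero_type hxz hx.comm hx.sq hx.conj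
  have hzp := (co_zz (S := D.S) 1 0).mul hp
  rw [show zz z a (1 : ZMod 2) 0 = z by rw [zz, zp_one, zp_zero, mul_one], zero_add] at hzp
  have hne1 : z * x ≠ 1 := fun e => hne (by
    have e1 : z = x := by rw [eq_inv_of_mul_eq_one_left e, inv_eq_of_mul_eq_one_right hx.sq]
    calc l = g * z * g⁻¹ := hg.1.symm
      _ = g * (g⁻¹ * l' * g) * g⁻¹ := by rw [← hxd, ← e1]
      _ = l' := by group)
  refine ⟨?_, ?_, (show IsConj (l * l') (z * x) from
    isConj_iff.2 ⟨g⁻¹, by rw [hxd, ← hlz]; group⟩).trans (hzp.conj_z h3 h4 h5 hne1)⟩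
  · exact SuzukiType.mul_z (z := t) h.comm h'.comm
  · calc l * l' * (l * l') = l * (l' * l) * l' := by group
      _ = (l * l) * (l' * l') := by rw [← hll]; group
      _ = 1 := by rw [h.sq, h'.sq, mul_one]

/-- `z` and `t` differ: no product of two commuting such involutions is conjugate to `t`. -/
theorem zt_mul_ne {l l' : G} (h : ZT z t l) (h' : ZT z t l') (hll : l * l' = l' * l) :
    ¬ IsConj (l * l') t := fun e => by
  by_cases hne : l = l'
  · rw [← hne, h.sq] at e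
    exact H.ne_one (isConj_one_right.1 e)
  · exact H.t_not_conj (e.symm.trans (H.zt_mul h h' hll hne).conj)

/-- An even product of two such involutions: its middle is one as well. -/
theorem zt_middle {l l' : G} (h : ZT z t l) (h' : ZT z t l') (he : Even (orderOf (l * l'))) :
    ∃ w, ZT z t w ∧ w ∈ zpowers (l * l') ∧ w * l = l * w ∧ w * l' = l' * w := by
  obtain ⟨hww, hw1, hwl, hwl', j, hj⟩ := middle h.sq h'.sq he
  set w := (l * l') ^ (orderOf (l * l') / 2) with hw
  have hwt : w * t = t * w := pow_prod_comm h.comm.symm h'.comm.symm _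
  have hjt : (l * l') ^ j * t = t * (l * l') ^ j := pow_prod_comm h.comm.symm h'.comm.symm _
  have hwl2 : ZT z t (w * l) := by
    rcases hj with ⟨-, e⟩ | ⟨-, e⟩ <;> rw [← e]
    · exact H.zt_conj h hjt
    · exact H.zt_conj h' hjt
  refine ⟨w, ⟨hwt, hww, (H.classes hww hw1).resolve_right fun e => ?_⟩, pow_mem (mem_zpowers _) _, hwl, hwl'⟩
  refine H.zt_mul_ne hwl2 h ?_ (show IsConj (w * l * l) t by rwa [mul_assoc, h.sq, mul_one])
  rw [← mul_assoc, ← hwl]

/-- `l` and `l'` have the same four-group. -/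
def Same (l l' : G) : Prop :=
  ∀ g g', Tr z t l g → Tr z t l' g' → g⁻¹ * g' ∈ normalizer (H.E : Set G)

theorem same_self (l : G) : H.Same l l := by
  intro g g' hg hg'
  refine (H.norm_zt ?_ (SuzukiType.mul_z (z := t) (inv_z (z := t) hg.comm) hg'.comm)).1
  calc g⁻¹ * g' * z = g⁻¹ * (g' * z * g'⁻¹) * g' := by group
    _ = g⁻¹ * (g * z * g⁻¹) * g' := by rw [hg.1, hg'.1]
    _ = _ := by group

theorem same_symm {l l' : G} (h : H.Same l l') : H.Same l' l := fun g g' hg hg' => by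
  have := inv_mem (h g' g hg' hg)
  rwa [mul_inv_rev, inv_inv] at this

theorem same_trans {l l' l'' : G} (hl : ZT z t l') (h : H.Same l l') (h' : H.Same l' l'') :
    H.Same l l'' := fun g g'' hg hg'' => by
  obtain ⟨g', hg'⟩ := H.exists_tr hl
  have := mul_mem (h g g' hg hg') (h' g' g'' hg' hg'')
  rwa [show g⁻¹ * g' * (g'⁻¹ * g'') = g⁻¹ * g'' by group] at this

theorem same_comm {l l' : G} (h : ZT z t l) (h' : ZT z t l') (hll : l * l' = l' * l) : H.Same l l' := by
  intro g g' hg hg'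
  have hgi : g⁻¹ * t = t * g⁻¹ := inv_z (z := t) hg.comm
  have hx := H.zt_conj h' hgi
  rw [inv_inv] at hx
  have hxz : g⁻¹ * l' * g * z = z * (g⁻¹ * l' * g) := by
    have hlz : g⁻¹ * l * g = z := by rw [← hg.1]; group
    rw [← hlz]
    calc g⁻¹ * l' * g * (g⁻¹ * l * g) = g⁻¹ * (l' * l) * g := by group
      _ = g⁻¹ * (l * l') * g := by rw [hll]
      _ = _ := by group
  obtain ⟨k, hk1, hk2, hk3⟩ := H.carry hxz hx.comm hx.sq hx.conj
  have hgk : Tr z t l' (g * k) := by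
    have := (show Tr z t (g⁻¹ * l' * g) k from ⟨hk1, hk2⟩).left hg.comm
    rwa [show g * (g⁻¹ * l' * g) * g⁻¹ = l' by group] at this
  have h0 := mul_mem hk3 (H.same_self l' (g * k) g' hgk hg')
  rwa [show k * ((g * k)⁻¹ * g') = g⁻¹ * g' by group] at h0

theorem same_even {l l' : G} (h : ZT z t l) (h' : ZT z t l') (he : Even (orderOf (l * l'))) :
    H.Same l l' := by
  obtain ⟨w, hw, -, hwl, hwl'⟩ := H.zt_middle h h' he
  exact H.same_trans hw (H.same_comm h hw hwl.symm) (H.same_comm hw h' hwl')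

end Sec

end Cfsg.Agent.SuzukiLocal
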